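import Mathlib
import Cfsg.Prelude.Def_Blocks
import Cfsg.Agent.Characters.Core
import Cfsg.Agent.Blocks.Local
import Cfsg.Agent.Blocks.BlockIdem
import Cfsg.Agent.Blocks.Central
import Cfsg.Agent.Blocks.ExistsModular
import Cfsg.Agent.S0135

/-!
# The Glauberman correspondence for a `p`-group of operators, via the Brauer map

`S` is a `p`-group acting on the finite group `G` of order prime to `p`, `ι : D →* G` is an
embedding whose range is the set of fixed points.  For an `S`-invariant `χ ∈ Irr(G)` and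
`β ∈ Irr(D)` the number `b χ β` is the value of `β` (as a central character) at the restriction to
`D` of the idempotent of `χ`; modulo a maximal ideal over `p` these are the entries of a
permutation matrix.
-/

set_option autoImplicit false
set_option linter.unusedSectionVars false
set_option linter.unusedVariables false

namespace Cfsg.Agent.H593.GlaubermanP

open Cfsg
open scoped ComplexConjugate
open Cfsg.Agent.Blocks.Local
open Cfsg.Agent.Blocks.ConvCentral (conv conv_apply lin lin_def lin_conv irr_one_ne_zero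
  isClassFunction_conv)
open Cfsg.Agent.Blocks.BlockIdem (eq_zero_of_lin isClassFunction_blockCoeff lin_blockCoeff)
open Cfsg.Agent.Characters.Core

section Idem

variable {G : Type*} [Group G] [Fintype G]

/-- The central idempotent of an irreducible character, as a function on the group. -/
noncomputable abbrev idem (χ : IrrCharacter G) : G → ℂ := blockCoeff ({χ} : Set (IrrCharacter G))

theorem idem_apply (χ : IrrCharacter G) (g : G) :
    idem χ g = (Nat.card G : ℂ)⁻¹ * ((χ : G → ℂ) 1 * conj ((χ : G → ℂ) g)) := by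
  show blockCoeff ({χ} : Set (IrrCharacter G)) g = _
  rw [Cfsg.Agent.Blocks.Basic.blockCoeff_def, finsum_mem_singleton]

theorem lin_idem (χ ψ : IrrCharacter G) [Decidable (ψ = χ)] :
    lin (ψ : G → ℂ) (idem χ) = if ψ = χ then (ψ : G → ℂ) 1 else 0 := by
  classical
  rw [lin_blockCoeff]
  simp only [Set.mem_singleton_iff]

theorem lin_smul (χ : G → ℂ) (c : ℂ) (f : G → ℂ) : lin χ (c • f) = c * lin χ f := by
  rw [lin_def, lin_def, Finset.mul_sum]
  refine Finset.sum_congr rfl fun x _ => ?_
  rw [Pi.smul_apply, smul_eq_mul, mul_assoc]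

theorem lin_sub (χ : G → ℂ) (f f' : G → ℂ) : lin χ (f - f') = lin χ f - lin χ f' := by
  rw [lin_def, lin_def, lin_def, ← Finset.sum_sub_distrib]
  refine Finset.sum_congr rfl fun x _ => ?_
  rw [Pi.sub_apply, sub_mul]

theorem lin_sum {J : Type*} (s : Finset J) (χ : G → ℂ) (f : J → G → ℂ) :
    lin χ (fun g => ∑ j ∈ s, f j g) = ∑ j ∈ s, lin χ (f j) := by
  simp only [lin_def, Finset.sum_mul]
  rw [Finset.sum_comm]

/-- Convolution with a central idempotent. -/
theorem conv_idem (χ : IrrCharacter G) {z : G → ℂ} (hz : IsClassFunction G z) :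
    conv z (idem χ) = (lin (χ : G → ℂ) z / (χ : G → ℂ) 1) • idem χ := by
  classical
  have hc : IsClassFunction G (idem χ) := isClassFunction_blockCoeff (G := G) {χ}
  have h : conv z (idem χ) - (lin (χ : G → ℂ) z / (χ : G → ℂ) 1) • idem χ = 0 := by
    refine eq_zero_of_lin (fun g k => ?_) fun ψ => ?_
    · rw [Pi.sub_apply, Pi.sub_apply, Pi.smul_apply, Pi.smul_apply,
        isClassFunction_conv hz hc g k, hc g k]
    · rw [lin_sub, lin_smul, lin_idem]
      have h1 := lin_conv ψ.2 (f := z) (f' := idem χ) hz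
      rw [lin_idem] at h1
      have hψ1 := irr_one_ne_zero ψ.2
      by_cases h : ψ = χ
      · rw [if_pos h] at h1 ⊢
        subst h
        rw [mul_right_cancel₀ hψ1 h1]
        field_simp
        ring
      · rw [if_neg h] at h1 ⊢
        rw [mul_zero] at h1
        rw [(mul_eq_zero.1 h1).resolve_right hψ1, mul_zero, sub_zero]
  exact sub_eq_zero.1 h

/-- The idempotents sum to the indicator of the identity. -/
theorem sum_idem [Fintype (IrrCharacter G)] [DecidableEq G] (g : G) :
    ∑ χ : IrrCharacter G, idem χ g = if g = 1 then 1 else 0 := by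
  classical
  have h : (fun g => ∑ χ : IrrCharacter G, idem χ g) - (fun g : G => if g = 1 then (1 : ℂ) else 0)
      = 0 := by
    refine eq_zero_of_lin (fun g k => ?_) fun ψ => ?_
    · rw [Pi.sub_apply, Pi.sub_apply]
      congr 1
      · exact Finset.sum_congr rfl fun χ _ => isClassFunction_blockCoeff {χ} g k
      · have : k * g * k⁻¹ = 1 ↔ g = 1 := by
          rw [mul_inv_eq_one, mul_eq_left]
        simp only [this]
    · rw [lin_sub, lin_sum]
      have h1 : ∀ χ : IrrCharacter G, lin (ψ : G → ℂ) (idem χ) =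
          if ψ = χ then (ψ : G → ℂ) 1 else 0 := fun χ => lin_idem χ ψ
      rw [Finset.sum_congr rfl fun χ _ => h1 χ, Finset.sum_ite_eq, if_pos (Finset.mem_univ _),
        lin_def]
      simp
  exact sub_eq_zero.1 (congrFun h g)

theorem charDegree_dvd {χ : G → ℂ} (hχ : IsIrrCharacter G χ) : charDegree χ ∣ Nat.card G := by
  obtain ⟨n, ρ, hρ, rfl⟩ := hχ
  have h1 : ρ.character 1 = (Module.finrank ℂ (Fin n → ℂ) : ℂ) := Representation.char_one ρ
  rw [Cfsg.Agent.Blocks.Basic.charDegree_of_eq h1]
  have := hρ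
  exact Cfsg.Agent.S0135.result ρ

end Idem

section Ext

variable {G : Type*} [Group G] {D : Type*} [Group D] (ι : D →* G)

open Classical in
/-- auxiliary -/
noncomputable def pick (h : D → ℂ) (P : D → Prop) : ℂ :=
  if ∃ c, P c then h (Classical.epsilon P) else 0

/-- Extension of a class function along a fusion-controlling embedding. -/
noncomputable def ext (h : D → ℂ) (g : G) : ℂ := pick h (fun c => IsConj g (ι c))

theorem ext_congr (h : D → ℂ) {g g' : G} (hgg : ∀ c, IsConj g (ι c) ↔ IsConj g' (ι c)) :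
    ext ι h g = ext ι h g' := by
  unfold ext
  congr 1
  funext c
  exact propext (hgg c)

theorem ext_conj (h : D → ℂ) : IsClassFunction G (ext ι h) := by
  intro g k
  refine ext_congr ι h fun c => ?_
  have : IsConj g (k * g * k⁻¹) := isConj_iff.2 ⟨k, rfl⟩
  exact ⟨fun h => this.trans h, fun h => this.symm.trans h⟩

theorem ext_apply {h : D → ℂ} (hh : IsClassFunction D h)
    (hfus : ∀ c c' : D, IsConj (ι c) (ι c') → IsConj c c') (c : D) : ext ι h (ι c) = h c := by
  unfold ext pick
  rw [if_pos ⟨c, IsConj.refl _⟩]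
  have h1 : IsConj (ι c) (ι (Classical.epsilon fun c' => IsConj (ι c) (ι c'))) :=
    Classical.epsilon_spec (p := fun c' => IsConj (ι c) (ι c')) ⟨c, IsConj.refl _⟩
  obtain ⟨d, hd⟩ := isConj_iff.1 (hfus _ _ h1)
  rw [← hd, hh]

theorem ext_mem {M : Ideal AlgInt} [M.IsPrime] {h : D → ℂ} (hh : ∀ c, MemLocalRing M (h c))
    (g : G) : MemLocalRing M (ext ι h g) := by
  unfold ext pick
  split_ifs
  · exact hh _
  · exact memLocalRing_zero

end Ext

section Fixed

variable {M : Ideal AlgInt} {p : ℕ} [Fact p.Prime]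

/-- Weighted fixed point lemma modulo the local ideal. -/
theorem sum_fixed (hM : IsPModular p M) {P Ω : Type*} [Group P] [MulAction P Ω] [Fintype Ω]
    (hP : IsPGroup p P) (f : Ω → ℂ) (hf : ∀ (u : P) (ω : Ω), f (u • ω) = f ω)
    (hfl : ∀ ω, MemLocalRing M (f ω)) [DecidablePred (· ∈ MulAction.fixedPoints P Ω)] :
    MemLocalIdeal M (∑ ω, f ω -
      ∑ ω ∈ Finset.univ.filter (· ∈ MulAction.fixedPoints P Ω), f ω) := by
  have := isPrime_of_isPModular hM
  obtain ⟨a, ha⟩ := Cfsg.Agent.Blocks.OrbitSum.sum_eq_sum_fixed_add_smul (p := p) hP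
    (fun ω => (⟨f ω, hfl ω⟩ : localRing M)) (fun u ω => Subtype.ext (hf u ω))
  have h1 := congrArg (fun z : localRing M => (z : ℂ)) ha
  simp only [nsmul_eq_mul] at h1
  push_cast at h1
  rw [h1, add_sub_cancel_left]
  exact memLocalIdeal_mul_right (memLocalIdeal_p hM) a.2

end Fixed

section Main

variable {G : Type*} [Group G] [Fintype G] {D : Type*} [Group D] [Fintype D] (ι : D →* G)

/-- The matrix of the Brauer map in terms of idempotents. -/
noncomputable def b (χ : IrrCharacter G) (β : IrrCharacter D) : ℂ :=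
  lin (β : D → ℂ) (idem χ ∘ ι) / (β : D → ℂ) 1

theorem b_def (χ : IrrCharacter G) (β : IrrCharacter D) :
    b ι χ β = lin (β : D → ℂ) (idem χ ∘ ι) / (β : D → ℂ) 1 := rfl

/-- `b` in terms of the multiplicity. -/
theorem b_eq (χ : IrrCharacter G) (β : IrrCharacter D) {m : ℕ}
    (hm : classInner ((χ : G → ℂ) ∘ ι) (β : D → ℂ) = m) :
    b ι χ β = (charDegree (χ : G → ℂ) : ℂ) * (Nat.card D : ℂ) * (Nat.card G : ℂ)⁻¹ *
      ((charDegree (β : D → ℂ) : ℂ))⁻¹ * m := by
  have h1 : classInner (β : D → ℂ) ((χ : G → ℂ) ∘ ι) = m := by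
    rw [← classInner_conj_symm, hm]
    simp
  have h2 : lin (β : D → ℂ) (idem χ ∘ ι) = (Nat.card G : ℂ)⁻¹ * (χ : G → ℂ) 1 *
      ((Nat.card D : ℂ) * classInner (β : D → ℂ) ((χ : G → ℂ) ∘ ι)) := by
    rw [lin_def, Cfsg.Agent.Characters.Core.classInner_def, ← mul_assoc (Nat.card D : ℂ),
      mul_inv_cancel₀ card_ne_zero_complex, one_mul, Finset.mul_sum]
    refine Finset.sum_congr rfl fun c _ => ?_
    rw [Function.comp_apply, Function.comp_apply, idem_apply]
    ring
  rw [b_def, h2, h1, Cfsg.Agent.Blocks.Basic.irr_one_eq_charDegree χ.2,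
    Cfsg.Agent.Blocks.Basic.irr_one_eq_charDegree β.2]
  ring

variable {M : Ideal AlgInt} {p : ℕ} [Fact p.Prime]

theorem memLocalRing_inv_card (hM : IsPModular p M) (hG : ¬ p ∣ Nat.card G) :
    MemLocalRing M ((Nat.card G : ℂ)⁻¹) := memLocalRing_inv_natCast hM hG

theorem memLocalRing_irr [M.IsPrime] (χ : IrrCharacter G) (g : G) :
    MemLocalRing M ((χ : G → ℂ) g) :=
  memLocalRing_of_isIntegral (Cfsg.Agent.Blocks.Central.isIntegral_irr χ.2 g)

end Main

end Cfsg.Agent.H593.GlaubermanP
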