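import Mathlib
import Cfsg.Prelude.Def_Blocks
import Cfsg.Agent.Characters.Core
import Cfsg.Agent.Blocks.Local
import Cfsg.Agent.Blocks.Basic
import Cfsg.Agent.Blocks.ConvCentral
import Cfsg.Agent.Blocks.DefectCard
import Cfsg.Agent.Blocks.Deflate
import Cfsg.Agent.H593.GlaubermanP
import Cfsg.Agent.S0165
import Cfsg.Agent.S0840

/-!
# Robinson's count of blocks with a normal defect group: character sums

* `dichotomy`: for a normal subgroup `D`, an irreducible character is either constant on cosets of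
  `D` or has zero sum on every coset;
* `sum_sylow`: the sum of the conjugate of an irreducible character over a Sylow subgroup;
* `card_pairs`: the number of pairs `(y, z)` of conjugates with `z y⁻¹ ∈ S` as a character sum.
-/

set_option autoImplicit false
set_option linter.unusedSectionVars false
set_option linter.unusedVariables false

namespace Cfsg.Agent.H593.Robinson

open Cfsg
open scoped ComplexConjugate
open Cfsg.Agent.Blocks.Local
open Cfsg.Agent.Blocks.Basic
open Cfsg.Agent.Characters.Core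

variable {G : Type*} [Group G]

open Classical in
theorem dichotomy [Fintype G] (D : Subgroup G) [D.Normal] [Fintype D] {χ : G → ℂ}
    (hχ : IsIrrCharacter G χ) :
    (∀ x ∈ D, ∀ g : G, χ (x * g) = χ g) ∨ (∀ g : G, ∑ x : D, χ (x * g) = 0) := by
  by_cases h0 : ∑ n : D, χ n = 0
  · right
    intro g
    have hf : IsClassFunction G (fun x : G => if x ∈ D then (1 : ℂ) else 0) := by
      intro x y
      have : y * x * y⁻¹ ∈ D ↔ x ∈ D := by
        constructor
        · intro h
          have := (inferInstance : D.Normal).conj_mem _ h y⁻¹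
          simpa [mul_assoc] using this
        · intro h
          exact (inferInstance : D.Normal).conj_mem _ h y
      simp only [this]
    have h1 := Cfsg.Agent.Blocks.ConvCentral.lin_conv hχ (f' := fun x : G => if x = g then (1 : ℂ)
      else 0) hf
    have h2 : Cfsg.Agent.Blocks.ConvCentral.lin χ (fun x : G => if x ∈ D then (1 : ℂ) else 0) =
        ∑ n : D, χ n := by
      rw [Cfsg.Agent.Blocks.ConvCentral.lin_def]
      simp only [ite_mul, one_mul, zero_mul]
      rw [← Finset.sum_filter]
      symm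
      refine (Finset.sum_subtype _ (fun x => ?_) _).symm
      simp
    have h3 : Cfsg.Agent.Blocks.ConvCentral.lin χ (Cfsg.Agent.Blocks.ConvCentral.conv
        (fun x : G => if x ∈ D then (1 : ℂ) else 0) (fun x : G => if x = g then (1 : ℂ) else 0)) =
        ∑ x : D, χ (x * g) := by
      rw [Cfsg.Agent.Blocks.ConvCentral.lin_def]
      have : ∀ y : G, Cfsg.Agent.Blocks.ConvCentral.conv
        (fun x : G => if x ∈ D then (1 : ℂ) else 0) (fun x : G => if x = g then (1 : ℂ) else 0) y =
          if y * g⁻¹ ∈ D then 1 else 0 := by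
        intro y
        rw [Cfsg.Agent.Blocks.ConvCentral.conv_apply]
        have h4 : ∀ x : G, (if x ∈ D then (1 : ℂ) else 0) * (if x⁻¹ * y = g then (1 : ℂ) else 0) =
            if x = y * g⁻¹ then (if y * g⁻¹ ∈ D then 1 else 0) else 0 := by
          intro x
          by_cases hx : x = y * g⁻¹
          · subst hx
            simp
          · have : ¬ x⁻¹ * y = g := by
              intro h
              apply hx
              rw [← h]
              group
            simp [this, hx]
        rw [Finset.sum_congr rfl fun x _ => h4 x, Finset.sum_ite_eq']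
        simp
      simp only [this, ite_mul, one_mul, zero_mul]
      rw [← Finset.sum_filter]
      symm
      refine Finset.sum_bij (fun (x : D) _ => (x : G) * g) ?_ ?_ ?_ ?_
      · intro x _
        simp
      · intro x _ y _ h
        exact Subtype.ext (mul_right_cancel h)
      · intro y hy
        rw [Finset.mem_filter] at hy
        exact ⟨⟨y * g⁻¹, hy.2⟩, Finset.mem_univ _, by simp⟩
      · intro x _
        rfl
    rw [h2, h3, h0, zero_mul] at h1
    exact (mul_eq_zero.1 h1).resolve_right (irr_one_ne_zero hχ)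
  · left
    obtain ⟨χ', hχ'⟩ := Cfsg.Agent.Blocks.Deflate.exists_deflation D χ hχ h0
    intro x hx g
    rw [hχ']
    simp only [Function.comp_apply]
    rw [QuotientGroup.mk_mul, (QuotientGroup.eq_one_iff x).2 hx, one_mul]

/-- The characters with `D` in the kernel of degree divisible by the `p`-part of `|G : D|` vanish
off the elements whose image in `G/D` is `p`-regular. -/
theorem vanish [Fintype G] (p : ℕ) [hp : Fact p.Prime] (D : Subgroup G) [D.Normal] {χ : G → ℂ}
    (hχ : IsIrrCharacter G χ) (hker : ∀ x ∈ D, ∀ g : G, χ (x * g) = χ g)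
    (hdeg : p ^ (Nat.card (G ⧸ D)).factorization p ∣ charDegree χ) (g : G)
    (hg : p ∣ orderOf (QuotientGroup.mk g : G ⧸ D)) : χ g = 0 := by
  classical
  have := Fintype.ofFinite D
  have h0 : ∑ n : D, χ n ≠ 0 := by
    have : ∀ n : D, χ n = χ 1 := by
      intro n
      have := hker n n.2 1
      rwa [mul_one] at this
    rw [Finset.sum_congr rfl fun n _ => this n, Finset.sum_const, nsmul_eq_mul]
    refine mul_ne_zero ?_ (irr_one_ne_zero hχ)
    rw [Finset.card_univ]
    exact Nat.cast_ne_zero.2 Fintype.card_ne_zero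
  obtain ⟨⟨χ', hχ'⟩, he⟩ := Cfsg.Agent.Blocks.Deflate.exists_deflation D χ hχ h0
  simp only at he
  obtain ⟨n, ρ, hρ, rfl⟩ := hχ'
  have hd : charDegree χ = Module.finrank ℂ (Fin n → ℂ) := by
    apply charDegree_of_eq
    rw [he, Function.comp_apply, QuotientGroup.mk_one, Representation.char_one]
  rw [he, Function.comp_apply]
  rw [hd] at hdeg
  have := hρ
  refine Cfsg.Agent.S0165.result ρ p _ hp.out (Nat.ordProj_dvd _ _) ?_ hdeg _ hg
  exact Nat.pow_succ_factorization_not_dvd Nat.card_pos.ne' hp.out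

/-- The sum of the conjugate of a character over a subgroup is the order times a natural number. -/
theorem sum_subgroup_nat [Fintype G] (S : Subgroup G) [Fintype S] {χ : G → ℂ}
    (hχ : IsIrrCharacter G χ) :
    ∃ r : ℕ, ∑ s : S, conj (χ s) = (Nat.card S : ℂ) * r := by
  have h1 : IsCharacter S (χ ∘ S.subtype) := isCharacter_comp S.subtype (isIrr_isCharacter hχ)
  obtain ⟨r, hr⟩ := classInner_isNat (isCharacter_one (G := S)) h1
  refine ⟨r, ?_⟩
  rw [← hr, Cfsg.Agent.Characters.Core.classInner_def, ← mul_assoc, mul_inv_cancel₀ (Nat.cast_ne_zero.2 Nat.card_pos.ne'),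
    one_mul]
  refine Finset.sum_congr rfl fun s _ => ?_
  simp

theorem sum_sylow_of_sum_zero [Fintype G] (D : Subgroup G) [D.Normal] [Fintype D]
    (S : Subgroup G) [Fintype S] (hDS : D ≤ S) {χ : G → ℂ}
    (h : ∀ g : G, ∑ x : D, χ (x * g) = 0) : ∑ s : S, conj (χ s) = 0 := by
  have h1 : ∀ x : D, ∑ s : S, conj (χ s) = ∑ s : S, conj (χ (x * s)) := by
    intro x
    refine (Fintype.sum_equiv (Equiv.mulLeft (⟨x, hDS x.2⟩ : S)) _ _ fun s => ?_).symm
    rfl
  have h2 : (Nat.card D : ℂ) * ∑ s : S, conj (χ s) = 0 := by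
    calc (Nat.card D : ℂ) * ∑ s : S, conj (χ s) = ∑ x : D, ∑ s : S, conj (χ s) := by
          rw [Finset.sum_const, nsmul_eq_mul, Nat.card_eq_fintype_card, Finset.card_univ]
      _ = ∑ x : D, ∑ s : S, conj (χ (x * s)) := Finset.sum_congr rfl fun x _ => h1 x
      _ = ∑ s : S, ∑ x : D, conj (χ (x * s)) := Finset.sum_comm
      _ = ∑ s : S, conj (∑ x : D, χ (x * s)) := Finset.sum_congr rfl fun s _ => (map_sum _ _ _).symm
      _ = 0 := by
          refine Finset.sum_eq_zero fun s _ => ?_
          rw [h s, map_zero]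
  exact (mul_eq_zero.1 h2).resolve_left (Nat.cast_ne_zero.2 Nat.card_pos.ne')

theorem sum_sylow_of_defect_zero [Fintype G] (p : ℕ) [hp : Fact p.Prime] (D : Subgroup G)
    [D.Normal] (S : Subgroup G) [Fintype S] (hS : IsPGroup p S) (hDS : D ≤ S) {χ : G → ℂ}
    (hχ : IsIrrCharacter G χ) (hker : ∀ x ∈ D, ∀ g : G, χ (x * g) = χ g)
    (hdeg : p ^ (Nat.card (G ⧸ D)).factorization p ∣ charDegree χ) :
    ∑ s : S, conj (χ s) = (Nat.card D : ℂ) * χ 1 := by
  classical
  have := Fintype.ofFinite D
  have hval : ∀ s : S, conj (χ s) = if (s : G) ∈ D then χ 1 else 0 := by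
    intro s
    by_cases hs : (s : G) ∈ D
    · rw [if_pos hs]
      have := hker s hs 1
      rw [mul_one] at this
      rw [this, irr_one_eq_charDegree hχ, Complex.conj_natCast]
    · rw [if_neg hs]
      have : χ s = 0 := by
        refine vanish p D hχ hker hdeg _ ?_
        have h1 : orderOf (QuotientGroup.mk (s : G) : G ⧸ D) ∣ orderOf s := by
          have := orderOf_map_dvd ((QuotientGroup.mk' D).comp S.subtype) s
          exact this
        obtain ⟨k, hk⟩ := (IsPGroup.iff_orderOf.1 hS) s
        rw [hk, Nat.dvd_prime_pow hp.out] at h1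
        obtain ⟨m, hm, hm'⟩ := h1
        rw [hm']
        refine dvd_pow_self p ?_
        rintro rfl
        rw [pow_zero, orderOf_eq_one_iff, QuotientGroup.eq_one_iff] at hm'
        exact hs hm'
      rw [this, map_zero]
  rw [Finset.sum_congr rfl fun s _ => hval s, ← Finset.sum_filter, Finset.sum_const, nsmul_eq_mul]
  congr 2
  rw [Nat.card_eq_fintype_card, ← Finset.card_univ]
  symm
  refine Finset.card_bij (fun (x : D) _ => (⟨x, hDS x.2⟩ : S)) ?_ ?_ ?_
  · intro x _
    simp
  · intro x _ y _ h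
    exact Subtype.ext (congrArg (fun s : S => (s : G)) h)
  · intro s hs
    rw [Finset.mem_filter] at hs
    exact ⟨⟨s, hs.2⟩, Finset.mem_univ _, rfl⟩

/-- The number of pairs `(y, z)` with `y ~ u`, `z ~ v` and `z y⁻¹ ∈ S`. -/
theorem card_pairs [Fintype G] [Fintype (IrrCharacter G)] (S : Subgroup G) [Fintype S] (u v : G) :
    (Nat.card {yz : G × G // IsConj u yz.1 ∧ IsConj v yz.2 ∧ yz.2 * yz.1⁻¹ ∈ S} : ℂ) =
      ∑ χ : IrrCharacter G, (χ : G → ℂ) 1 / (Nat.card G : ℂ) * centralChar (χ : G → ℂ) v *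
        centralChar (χ : G → ℂ) u⁻¹ * ∑ s : S, conj ((χ : G → ℂ) s) := by
  classical
  let φ : {yz : G × G // IsConj u yz.1 ∧ IsConj v yz.2 ∧ yz.2 * yz.1⁻¹ ∈ S} → S :=
    fun yz => ⟨yz.1.2 * yz.1.1⁻¹, yz.2.2.2⟩
  have hinv : ∀ a b : G, IsConj a b → IsConj a⁻¹ b⁻¹ := by
    intro a b h
    obtain ⟨c, hc⟩ := isConj_iff.1 h
    exact isConj_iff.2 ⟨c, by rw [← hc]; group⟩
  have e : ∀ s : S, {yz // φ yz = s} ≃
      {q : G × G // IsConj v q.1 ∧ IsConj u⁻¹ q.2 ∧ q.1 * q.2 = s} := fun s =>
    { toFun := fun yz => ⟨(yz.1.1.2, yz.1.1.1⁻¹), yz.1.2.2.1, hinv _ _ yz.1.2.1, by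
          have := yz.2
          exact congrArg (fun t : S => (t : G)) this⟩
      invFun := fun q => ⟨⟨(q.1.2⁻¹, q.1.1), by
          have := hinv _ _ q.2.2.1
          rwa [inv_inv] at this, q.2.1, by
          show q.1.1 * (q.1.2⁻¹)⁻¹ ∈ S
          rw [inv_inv, q.2.2.2]
          exact s.2⟩, by
          apply Subtype.ext
          show q.1.1 * (q.1.2⁻¹)⁻¹ = s
          rw [inv_inv, q.2.2.2]⟩
      left_inv := by
        rintro ⟨⟨⟨y, z⟩, h⟩, h'⟩
        simp
      right_inv := by
        rintro ⟨⟨a, b⟩, h1, h2, h3⟩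
        simp }
  rw [← Nat.card_congr (Equiv.sigmaFiberEquiv φ), Nat.card_sigma,
    Finset.sum_congr rfl fun s _ => Nat.card_congr (e s)]
  push_cast
  have h1 : ∀ s : S, (Nat.card {q : G × G // IsConj v q.1 ∧ IsConj u⁻¹ q.2 ∧ q.1 * q.2 = s} : ℂ) =
      ∑ χ : IrrCharacter G, (χ : G → ℂ) 1 / (Nat.card G : ℂ) * centralChar (χ : G → ℂ) v *
        centralChar (χ : G → ℂ) u⁻¹ * conj ((χ : G → ℂ) s) := by
    intro s
    have hcard : ∀ a : G, Nat.card {x : G // IsConj a x} =
        (Subgroup.centralizer ({a} : Set G)).index := by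
      intro a
      rw [index_centralizer_eq_ncard]
      rfl
    rw [Cfsg.Agent.S0840.result v u⁻¹ s, finsum_eq_sum_of_fintype, Finset.mul_sum, hcard, hcard]
    refine Finset.sum_congr rfl fun χ _ => ?_
    rw [centralChar_def, centralChar_def]
    have h1 := irr_one_ne_zero χ.2
    have h2 : (Nat.card G : ℂ) ≠ 0 := Nat.cast_ne_zero.2 Nat.card_pos.ne'
    field_simp
  rw [Finset.sum_congr rfl fun s _ => h1 s, Finset.sum_comm]
  refine Finset.sum_congr rfl fun χ _ => ?_
  rw [Finset.mul_sum]

end Cfsg.Agent.H593.Robinson
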