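import Cfsg.Agent.Blocks.CyclicUpper
import Cfsg.Prelude.Def_Local

/-!
# The `p'`-core of the centralizer of a Sylow subgroup of prime order
-/

set_option autoImplicit false

namespace Cfsg.Agent.H593.CyclicCore

open Cfsg
open Cfsg.Agent.Blocks.CyclicUpper

variable {G : Type*} [Group G] [Finite G] {p : ℕ} [hp : Fact p.Prime]

theorem mem_core (P : Sylow p G) (hP : Nat.card P = p) {x : G} (hx : x ∈ P) (hx1 : x ≠ 1)
    {y : G} (hy : y ∈ Subgroup.centralizer ((P : Subgroup G) : Set G)) (hyp : ¬ p ∣ orderOf y) :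
    y ∈ centralizerPPrimeCore p x := by
  have hz := zpowers_eq P hP hx hx1
  set C := Subgroup.centralizer ({x} : Set G) with hC
  have hPC : (P : Subgroup G) ≤ C := by
    rw [← hz, Subgroup.zpowers_le, hC, Subgroup.mem_centralizer_iff]
    intro y hy
    rw [Set.mem_singleton_iff.1 hy]
  have hcomm : ∀ c : C, ∀ y ∈ (P : Subgroup G), (c : G) * y = y * c := by
    intro c y hy
    rw [← hz] at hy
    obtain ⟨k, rfl⟩ := Subgroup.mem_zpowers_iff.1 hy
    have h1 : Commute (c : G) x :=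
      ((Subgroup.mem_centralizer_iff.1 c.2) x (Set.mem_singleton x)).symm
    exact (h1.zpow_right k).eq
  let Q : Sylow p C := P.subtype hPC
  have hQmem : ∀ y : C, y ∈ (Q : Subgroup C) → (y : G) ∈ (P : Subgroup G) := by
    intro y hy
    exact Subgroup.mem_subgroupOf.1 hy
  have hQN : Subgroup.normalizer ((Q : Subgroup C) : Set C) ≤
      Subgroup.centralizer ((Q : Subgroup C) : Set C) := by
    intro c _
    rw [Subgroup.mem_centralizer_iff]
    intro y hy
    exact Subtype.ext (hcomm c y (hQmem y hy)).symm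
  have hle : (MonoidHom.transferSylow Q hQN).ker ≤ pPrimeCore p C := by
    apply le_sSup
    refine ⟨inferInstance, ?_⟩
    rw [Nat.coprime_comm]
    exact (Nat.Prime.coprime_iff_not_dvd hp.out).2 (MonoidHom.not_dvd_card_ker_transferSylow Q hQN)
  have hyC : y ∈ C := by
    rw [hC, Subgroup.mem_centralizer_iff]
    intro z hz
    rw [Set.mem_singleton_iff.1 hz]
    exact Subgroup.mem_centralizer_iff.1 hy x hx
  refine ⟨⟨y, hyC⟩, hle ?_, rfl⟩
  rw [MonoidHom.mem_ker]
  have h1 : orderOf (MonoidHom.transferSylow Q hQN ⟨y, hyC⟩) ∣ orderOf y := by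
    have h2 := orderOf_map_dvd (MonoidHom.transferSylow Q hQN) (⟨y, hyC⟩ : C)
    rwa [← Subgroup.orderOf_coe (⟨y, hyC⟩ : C)] at h2
  obtain ⟨k, hk⟩ := Q.2 (MonoidHom.transferSylow Q hQN ⟨y, hyC⟩)
  have h3 : orderOf (MonoidHom.transferSylow Q hQN ⟨y, hyC⟩) ∣ p ^ k := orderOf_dvd_of_pow_eq_one hk
  obtain ⟨j, _, hj⟩ := (Nat.dvd_prime_pow hp.out).1 h3
  rcases Nat.eq_zero_or_pos j with rfl | hj0
  · rw [pow_zero, orderOf_eq_one_iff] at hj
    exact hj
  · exfalso
    apply hyp
    rw [hj] at h1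
    exact (dvd_pow_self p hj0.ne').trans h1

end Cfsg.Agent.H593.CyclicCore
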