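import Cfsg.Agent.H593.GlaubermanP

/-!
# The Glauberman correspondence for a `p`-group of operators, main part
-/

set_option autoImplicit false
set_option linter.unusedSectionVars false
set_option linter.unusedVariables false

namespace Cfsg.Agent.H593.GlaubermanP

open Cfsg
open scoped ComplexConjugate
open Cfsg.Agent.Blocks.Local
open Cfsg.Agent.Blocks.ConvCentral (conv conv_apply lin lin_def lin_conv irr_one_ne_zero
  isClassFunction_conv)
open Cfsg.Agent.Blocks.BlockIdem (eq_zero_of_lin isClassFunction_blockCoeff lin_blockCoeff)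
open Cfsg.Agent.Characters.Core

variable {G : Type*} [Group G] [Fintype G] {D : Type*} [Group D] [Fintype D] {ι : D →* G}
  {S : Type*} [Group S] [MulDistribMulAction S G]
  {M : Ideal AlgInt} {p : ℕ} [Fact p.Prime]

/-- `S`-invariant functions. -/
def Inv (S : Type*) [Group S] [MulDistribMulAction S G] (f : G → ℂ) : Prop :=
  ∀ (s : S) (g : G), f (s • g) = f g

/-- The coprime `p`-group action. -/
structure Setup (S : Type*) [Group S] [MulDistribMulAction S G] (ι : D →* G) (p : ℕ) :
    Prop where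
  inj : Function.Injective ι
  fixed : ∀ g : G, (∀ s : S, s • g = g) ↔ ∃ c, ι c = g
  pgroup : IsPGroup p S
  ndvd : ¬ p ∣ Nat.card G

theorem Setup.ndvd' (h : Setup S ι p) : ¬ p ∣ Nat.card D := fun hd =>
  h.ndvd (hd.trans (Subgroup.card_dvd_of_injective ι h.inj))

theorem Setup.smul (h : Setup S ι p) (s : S) (c : D) : s • ι c = ι c :=
  (h.fixed (ι c)).2 ⟨c, rfl⟩ s

theorem Setup.filter_eq (h : Setup S ι p)
    [DecidablePred (· ∈ MulAction.fixedPoints S G)] [DecidableEq G] :
    Finset.univ.filter (· ∈ MulAction.fixedPoints S G) = Finset.univ.image ι := by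
  ext g
  simp only [Finset.mem_filter, Finset.mem_univ, true_and, Finset.mem_image,
    MulAction.mem_fixedPoints]
  exact h.fixed g

/-- Restriction to the fixed points is multiplicative modulo the local ideal. -/
theorem br_conv (h : Setup S ι p) (hM : IsPModular p M) {f f' : G → ℂ} (hf : Inv S f)
    (hf' : Inv S f') (hl : ∀ g, MemLocalRing M (f g)) (hl' : ∀ g, MemLocalRing M (f' g)) (c : D) :
    MemLocalIdeal M (conv f f' (ι c) - conv (f ∘ ι) (f' ∘ ι) c) := by
  classical
  have hprime := isPrime_of_isPModular hM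
  have h1 := sum_fixed hM (P := S) h.pgroup (fun x : G => f x * f' (x⁻¹ * ι c))
    (fun s x => by
      have h2 : (s • x)⁻¹ * ι c = s • (x⁻¹ * ι c) := by
        rw [smul_mul', smul_inv', h.smul]
      show f (s • x) * f' ((s • x)⁻¹ * ι c) = _
      rw [h2, hf, hf'])
    (fun x => memLocalRing_mul (hl _) (hl' _))
  rw [h.filter_eq, Finset.sum_image (fun x _ y _ hxy => h.inj hxy)] at h1
  rw [conv_apply, conv_apply]
  have h3 : ∀ x : D, (f ∘ ι) x * (f' ∘ ι) (x⁻¹ * c) = f (ι x) * f' ((ι x)⁻¹ * ι c) := by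
    intro x
    rw [Function.comp_apply, Function.comp_apply, map_mul, map_inv]
  rw [Finset.sum_congr rfl fun x _ => h3 x]
  exact h1

/-- Fusion of fixed points. -/
theorem fusion (h : Setup S ι p) {c c' : D} (hcc : IsConj (ι c) (ι c')) : IsConj c c' := by
  classical
  obtain ⟨g₀, hg₀⟩ := isConj_iff.1 hcc
  let X := {g : G // g * ι c * g⁻¹ = ι c'}
  let _ : MulAction S X :=
    { smul := fun s x => ⟨s • (x : G), by
        have h1 := congrArg (fun t => s • t) x.2
        simp only [smul_mul', smul_inv', h.smul] at h1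
        exact h1⟩
      one_smul := fun x => Subtype.ext (one_smul S (x : G))
      mul_smul := fun s t x => Subtype.ext (mul_smul s t (x : G)) }
  have hcoe : ∀ (s : S) (x : X), ((s • x : X) : G) = s • (x : G) := fun _ _ => rfl
  have hcard : Nat.card X = Nat.card (Subgroup.centralizer ({ι c} : Set G)) := by
    refine Nat.card_congr ⟨fun x => ⟨g₀⁻¹ * x, ?_⟩, fun y => ⟨g₀ * y, ?_⟩, fun x => ?_, fun y => ?_⟩
    · rw [Subgroup.mem_centralizer_singleton_iff]
      obtain ⟨x, hx⟩ := x
      show g₀⁻¹ * x * ι c = ι c * (g₀⁻¹ * x)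
      have h1 : x * ι c = ι c' * x := mul_inv_eq_iff_eq_mul.1 hx
      have h2 : g₀ * ι c = ι c' * g₀ := mul_inv_eq_iff_eq_mul.1 hg₀
      have h3 : g₀⁻¹ * ι c' = ι c * g₀⁻¹ := by
        rw [inv_mul_eq_iff_eq_mul, ← mul_assoc, h2, mul_assoc, mul_inv_cancel, mul_one]
      rw [mul_assoc, h1, ← mul_assoc, h3, mul_assoc]
    · have h1 := Subgroup.mem_centralizer_singleton_iff.1 y.2
      calc g₀ * (y : G) * ι c * (g₀ * (y : G))⁻¹ = g₀ * ((y : G) * ι c) * (y : G)⁻¹ * g₀⁻¹ := by
            group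
        _ = ι c' := by rw [h1, ← hg₀]; group
    · exact Subtype.ext (by simp)
    · exact Subtype.ext (by simp)
  have hnd : ¬ p ∣ Nat.card X := by
    rw [hcard]
    exact fun hd => h.ndvd (hd.trans (Subgroup.card_subgroup_dvd_card _))
  have : Finite X := inferInstance
  obtain ⟨x, hx⟩ := h.pgroup.nonempty_fixed_point_of_prime_not_dvd_card X hnd
  obtain ⟨d, hd⟩ := (h.fixed (x : G)).1 (fun s => by
    rw [← hcoe]; exact congrArg Subtype.val (hx s))
  refine isConj_iff.2 ⟨d, h.inj ?_⟩
  rw [map_mul, map_mul, map_inv, hd]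
  exact x.2

theorem inv_one_mem (hM : IsPModular p M) (hD : ¬ p ∣ Nat.card D) (β : IrrCharacter D) :
    MemLocalRing M (((β : D → ℂ) 1)⁻¹) := by
  rw [Cfsg.Agent.Blocks.Basic.irr_one_eq_charDegree β.2]
  exact memLocalRing_inv_natCast hM fun hd => hD (hd.trans (charDegree_dvd β.2))

theorem lin_mem [M.IsPrime] (β : IrrCharacter D) {f : D → ℂ} (hf : ∀ c, MemLocalRing M (f c)) :
    MemLocalRing M (lin (β : D → ℂ) f) := by
  rw [lin_def]
  exact memLocalRing_sum fun c _ => memLocalRing_mul (hf c) (memLocalRing_irr β c)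

theorem lin_div_mem (hM : IsPModular p M) (hD : ¬ p ∣ Nat.card D) (β : IrrCharacter D)
    {f : D → ℂ} (hf : ∀ c, MemLocalRing M (f c)) :
    MemLocalRing M (lin (β : D → ℂ) f / (β : D → ℂ) 1) := by
  have := isPrime_of_isPModular hM
  rw [div_eq_mul_inv]
  exact memLocalRing_mul (lin_mem β hf) (inv_one_mem hM hD β)

theorem lin_div_ideal (hM : IsPModular p M) (hD : ¬ p ∣ Nat.card D) (β : IrrCharacter D)
    {f : D → ℂ} (hf : ∀ c, MemLocalIdeal M (f c)) :
    MemLocalIdeal M (lin (β : D → ℂ) f / (β : D → ℂ) 1) := by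
  have := isPrime_of_isPModular hM
  rw [div_eq_mul_inv, lin_def]
  exact memLocalIdeal_mul_right (memLocalIdeal_sum fun c _ =>
    memLocalIdeal_mul_right (hf c) (memLocalRing_irr β c)) (inv_one_mem hM hD β)

/-- The central characters of `D` composed with the restriction are multiplicative. -/
theorem lin_br (h : Setup S ι p) (hM : IsPModular p M) (β : IrrCharacter D) {f f' : G → ℂ}
    (hf : Inv S f) (hf' : Inv S f') (hc : IsClassFunction G f)
    (hl : ∀ g, MemLocalRing M (f g)) (hl' : ∀ g, MemLocalRing M (f' g)) :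
    MemLocalIdeal M (lin (β : D → ℂ) (conv f f' ∘ ι) / (β : D → ℂ) 1 -
      (lin (β : D → ℂ) (f ∘ ι) / (β : D → ℂ) 1) * (lin (β : D → ℂ) (f' ∘ ι) / (β : D → ℂ) 1)) := by
  have hβ1 := irr_one_ne_zero β.2
  have hc' : IsClassFunction D (f ∘ ι) := by
    intro c d
    rw [Function.comp_apply, map_mul, map_mul, map_inv, hc, Function.comp_apply]
  have h1 := lin_conv β.2 (f := f ∘ ι) (f' := f' ∘ ι) hc'
  have h2 : (lin (β : D → ℂ) (f ∘ ι) / (β : D → ℂ) 1) * (lin (β : D → ℂ) (f' ∘ ι) / (β : D → ℂ) 1)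
      = lin (β : D → ℂ) (conv (f ∘ ι) (f' ∘ ι)) / (β : D → ℂ) 1 := by
    rw [div_mul_div_comm, ← h1, mul_div_mul_right _ _ hβ1]
  rw [h2, ← sub_div, ← lin_sub]
  exact lin_div_ideal hM h.ndvd' β fun c => br_conv h hM hf hf' hl hl' c

theorem idem_mem (hM : IsPModular p M) (hG : ¬ p ∣ Nat.card G) (χ : IrrCharacter G) (g : G) :
    MemLocalRing M (idem χ g) := by
  have := isPrime_of_isPModular hM
  rw [idem_apply, ← isCharacter_apply_inv (isIrr_isCharacter χ.2)]
  exact memLocalRing_mul (memLocalRing_inv_card hM hG)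
    (memLocalRing_mul (memLocalRing_irr χ 1) (memLocalRing_irr χ g⁻¹))

theorem idem_inv {χ : IrrCharacter G} (hχ : Inv S (χ : G → ℂ)) : Inv S (idem χ) := by
  intro s g
  rw [idem_apply, idem_apply, hχ]

theorem idem_class (χ : IrrCharacter G) : IsClassFunction G (idem χ) :=
  isClassFunction_blockCoeff (G := G) {χ}

theorem b_mem (h : Setup S ι p) (hM : IsPModular p M) (χ : IrrCharacter G) (β : IrrCharacter D) :
    MemLocalRing M (b ι χ β) := by
  rw [b_def]
  exact lin_div_mem hM h.ndvd' β fun c => idem_mem hM h.ndvd χ _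

/-- The key congruence. -/
theorem key (h : Setup S ι p) (hM : IsPModular p M) (χ : IrrCharacter G) (β : IrrCharacter D)
    (hχ : Inv S (χ : G → ℂ)) {z : G → ℂ} (hz : Inv S z) (hc : IsClassFunction G z)
    (hl : ∀ g, MemLocalRing M (z g)) :
    MemLocalIdeal M ((lin (χ : G → ℂ) z / (χ : G → ℂ) 1 -
      lin (β : D → ℂ) (z ∘ ι) / (β : D → ℂ) 1) * b ι χ β) := by
  have h1 := lin_br h hM β hz (idem_inv hχ) hc hl (idem_mem hM h.ndvd χ)
  rw [conv_idem χ hc] at h1
  have h2 : ((lin (χ : G → ℂ) z / (χ : G → ℂ) 1) • idem χ) ∘ ι =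
      (lin (χ : G → ℂ) z / (χ : G → ℂ) 1) • (idem χ ∘ ι) := rfl
  rw [h2, lin_smul, mul_div_assoc, ← b_def, ← sub_mul] at h1
  exact h1

/-- `β` is the correspondent of `χ`. -/
theorem unique_beta (h : Setup S ι p) (hM : IsPModular p M) {χ : IrrCharacter G}
    {β β' : IrrCharacter D} (hχ : Inv S (χ : G → ℂ)) (hβ : ¬ MemLocalIdeal M (b ι χ β))
    (hβ' : ¬ MemLocalIdeal M (b ι χ β')) : β = β' := by
  classical
  have hprime := isPrime_of_isPModular hM
  by_contra hne
  have hzι : ext ι (idem β) ∘ ι = idem β := by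
    funext c
    exact ext_apply ι (idem_class β) (fun c c' hcc => fusion h hcc) c
  have hzS : Inv S (ext ι (idem β)) := by
    intro s g
    refine ext_congr ι (idem β) fun c => ?_
    constructor
    · intro hg
      obtain ⟨k, hk⟩ := isConj_iff.1 hg
      refine isConj_iff.2 ⟨s⁻¹ • k, ?_⟩
      have := congrArg (fun t => s⁻¹ • t) hk
      simpa only [smul_mul', smul_inv', inv_smul_smul, h.smul] using this
    · intro hg
      obtain ⟨k, hk⟩ := isConj_iff.1 hg
      refine isConj_iff.2 ⟨s • k, ?_⟩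
      have := congrArg (fun t => s • t) hk
      simpa only [smul_mul', smul_inv', h.smul] using this
  have hzl : ∀ g, MemLocalRing M (ext ι (idem β) g) := ext_mem ι (idem_mem hM h.ndvd' β)
  have h1 := key h hM χ β hχ hzS (ext_conj ι _) hzl
  have h2 := key h hM χ β' hχ hzS (ext_conj ι _) hzl
  rw [hzι] at h1 h2
  rw [lin_idem, if_pos rfl, div_self (irr_one_ne_zero β.2)] at h1
  rw [lin_idem, if_neg (Ne.symm hne), zero_div, sub_zero] at h2
  have hL : MemLocalRing M (lin (χ : G → ℂ) (ext ι (idem β)) / (χ : G → ℂ) 1) :=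
    lin_div_mem hM h.ndvd χ hzl
  have h3 := (memLocalIdeal_or_of_mul (memLocalRing_sub hL memLocalRing_one)
    (b_mem h hM χ β) h1).resolve_right hβ
  have h4 := (memLocalIdeal_or_of_mul hL (b_mem h hM χ β') h2).resolve_right hβ'
  have h5 := memLocalIdeal_sub h4 h3
  rw [sub_sub_cancel] at h5
  exact not_memLocalIdeal_one h5

theorem unique_chi (h : Setup S ι p) (hM : IsPModular p M) {χ χ' : IrrCharacter G}
    {β : IrrCharacter D} (hχ : Inv S (χ : G → ℂ)) (hχ' : Inv S (χ' : G → ℂ))
    (hb : ¬ MemLocalIdeal M (b ι χ β)) (hb' : ¬ MemLocalIdeal M (b ι χ' β)) : χ = χ' := by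
  classical
  have hprime := isPrime_of_isPModular hM
  by_contra hne
  have h1 := key h hM χ β hχ (idem_inv hχ') (idem_class χ') (idem_mem hM h.ndvd χ')
  rw [lin_idem, if_neg hne, zero_div, zero_sub, ← b_def, neg_mul] at h1
  have h2 := memLocalIdeal_neg h1
  rw [neg_neg] at h2
  rcases memLocalIdeal_or_of_mul (b_mem h hM χ' β) (b_mem h hM χ β) h2 with h3 | h3
  · exact hb' h3
  · exact hb h3

theorem b_one (h : Setup S ι p) (hM : IsPModular p M) {χ : IrrCharacter G}
    {β : IrrCharacter D} (hχ : Inv S (χ : G → ℂ)) (hb : ¬ MemLocalIdeal M (b ι χ β)) :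
    MemLocalIdeal M (1 - b ι χ β) := by
  classical
  have hprime := isPrime_of_isPModular hM
  have h1 := key h hM χ β hχ (idem_inv hχ) (idem_class χ) (idem_mem hM h.ndvd χ)
  rw [lin_idem, if_pos rfl, div_self (irr_one_ne_zero χ.2), ← b_def] at h1
  exact (memLocalIdeal_or_of_mul (memLocalRing_sub memLocalRing_one (b_mem h hM χ β))
    (b_mem h hM χ β) h1).resolve_right hb

/-- Translation into multiplicities. -/
theorem good_iff (h : Setup S ι p) (hM : IsPModular p M) {χ : IrrCharacter G}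
    {β : IrrCharacter D} {m : ℕ} (hm : classInner ((χ : G → ℂ) ∘ ι) (β : D → ℂ) = m) :
    MemLocalIdeal M (b ι χ β) ↔ p ∣ m := by
  have hprime := isPrime_of_isPModular hM
  have hp : p.Prime := Fact.out
  rw [b_eq ι χ β hm, ← memLocalIdeal_natCast_iff hM m]
  have hdχ : ¬ p ∣ charDegree (χ : G → ℂ) := fun hd => h.ndvd (hd.trans (charDegree_dvd χ.2))
  have hdβ : ¬ p ∣ charDegree (β : D → ℂ) := fun hd => h.ndvd' (hd.trans (charDegree_dvd β.2))
  constructor
  · intro h1
    have h2 : (m : ℂ) = ((charDegree (χ : G → ℂ) : ℂ))⁻¹ * ((Nat.card D : ℂ))⁻¹ * (Nat.card G : ℂ) *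
        (charDegree (β : D → ℂ) : ℂ) * ((charDegree (χ : G → ℂ) : ℂ) * (Nat.card D : ℂ) *
        (Nat.card G : ℂ)⁻¹ * ((charDegree (β : D → ℂ) : ℂ))⁻¹ * m) := by
      have e1 : (charDegree (χ : G → ℂ) : ℂ) ≠ 0 :=
        Nat.cast_ne_zero.2 (Cfsg.Agent.Blocks.Basic.charDegree_pos χ.2).ne'
      have e2 : (charDegree (β : D → ℂ) : ℂ) ≠ 0 :=
        Nat.cast_ne_zero.2 (Cfsg.Agent.Blocks.Basic.charDegree_pos β.2).ne'
      have e3 : (Nat.card D : ℂ) ≠ 0 := card_ne_zero_complex
      have e4 : (Nat.card G : ℂ) ≠ 0 := card_ne_zero_complex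
      field_simp
    rw [h2]
    refine memLocalIdeal_mul_left ?_ h1
    exact memLocalRing_mul (memLocalRing_mul (memLocalRing_mul
      (memLocalRing_inv_natCast hM hdχ) (memLocalRing_inv_natCast hM h.ndvd'))
      (memLocalRing_natCast _)) (memLocalRing_natCast _)
  · intro h1
    refine memLocalIdeal_mul_left ?_ h1
    exact memLocalRing_mul (memLocalRing_mul (memLocalRing_mul
      (memLocalRing_natCast _) (memLocalRing_natCast _))
      (memLocalRing_inv_natCast hM h.ndvd)) (memLocalRing_inv_natCast hM hdβ)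

theorem exists_mult (χ : IrrCharacter G) (β : IrrCharacter D) :
    ∃ m : ℕ, classInner ((χ : G → ℂ) ∘ ι) (β : D → ℂ) = m :=
  classInner_isNat (isCharacter_comp ι (isIrr_isCharacter χ.2)) (isIrr_isCharacter β.2)

/-- The degree as a sum of multiplicities times degrees. -/
theorem degree_eq [Fintype (IrrCharacter D)] (χ : IrrCharacter G) (m : IrrCharacter D → ℕ)
    (hm : ∀ β : IrrCharacter D, classInner ((χ : G → ℂ) ∘ ι) (β : D → ℂ) = m β) :
    charDegree (χ : G → ℂ) = ∑ β : IrrCharacter D, m β * charDegree (β : D → ℂ) := by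
  obtain ⟨n, hn⟩ := exists_nat_comb (isCharacter_comp ι (isIrr_isCharacter χ.2))
  have h1 : ∀ β, n β = m β := by
    intro β
    have h2 := hm β
    rw [hn, classInner_sum_nsmul_irr] at h2
    exact_mod_cast h2
  have h2 := congrFun hn 1
  rw [Function.comp_apply, map_one, Finset.sum_apply,
    Cfsg.Agent.Blocks.Basic.irr_one_eq_charDegree χ.2] at h2
  have h3 : ((charDegree (χ : G → ℂ) : ℕ) : ℂ) =
      ((∑ β : IrrCharacter D, m β * charDegree (β : D → ℂ) : ℕ) : ℂ) := by
    rw [h2]
    push_cast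
    refine Finset.sum_congr rfl fun β _ => ?_
    rw [Pi.smul_apply, nsmul_eq_mul, h1,
      Cfsg.Agent.Blocks.Basic.irr_one_eq_charDegree β.2]
  exact_mod_cast h3

/-- Every irreducible character has a constituent with multiplicity prime to `p`. -/
theorem exists_beta (h : Setup S ι p) (hM : IsPModular p M) (χ : IrrCharacter G) :
    ∃ β : IrrCharacter D, ¬ MemLocalIdeal M (b ι χ β) := by
  have : Finite (IrrCharacter D) := finite_irr
  have := Fintype.ofFinite (IrrCharacter D)
  by_contra hcon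
  push Not at hcon
  choose m hm using fun β : IrrCharacter D => exists_mult (ι := ι) χ β
  have h1 := degree_eq χ m hm
  apply h.ndvd
  refine dvd_trans ?_ (charDegree_dvd χ.2)
  rw [h1]
  exact Finset.dvd_sum fun β _ => Dvd.dvd.mul_right ((good_iff h hM (hm β)).1 (hcon β)) _

/-- The action on irreducible characters. -/
@[instance_reducible]
noncomputable def actIrr (S : Type*) [Group S] [MulDistribMulAction S G] :
    MulAction S (IrrCharacter G) where
  smul s χ := ⟨fun g => (χ : G → ℂ) (s⁻¹ • g),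
    isIrr_comp (MulDistribMulAction.toMonoidHom G s⁻¹) (MulAction.surjective s⁻¹) χ.2⟩
  one_smul χ := Subtype.ext (by
    funext g
    show (χ : G → ℂ) ((1 : S)⁻¹ • g) = _
    rw [inv_one, one_smul])
  mul_smul s t χ := Subtype.ext (by
    funext g
    show (χ : G → ℂ) ((s * t)⁻¹ • g) = (χ : G → ℂ) (t⁻¹ • (s⁻¹ • g))
    rw [mul_inv_rev, mul_smul])

/-- Every irreducible character of the fixed points is a correspondent. -/
theorem exists_chi (h : Setup S ι p) (hM : IsPModular p M) (β : IrrCharacter D) :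
    ∃ χ : IrrCharacter G, Inv S (χ : G → ℂ) ∧ ¬ MemLocalIdeal M (b ι χ β) := by
  classical
  have hprime := isPrime_of_isPModular hM
  have : Finite (IrrCharacter G) := finite_irr
  have := Fintype.ofFinite (IrrCharacter G)
  let _ : MulAction S (IrrCharacter G) := actIrr S
  have hact : ∀ (s : S) (χ : IrrCharacter G) (g : G),
      ((s • χ : IrrCharacter G) : G → ℂ) g = (χ : G → ℂ) (s⁻¹ • g) := fun _ _ _ => rfl
  have hinv : ∀ (s : S) (c : D), s⁻¹ • ι c = ι c := fun s c => h.smul s⁻¹ c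
  have h1 := sum_fixed hM (P := S) h.pgroup (fun χ : IrrCharacter G => b ι χ β)
    (fun s χ => by
      show b ι (s • χ) β = b ι χ β
      rw [b_def, b_def]
      congr 2
      funext c
      rw [Function.comp_apply, Function.comp_apply, idem_apply, idem_apply, hact, hact, hinv,
        smul_one])
    (fun χ => b_mem h hM χ β)
  have h2 : ∑ χ : IrrCharacter G, b ι χ β = 1 := by
    simp only [b_def]
    rw [← Finset.sum_div, ← lin_sum, lin_def]
    have h3 : ∀ c : D, ∑ χ : IrrCharacter G, (idem χ ∘ ι) c = if c = 1 then 1 else 0 := by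
      intro c
      have h4 := sum_idem (G := G) (ι c)
      have h5 : ι c = 1 ↔ c = 1 := by
        rw [← map_one ι]; exact h.inj.eq_iff
      simp only [h5] at h4
      exact h4
    rw [Finset.sum_congr rfl fun c _ => by rw [h3 c]]
    simp only [ite_mul, one_mul, zero_mul, Finset.sum_ite_eq', Finset.mem_univ, if_true]
    exact div_self (irr_one_ne_zero β.2)
  rw [h2] at h1
  have h3 : ¬ MemLocalIdeal M (∑ χ ∈ Finset.univ.filter
      (· ∈ MulAction.fixedPoints S (IrrCharacter G)), b ι χ β) := by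
    intro h4
    have := memLocalIdeal_add h1 h4
    rw [sub_add_cancel] at this
    exact not_memLocalIdeal_one this
  obtain ⟨χ, hχ, hb⟩ := exists_not_memLocalIdeal_of_sum h3
  refine ⟨χ, fun s g => ?_, hb⟩
  have h4 := (Finset.mem_filter.1 hχ).2 s
  have h5 := hact s χ (s • g)
  rw [h4, inv_smul_smul] at h5
  exact h5

/-- The multiplicity is `±1` modulo `p`. -/
theorem mult_modEq (h : Setup S ι p) (hM : IsPModular p M) {χ : IrrCharacter G}
    {β : IrrCharacter D} (hχ : Inv S (χ : G → ℂ)) {m : ℕ}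
    (hm : classInner ((χ : G → ℂ) ∘ ι) (β : D → ℂ) = m) (hpm : ¬ p ∣ m) :
    (m : ℤ) ≡ 1 [ZMOD p] ∨ (m : ℤ) ≡ -1 [ZMOD p] := by
  classical
  have hprime := isPrime_of_isPModular hM
  have : Finite (IrrCharacter D) := finite_irr
  have := Fintype.ofFinite (IrrCharacter D)
  have hb : ¬ MemLocalIdeal M (b ι χ β) := fun h' => hpm ((good_iff h hM hm).1 h')
  have h1 := b_one h hM hχ hb
  -- the degree
  choose n hn using fun β : IrrCharacter D => exists_mult (ι := ι) χ β
  have hnm : n β = m := by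
    have := hn β
    rw [hm] at this
    exact_mod_cast this.symm
  have h2 := degree_eq χ n hn
  have h3 : ((charDegree (χ : G → ℂ) : ℕ) : ZMod p) = (m : ZMod p) * (charDegree (β : D → ℂ)) := by
    rw [h2]
    push_cast
    rw [Finset.sum_eq_single β]
    · rw [hnm]
    · intro β' _ hne
      have h4 : p ∣ n β' := by
        by_contra h4
        have h5 : ¬ MemLocalIdeal M (b ι χ β') := fun h' => h4 ((good_iff h hM (hn β')).1 h')
        exact hne (unique_beta h hM hχ h5 hb)
      rw [(ZMod.natCast_eq_zero_iff _ _).2 h4, zero_mul]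
    · intro h'; exact absurd (Finset.mem_univ _) h'
  -- the orders
  have h4 : ((Nat.card G : ℕ) : ZMod p) = (Nat.card D : ℕ) := by
    have h5 := h.pgroup.card_modEq_card_fixedPoints G
    have h6 : Nat.card (MulAction.fixedPoints S G) = Nat.card D := by
      refine (Nat.card_congr (Equiv.ofBijective (fun c : D =>
        (⟨ι c, fun s => h.smul s c⟩ : MulAction.fixedPoints S G)) ⟨?_, ?_⟩)).symm
      · intro c c' hcc
        exact h.inj (congrArg Subtype.val hcc)
      · rintro ⟨g, hg⟩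
        obtain ⟨c, hc⟩ := (h.fixed g).1 hg
        exact ⟨c, Subtype.ext hc⟩
    rw [h6] at h5
    exact (ZMod.natCast_eq_natCast_iff _ _ _).2 h5
  -- the congruence for `b`
  have h5 : ((charDegree (χ : G → ℂ) : ℕ) : ZMod p) * (Nat.card D : ℕ) * m =
      (Nat.card G : ℕ) * (charDegree (β : D → ℂ) : ℕ) := by
    have h6 : MemLocalIdeal M ((((Nat.card G * charDegree (β : D → ℂ) : ℕ) : ℤ) -
        ((charDegree (χ : G → ℂ) * Nat.card D * m : ℕ) : ℤ) : ℤ) : ℂ) := by
      have e2 : (charDegree (β : D → ℂ) : ℂ) ≠ 0 :=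
        Nat.cast_ne_zero.2 (Cfsg.Agent.Blocks.Basic.charDegree_pos β.2).ne'
      have e4 : (Nat.card G : ℂ) ≠ 0 := card_ne_zero_complex
      have h7 : ((((Nat.card G * charDegree (β : D → ℂ) : ℕ) : ℤ) -
        ((charDegree (χ : G → ℂ) * Nat.card D * m : ℕ) : ℤ) : ℤ) : ℂ) =
          ((Nat.card G * charDegree (β : D → ℂ) : ℕ) : ℂ) * (1 - b ι χ β) := by
        rw [b_eq ι χ β hm]
        push_cast
        field_simp
      rw [h7]
      exact memLocalIdeal_mul_left (memLocalRing_natCast _) h1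
    rw [memLocalIdeal_intCast_iff hM] at h6
    have h7 := (ZMod.intCast_zmod_eq_zero_iff_dvd _ p).2 h6
    push_cast at h7
    exact (sub_eq_zero.1 h7).symm
  rw [h4, h3] at h5
  have hD : ((Nat.card D : ℕ) : ZMod p) ≠ 0 := fun h' =>
    h.ndvd' ((ZMod.natCast_eq_zero_iff _ _).1 h')
  have hβ : ((charDegree (β : D → ℂ) : ℕ) : ZMod p) ≠ 0 := fun h' =>
    h.ndvd' (((ZMod.natCast_eq_zero_iff _ _).1 h').trans (charDegree_dvd β.2))
  have h6 : ((m : ZMod p) - 1) * ((m : ZMod p) + 1) = 0 := by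
    have h7 : ((Nat.card D : ℕ) : ZMod p) * (charDegree (β : D → ℂ) : ℕ) *
        (((m : ZMod p) - 1) * ((m : ZMod p) + 1)) = 0 := by
      linear_combination h5
    rcases mul_eq_zero.1 h7 with h8 | h8
    · exact absurd h8 (mul_ne_zero hD hβ)
    · exact h8
  rcases mul_eq_zero.1 h6 with h8 | h8
  · left
    rw [← ZMod.intCast_eq_intCast_iff]
    push_cast
    exact sub_eq_zero.1 h8
  · right
    rw [← ZMod.intCast_eq_intCast_iff]
    push_cast
    exact eq_neg_of_add_eq_zero_left h8

end Cfsg.Agent.H593.GlaubermanP
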