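import Mathlib
import Cfsg.Prelude.Def_Blocks
import Cfsg.Agent.Blocks.CliffordCentral
import Cfsg.Agent.H593.D1Sec
import Cfsg.Agent.S0145

/-!
# Gram matrix of the coefficient functions
-/

set_option autoImplicit false
set_option linter.unusedSectionVars false

namespace Cfsg.Agent.H593.D1Gram

open Cfsg
open scoped ComplexConjugate
open Cfsg.Agent.Blocks.Local
open Cfsg.Agent.Blocks.Basic
open Cfsg.Agent.H593.D1Local
open Cfsg.Agent.H593.D1Char
open Cfsg.Agent.H593.D1Sec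
open Cfsg.Agent.Characters.Core (isIrr_isCharacter isCharacter_apply_inv isIrr_comp
  isCharacter_comp classInner_irr_self classInner_irr_ne isIrr_iff_classInner_self
  isIrr_isClassFunction finite_irr classFunction_eq_sum)

/-- Column orthogonality. -/
theorem sum_irr_mul_conj_eq {G : Type*} [Group G] [Fintype G] [Fintype (IrrCharacter G)]
    [DecidableEq G] (g h : G) : ∑ χ : IrrCharacter G, (χ : G → ℂ) g * conj ((χ : G → ℂ) h) =
      ((Finset.univ.filter fun u : G => u * h * u⁻¹ = g).card : ℂ) := by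
  classical
  rw [Cfsg.Agent.S0145.sum_irr_mul_conj]
  by_cases hgh : IsConj g h
  · rw [if_pos hgh]
    obtain ⟨c, hc⟩ := isConj_iff.1 hgh.symm
    congr 1
    rw [← Fintype.card_subtype, ← Nat.card_eq_fintype_card]
    refine Nat.card_congr ⟨fun d => ⟨c * d, ?_⟩, fun u => ⟨c⁻¹ * u, ?_⟩, ?_, ?_⟩
    · have h1 : h * (d : G) = d * h := Subgroup.mem_centralizer_iff.1 d.2 h rfl
      calc c * (d : G) * h * (c * d)⁻¹ = c * (d * h) * (d : G)⁻¹ * c⁻¹ := by group
        _ = c * (h * d) * (d : G)⁻¹ * c⁻¹ := by rw [h1]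
        _ = c * h * c⁻¹ := by group
        _ = g := hc
    · rw [Subgroup.mem_centralizer_iff]
      intro y hy
      rw [Set.mem_singleton_iff.1 hy]
      have h1 : (u : G) * h * (u : G)⁻¹ = c * h * c⁻¹ := u.2.trans hc.symm
      calc h * (c⁻¹ * (u : G)) = c⁻¹ * (c * h * c⁻¹) * u := by group
        _ = c⁻¹ * ((u : G) * h * (u : G)⁻¹) * u := by rw [h1]
        _ = c⁻¹ * (u : G) * h := by group
    · intro d
      exact Subtype.ext (by simp)
    · intro u
      exact Subtype.ext (by simp)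
  · rw [if_neg hgh]
    rw [Finset.filter_false_of_mem, Finset.card_empty, Nat.cast_zero]
    intro u _ hu
    exact hgh (isConj_iff.2 ⟨u, hu⟩).symm

variable {G : Type*} [Group G] [Fintype G] {p : ℕ} [hp : Fact p.Prime] {P K : Subgroup G}
  (h : Loc p P K)

/-- Conjugate characters of `L`. -/
noncomputable def cj (k : K) (θ : IrrCharacter (LL P K)) : IrrCharacter (LL P K) :=
  haveI := h.normal
  Cfsg.Agent.Blocks.CliffordCentral.conjIrr (LL P K) k θ

theorem cj_apply (k : K) (θ : IrrCharacter (LL P K)) (l : LL P K) :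
    (cj h k θ : LL P K → ℂ) l =
      (θ : LL P K → ℂ) ⟨k * l * k⁻¹, h.normal.conj_mem l l.2 k⟩ := rfl

theorem cj_one (θ : IrrCharacter (LL P K)) : cj h 1 θ = θ := by
  apply Subtype.ext
  funext l
  rw [cj_apply]
  exact congrArg _ (Subtype.ext (by simp))

theorem cj_mul (a b : K) (θ : IrrCharacter (LL P K)) : cj h (a * b) θ = cj h b (cj h a θ) := by
  apply Subtype.ext
  funext l
  rw [cj_apply, cj_apply, cj_apply]
  exact congrArg _ (Subtype.ext (by simp [mul_assoc]))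

theorem cj_injective (k : K) : Function.Injective (cj h k) := by
  intro θ θ' hh
  have := congrArg (cj h k⁻¹) hh
  rwa [← cj_mul, ← cj_mul, mul_inv_cancel, cj_one, cj_one] at this

theorem cj_of_mem (l : LL P K) (θ : IrrCharacter (LL P K)) : cj h (l : K) θ = θ := by
  apply Subtype.ext
  funext m
  rw [cj_apply, ← irr_conj θ.2 m l]
  exact congrArg _ (Subtype.ext (by simp))

/-- Inertia group. -/
def stab (θ : IrrCharacter (LL P K)) : Subgroup K where
  carrier := {k | cj h k θ = θ}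
  one_mem' := cj_one h θ
  mul_mem' := by
    intro a b ha hb
    show cj h (a * b) θ = θ
    rw [cj_mul, show cj h a θ = θ from ha, show cj h b θ = θ from hb]
  inv_mem' := by
    intro a ha
    show cj h a⁻¹ θ = θ
    apply cj_injective h a
    rw [← cj_mul, inv_mul_cancel, cj_one, show cj h a θ = θ from ha]

theorem mem_stab {θ : IrrCharacter (LL P K)} {k : K} : k ∈ stab h θ ↔ cj h k θ = θ := Iff.rfl

theorem sum_cj [Fintype K] [Fintype (IrrCharacter (LL P K))] (θ : IrrCharacter (LL P K))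
    (F : IrrCharacter (LL P K) → ℂ) (hF : ∀ θ', F θ' ≠ 0 → ∃ k, θ' = cj h k θ) :
    ∑ k : K, F (cj h k θ) = (Nat.card (stab h θ) : ℂ) * ∑ θ', F θ' := by
  classical
  rw [← Finset.sum_fiberwise Finset.univ (fun k : K => cj h k θ), Finset.mul_sum]
  refine Finset.sum_congr rfl fun θ' _ => ?_
  have h1 : ∀ k ∈ Finset.univ.filter (fun k : K => cj h k θ = θ'), F (cj h k θ) = F θ' :=
    fun k hk => by rw [(Finset.mem_filter.1 hk).2]
  rw [Finset.sum_congr rfl h1, Finset.sum_const, nsmul_eq_mul]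
  by_cases h0 : F θ' = 0
  · rw [h0, mul_zero, mul_zero]
  congr 1
  obtain ⟨k₀, rfl⟩ := hF θ' h0
  congr 1
  rw [← Fintype.card_subtype, ← Nat.card_eq_fintype_card]
  symm
  refine Nat.card_congr ⟨fun s => ⟨(s : K) * k₀, ?_⟩, fun k => ⟨(k : K) * k₀⁻¹, ?_⟩, ?_, ?_⟩
  · rw [cj_mul, (mem_stab h).1 s.2]
  · rw [mem_stab]
    apply cj_injective h k₀
    rw [← cj_mul, inv_mul_cancel_right]
    exact k.2
  · intro s
    exact Subtype.ext (by simp)
  · intro k
    exact Subtype.ext (by simp)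

theorem DD_cj [Fintype (LL P K)] (k : K) (θ : IrrCharacter (LL P K)) {χ : G → ℂ}
    (hχ : IsIrrCharacter G χ) (x : G) :
    DD (cj h k θ : LL P K → ℂ) χ x = DD (θ : LL P K → ℂ) χ ((k : G) * x * (k : G)⁻¹) := by
  rw [DD_def, DD_def]
  congr 1
  have := h.normal
  refine Fintype.sum_equiv (MulAut.conjNormal k : LL P K ≃* LL P K).toEquiv _ _ fun l => ?_
  have h1 : ((MulAut.conjNormal k : LL P K ≃* LL P K).toEquiv l) =
      ⟨k * l * k⁻¹, h.normal.conj_mem l l.2 k⟩ := rfl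
  rw [h1, cj_apply]
  congr 1
  rw [← irr_conj hχ (x * ((l : K) : G)) (k : G)]
  congr 1
  show _ = (k : G) * x * (k : G)⁻¹ * ((k : G) * ((l : K) : G) * (k : G)⁻¹)
  group

/-- The value at a section, in terms of coefficient functions. -/
theorem apply_mul_eq [Fintype K] [Fintype (LL P K)] (θ : IrrCharacter (LL P K))
    {χ : IrrCharacter G} {x : G} (hx : x ∈ P)
    (hconj : ∀ θ' : IrrCharacter (LL P K), DD (θ' : LL P K → ℂ) (χ : G → ℂ) x ≠ 0 →
      ∃ k, θ' = cj h k θ) (l : LL P K) :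
    (Nat.card (stab h θ) : ℂ) * (χ : G → ℂ) (x * ((l : K) : G)) =
      ∑ k : K, DD (θ : LL P K → ℂ) (χ : G → ℂ) ((k : G) * x * (k : G)⁻¹) *
        (θ : LL P K → ℂ) ⟨k * l * k⁻¹, h.normal.conj_mem l l.2 k⟩ := by
  classical
  have := finite_irr (G := LL P K)
  have := Fintype.ofFinite (IrrCharacter (LL P K))
  have h1 := sum_cj h θ (fun θ' => DD (θ' : LL P K → ℂ) (χ : G → ℂ) x * (θ' : LL P K → ℂ) l)
    (fun θ' hθ' => hconj θ' (left_ne_zero_of_mul hθ'))
  have hcl : IsClassFunction (LL P K) (fun l : LL P K => (χ : G → ℂ) (x * ((l : K) : G))) := by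
    intro c d
    show (χ : G → ℂ) (x * (((d : K) : G) * ((c : K) : G) * ((d : K) : G)⁻¹)) =
      (χ : G → ℂ) (x * ((c : K) : G))
    have h2 : x * (((d : K) : G) * ((c : K) : G) * ((d : K) : G)⁻¹) =
        ((d : K) : G) * (x * ((c : K) : G)) * ((d : K) : G)⁻¹ := by
      have := (h.comm hx (mem_LL.1 d.2)).eq
      calc x * (((d : K) : G) * ((c : K) : G) * ((d : K) : G)⁻¹)
          = (x * ((d : K) : G)) * ((c : K) : G) * ((d : K) : G)⁻¹ := by group
        _ = (((d : K) : G) * x) * ((c : K) : G) * ((d : K) : G)⁻¹ := by rw [this]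
        _ = ((d : K) : G) * (x * ((c : K) : G)) * ((d : K) : G)⁻¹ := by group
    rw [h2, irr_conj χ.2]
  have h3 := congrFun (classFunction_eq_sum hcl) l
  rw [Finset.sum_apply] at h3
  have h4 : (χ : G → ℂ) (x * ((l : K) : G)) = ∑ θ' : IrrCharacter (LL P K),
      DD (θ' : LL P K → ℂ) (χ : G → ℂ) x * (θ' : LL P K → ℂ) l := h3
  rw [h4, ← h1]
  exact Finset.sum_congr rfl fun k _ => by rw [DD_cj h k θ χ.2, cj_apply]

include h

theorem card_filter_conj [DecidableEq G] [Fintype K] [Fintype P] {x x' : G} (hx : x ∈ P)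
    (hx1 : x ≠ 1) (hx' : x' ∈ P) (l l' : LL P K) :
    (Finset.univ.filter fun u : G => u * (x * ((l : K) : G)) * u⁻¹ = x' * ((l' : K) : G)).card =
      (Finset.univ.filter fun k : K => (k : G) * x * (k : G)⁻¹ = x' ∧
        k * (l : K) * k⁻¹ = (l' : K)).card * p := by
  classical
  rw [← h.card, Nat.card_eq_fintype_card, ← Finset.card_univ (α := P), ← Finset.card_product]
  symm
  refine Finset.card_bij (fun (a : K × P) _ => (a.1 : G) * (a.2 : G)) ?_ ?_ ?_
  · rintro ⟨k, y⟩ ha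
    have h1 := (Finset.mem_filter.1 (Finset.mem_product.1 ha).1).2
    exact Finset.mem_filter.2 ⟨Finset.mem_univ _,
      (h.conj_iff hx hx1 hx' l l' _).2 ⟨k, y, rfl, h1.1, h1.2⟩⟩
  · rintro ⟨k, y⟩ _ ⟨k', y'⟩ _ hh
    have h1 : (k : G) * y = k' * y' := hh
    have h2 : ((k' : K) : G)⁻¹ * k = y' * (y : G)⁻¹ := by
      calc (k' : G)⁻¹ * k = (k' : G)⁻¹ * ((k : G) * y) * (y : G)⁻¹ := by group
        _ = (k' : G)⁻¹ * ((k' : G) * y') * (y : G)⁻¹ := by rw [h1]
        _ = y' * (y : G)⁻¹ := by group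
    have h3 : (k' : G)⁻¹ * k ∈ K ⊓ P :=
      ⟨K.mul_mem (K.inv_mem k'.2) k.2, by rw [h2]; exact P.mul_mem y'.2 (P.inv_mem y.2)⟩
    rw [h.inf, Subgroup.mem_bot] at h3
    rw [h3] at h2
    exact Prod.ext (Subtype.ext (inv_mul_eq_one.1 h3).symm)
      (Subtype.ext (mul_inv_eq_one.1 h2.symm).symm)
  · intro u hu
    obtain ⟨k, y, h1, h2, h3⟩ := (h.conj_iff hx hx1 hx' l l' u).1 (Finset.mem_filter.1 hu).2
    exact ⟨(k, y), Finset.mem_product.2 ⟨Finset.mem_filter.2 ⟨Finset.mem_univ _, h2, h3⟩,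
      Finset.mem_univ _⟩, h1.symm⟩

omit h in
theorem sum_DD [Fintype (LL P K)] [Fintype (IrrCharacter G)] [DecidableEq G]
    (θ : LL P K → ℂ) (x g : G) :
    ∑ χ : IrrCharacter G, (χ : G → ℂ) g * conj (DD θ (χ : G → ℂ) x) =
      (Nat.card (LL P K) : ℂ)⁻¹ * ∑ l : LL P K, θ l *
        ((Finset.univ.filter fun u : G => u * (x * ((l : K) : G)) * u⁻¹ = g).card : ℂ) := by
  have h1 : ∀ χ : IrrCharacter G, (χ : G → ℂ) g * conj (DD θ (χ : G → ℂ) x) =
      (Nat.card (LL P K) : ℂ)⁻¹ * ∑ l : LL P K, θ l *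
        ((χ : G → ℂ) g * conj ((χ : G → ℂ) (x * ((l : K) : G)))) := by
    intro χ
    rw [DD_def, map_mul, map_sum, map_inv₀, map_natCast, Finset.mul_sum, Finset.mul_sum,
      Finset.mul_sum]
    refine Finset.sum_congr rfl fun l _ => ?_
    rw [map_mul, Complex.conj_conj]
    ring
  rw [Finset.sum_congr rfl fun χ _ => h1 χ, ← Finset.mul_sum, Finset.sum_comm]
  congr 1
  refine Finset.sum_congr rfl fun l _ => ?_
  rw [← Finset.mul_sum, sum_irr_mul_conj_eq]

theorem gram_all [Fintype K] [Fintype (LL P K)] [Fintype (IrrCharacter G)] [DecidableEq G]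
    [DecidableEq (IrrCharacter (LL P K))] (θ : IrrCharacter (LL P K)) {x x' : G} (hx : x ∈ P)
    (hx1 : x ≠ 1) (hx' : x' ∈ P) :
    ∑ χ : IrrCharacter G, DD (θ : LL P K → ℂ) (χ : G → ℂ) x' *
        conj (DD (θ : LL P K → ℂ) (χ : G → ℂ) x) =
      (Nat.card (LL P K) : ℂ)⁻¹ * ((Finset.univ.filter fun k : K => cj h k θ = θ ∧
        (k : G) * x * (k : G)⁻¹ = x').card * p : ℕ) := by
  classical
  have := Fintype.ofFinite P
  have h1 : ∀ χ : IrrCharacter G, DD (θ : LL P K → ℂ) (χ : G → ℂ) x' *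
        conj (DD (θ : LL P K → ℂ) (χ : G → ℂ) x) =
      (Nat.card (LL P K) : ℂ)⁻¹ * ∑ l' : LL P K, conj ((θ : LL P K → ℂ) l') *
        ((χ : G → ℂ) (x' * ((l' : K) : G)) * conj (DD (θ : LL P K → ℂ) (χ : G → ℂ) x)) := by
    intro χ
    rw [DD_def _ _ x', mul_assoc, Finset.sum_mul]
    congr 1
    exact Finset.sum_congr rfl fun l' _ => by ring
  rw [Finset.sum_congr rfl fun χ _ => h1 χ, ← Finset.mul_sum, Finset.sum_comm]
  have h2 : ∀ l' : LL P K, ∑ χ : IrrCharacter G, conj ((θ : LL P K → ℂ) l') *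
        ((χ : G → ℂ) (x' * ((l' : K) : G)) * conj (DD (θ : LL P K → ℂ) (χ : G → ℂ) x)) =
      (Nat.card (LL P K) : ℂ)⁻¹ * ∑ l : LL P K, ∑ k : K,
        (if (k : G) * x * (k : G)⁻¹ = x' then (p : ℂ) else 0) *
        ((θ : LL P K → ℂ) l * (if k * (l : K) * k⁻¹ = (l' : K) then
          conj ((θ : LL P K → ℂ) l') else 0)) := by
    intro l'
    rw [← Finset.mul_sum, sum_DD]
    rw [mul_left_comm]
    congr 1
    rw [Finset.mul_sum]
    refine Finset.sum_congr rfl fun l _ => ?_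
    rw [card_filter_conj h hx hx1 hx' l l', Finset.card_filter]
    push_cast
    rw [Finset.sum_mul, Finset.mul_sum, Finset.mul_sum]
    refine Finset.sum_congr rfl fun k _ => ?_
    by_cases h3 : (k : G) * x * (k : G)⁻¹ = x'
    · by_cases h4 : k * (l : K) * k⁻¹ = (l' : K)
      · rw [if_pos ⟨h3, h4⟩, if_pos h3, if_pos h4]
        ring
      · rw [if_neg (fun h5 => h4 h5.2), if_neg h4]
        ring
    · rw [if_neg (fun h5 => h3 h5.1), if_neg h3]
      ring
  rw [Finset.sum_congr rfl fun l' _ => h2 l', ← Finset.mul_sum]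
  have h3 : ∑ l' : LL P K, ∑ l : LL P K, ∑ k : K,
        (if (k : G) * x * (k : G)⁻¹ = x' then (p : ℂ) else 0) *
        ((θ : LL P K → ℂ) l * (if k * (l : K) * k⁻¹ = (l' : K) then
          conj ((θ : LL P K → ℂ) l') else 0)) =
      ∑ k : K, (if (k : G) * x * (k : G)⁻¹ = x' then (p : ℂ) else 0) *
        ((Nat.card (LL P K) : ℂ) * classInner (θ : LL P K → ℂ) (cj h k θ : LL P K → ℂ)) := by
    calc ∑ l' : LL P K, ∑ l : LL P K, ∑ k : K,
        (if (k : G) * x * (k : G)⁻¹ = x' then (p : ℂ) else 0) *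
        ((θ : LL P K → ℂ) l * (if k * (l : K) * k⁻¹ = (l' : K) then
          conj ((θ : LL P K → ℂ) l') else 0))
        = ∑ k : K, ∑ l : LL P K, ∑ l' : LL P K,
        (if (k : G) * x * (k : G)⁻¹ = x' then (p : ℂ) else 0) *
        ((θ : LL P K → ℂ) l * (if k * (l : K) * k⁻¹ = (l' : K) then
          conj ((θ : LL P K → ℂ) l') else 0)) := by
          rw [Finset.sum_comm]
          rw [Finset.sum_congr rfl fun l _ => Finset.sum_comm]
          rw [Finset.sum_comm]
      _ = _ := by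
          refine Finset.sum_congr rfl fun k _ => ?_
          rw [Finset.sum_congr rfl fun l _ => (Finset.mul_sum _ _ _).symm, ← Finset.mul_sum]
          congr 1
          rw [Cfsg.Agent.Characters.Core.classInner_def, mul_inv_cancel_left₀
            (by exact_mod_cast Nat.card_pos.ne')]
          refine Finset.sum_congr rfl fun l _ => ?_
          rw [← Finset.mul_sum]
          congr 1
          rw [cj_apply]
          rw [Finset.sum_eq_single (⟨k * l * k⁻¹, h.normal.conj_mem l l.2 k⟩ : LL P K)]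
          · rw [if_pos rfl]
          · intro l' _ hl'
            rw [if_neg]
            intro h4
            exact hl' (Subtype.ext h4.symm)
          · intro h4
            exact absurd (Finset.mem_univ _) h4
  rw [h3]
  congr 1
  have hL : (Nat.card (LL P K) : ℂ) ≠ 0 := by exact_mod_cast Nat.card_pos.ne'
  rw [Finset.mul_sum, Finset.card_filter]
  push_cast
  rw [Finset.sum_mul]
  refine Finset.sum_congr rfl fun k _ => ?_
  by_cases h4 : cj h k θ = θ
  · rw [h4, classInner_irr_self θ.2]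
    by_cases h5 : (k : G) * x * (k : G)⁻¹ = x'
    · rw [if_pos h5, if_pos ⟨rfl, h5⟩]
      field_simp
    · rw [if_neg h5, if_neg (fun h6 => h5 h6.2)]
      ring
  · rw [classInner_irr_ne θ.2 (cj h k θ).2 (fun h5 => h4 (Subtype.ext h5.symm)),
      if_neg (fun h6 : cj h k θ = θ ∧ (k : G) * x * (k : G)⁻¹ = x' => h4 h6.1)]
    ring

theorem card_filter_stab [Fintype K] [DecidableEq G] [DecidableEq (IrrCharacter (LL P K))]
    (θ : IrrCharacter (LL P K)) {x x' : G} (hx : x ∈ P) (hx1 : x ≠ 1) {k₀ : K}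
    (hk₀ : cj h k₀ θ = θ) (hk₀x : (k₀ : G) * x * (k₀ : G)⁻¹ = x') :
    (Finset.univ.filter fun k : K => cj h k θ = θ ∧ (k : G) * x * (k : G)⁻¹ = x').card =
      Nat.card (LL P K) := by
  rw [← Fintype.card_subtype, ← Nat.card_eq_fintype_card]
  symm
  refine Nat.card_congr ⟨fun l => ⟨k₀ * l, ?_, ?_⟩, fun k => ⟨k₀⁻¹ * k, ?_⟩, ?_, ?_⟩
  · rw [cj_mul, hk₀, cj_of_mem]
  · have h1 : ((l : K) : G) * x * ((l : K) : G)⁻¹ = x := by
      rw [← (h.comm hx (mem_LL.1 l.2)).eq]
      group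
    calc ((k₀ * l : K) : G) * x * ((k₀ * l : K) : G)⁻¹
        = (k₀ : G) * (((l : K) : G) * x * ((l : K) : G)⁻¹) * (k₀ : G)⁻¹ := by
          push_cast
          group
      _ = x' := by rw [h1, hk₀x]
  · rw [mem_LL, centralizer_eq h hx hx1, Subgroup.mem_centralizer_iff]
    intro y hy
    rw [Set.mem_singleton_iff.1 hy]
    have h1 : ((k : K) : G) * x * ((k : K) : G)⁻¹ = (k₀ : G) * x * (k₀ : G)⁻¹ :=
      k.2.2.trans hk₀x.symm
    show x * ((k₀ : G)⁻¹ * ((k : K) : G)) = (k₀ : G)⁻¹ * ((k : K) : G) * x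
    calc x * ((k₀ : G)⁻¹ * ((k : K) : G))
        = (k₀ : G)⁻¹ * ((k₀ : G) * x * (k₀ : G)⁻¹) * ((k : K) : G) := by group
      _ = (k₀ : G)⁻¹ * (((k : K) : G) * x * ((k : K) : G)⁻¹) * ((k : K) : G) := by rw [h1]
      _ = (k₀ : G)⁻¹ * ((k : K) : G) * x := by group
  · intro l
    exact Subtype.ext (by simp)
  · intro k
    exact Subtype.ext (by simp)

theorem gram_eq [Fintype (LL P K)] [Fintype (IrrCharacter G)] (θ : IrrCharacter (LL P K))
    {x x' : G} (hx : x ∈ P) (hx1 : x ≠ 1) (hx' : x' ∈ P)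
    (hk : ∃ k : K, cj h k θ = θ ∧ (k : G) * x * (k : G)⁻¹ = x') :
    ∑ χ : IrrCharacter G, DD (θ : LL P K → ℂ) (χ : G → ℂ) x' *
        conj (DD (θ : LL P K → ℂ) (χ : G → ℂ) x) = p := by
  classical
  have := Fintype.ofFinite K
  obtain ⟨k₀, h1, h2⟩ := hk
  rw [gram_all h θ hx hx1 hx', card_filter_stab h θ hx hx1 h1 h2]
  push_cast
  rw [inv_mul_cancel_left₀ (by exact_mod_cast Nat.card_pos.ne')]

theorem gram_ne [Fintype (LL P K)] [Fintype (IrrCharacter G)] (θ : IrrCharacter (LL P K))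
    {x x' : G} (hx : x ∈ P) (hx1 : x ≠ 1) (hx' : x' ∈ P)
    (hk : ¬ ∃ k : K, cj h k θ = θ ∧ (k : G) * x * (k : G)⁻¹ = x') :
    ∑ χ : IrrCharacter G, DD (θ : LL P K → ℂ) (χ : G → ℂ) x' *
        conj (DD (θ : LL P K → ℂ) (χ : G → ℂ) x) = 0 := by
  classical
  have := Fintype.ofFinite K
  rw [gram_all h θ hx hx1 hx', Finset.filter_false_of_mem]
  · simp
  · intro k _ hk'
    exact hk ⟨k, hk'⟩

end Cfsg.Agent.H593.D1Gram
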