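import Mathlib
import Cfsg.Prelude.Def_Blocks
import Cfsg.Agent.H33.IM
import Cfsg.Agent.H593.D1Gram
import Cfsg.Agent.H593.IMCount

/-!
# Even character degrees from a real element of odd prime order

`IM_two_of_real`: the odd prime `p` divides `|G|` exactly once and some element of order `p` is
conjugate to its inverse ⇒ some irreducible character has even degree.
-/

set_option autoImplicit false
set_option linter.unusedSectionVars false

namespace Cfsg.Agent.H593.IMEven

open Cfsg Cfsg.Agent.H33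
open scoped ComplexConjugate
open Cfsg.Agent.H593.D1Local Cfsg.Agent.H593.D1Char Cfsg.Agent.H593.D1Sec Cfsg.Agent.H593.D1Gram
open Cfsg.Agent.Characters.Core (isIrr_isCharacter finite_irr exists_nat_comb isCharacter_comp
  isCharacter_apply_inv classInner_isNat classInner_def)

universe u

variable {G : Type u} [Group G] [Fintype G] {p : ℕ} [hp : Fact p.Prime] {P K : Subgroup G}
  (h : Loc p P K)

include h

theorem isIntegral_DD [Fintype (LL P K)] {θ : LL P K → ℂ} (hθ : IsIrrCharacter (LL P K) θ)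
    {χ : G → ℂ} (hχ : IsCharacter G χ) {x : G} (hx : x ∈ P) : IsIntegral ℤ (DD θ χ x) := by
  classical
  have hfin := finite_irr (G := Subgroup.centralizer (P : Set G))
  have := Fintype.ofFinite (IrrCharacter (Subgroup.centralizer (P : Set G)))
  obtain ⟨m, hm⟩ := exists_nat_comb (isCharacter_comp
    (Subgroup.subtype (Subgroup.centralizer (P : Set G))) hχ)
  have hxC := h.le_centralizer hx
  have hzc : ∀ g : Subgroup.centralizer (P : Set G),
      (⟨x, hxC⟩ : Subgroup.centralizer (P : Set G)) * g = g * ⟨x, hxC⟩ := by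
    intro g
    apply Subtype.ext
    exact h.comm hx g.2
  choose ε hε1 hε2 using fun ψ : IrrCharacter (Subgroup.centralizer (P : Set G)) =>
    IMCount.exists_eps ψ.2 hzc
  have h1 : DD θ χ x = ∑ ψ : IrrCharacter (Subgroup.centralizer (P : Set G)),
      (m ψ : ℂ) * ε ψ * classInner (res (P := P) (K := K)
        (ψ : Subgroup.centralizer (P : Set G) → ℂ)) θ := by
    rw [DD_def]
    have h2 : ∀ l : LL P K, χ (x * ((l : K) : G)) =
        ∑ ψ : IrrCharacter (Subgroup.centralizer (P : Set G)), (m ψ : ℂ) * ε ψ *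
          res (P := P) (K := K) (ψ : Subgroup.centralizer (P : Set G) → ℂ) l := by
      intro l
      have h3 := congrFun hm (⟨x, hxC⟩ * inc P K l)
      have h4 : (χ ∘ (Subgroup.subtype (Subgroup.centralizer (P : Set G))))
          (⟨x, hxC⟩ * inc P K l) = χ (x * ((l : K) : G)) := rfl
      rw [h4] at h3
      rw [h3, Finset.sum_apply]
      refine Finset.sum_congr rfl fun ψ _ => ?_
      rw [Pi.smul_apply, nsmul_eq_mul]
      have h5 := hε2 ψ 1 (inc P K l)
      rw [pow_one, pow_one] at h5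
      rw [h5]
      show _ = (m ψ : ℂ) * ε ψ * (ψ : Subgroup.centralizer (P : Set G) → ℂ) (inc P K l)
      ring
    simp only [h2, Finset.sum_mul]
    rw [Finset.sum_comm, Finset.mul_sum]
    refine Finset.sum_congr rfl fun ψ _ => ?_
    rw [classInner_def, Finset.mul_sum, Finset.mul_sum, Finset.mul_sum]
    refine Finset.sum_congr rfl fun l _ => ?_
    ring
  rw [h1]
  refine IsIntegral.sum _ fun ψ _ => ?_
  have hnat : ∀ n : ℕ, IsIntegral ℤ (n : ℂ) := fun n => by
    exact_mod_cast (isIntegral_algebraMap (R := ℤ) (A := ℂ) (x := (n : ℤ)))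
  obtain ⟨n, hn⟩ := classInner_isNat (isCharacter_comp (inc P K) (isIrr_isCharacter ψ.2))
    (isIrr_isCharacter hθ)
  have h6 : classInner (res (P := P) (K := K)
      (ψ : Subgroup.centralizer (P : Set G) → ℂ)) θ = n := hn
  rw [h6]
  exact ((hnat _).mul (hε1 ψ)).mul (hnat _)

theorem exists_even {x : G} (hx : x ∈ P) (hx1 : x ≠ 1) (hp2 : p ≠ 2)
    (hreal : ∃ k : K, (k : G) * x * (k : G)⁻¹ = x⁻¹) :
    ∃ χ : IrrCharacter G, 2 ∣ charDegree (χ : G → ℂ) := by
  classical
  by_contra hcon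
  push Not at hcon
  have := Fintype.ofFinite (LL P K)
  have := Fintype.ofFinite K
  have := Fintype.ofFinite P
  have hfin := finite_irr (G := G)
  have := Fintype.ofFinite (IrrCharacter G)
  let θ : IrrCharacter (LL P K) := ⟨1, Cfsg.Agent.Characters.Core.isIrr_one⟩
  let d : IrrCharacter G → ℂ := fun χ => DD (θ : LL P K → ℂ) (χ : G → ℂ) x
  have hd : ∀ χ, IsIntegral ℤ (d χ) := fun χ => isIntegral_DD h θ.2 (isIrr_isCharacter χ.2) hx
  obtain ⟨k, hk⟩ := hreal
  have hcj : ∀ k : K, cj h k θ = θ := by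
    intro k
    apply Subtype.ext
    funext l
    rw [cj_apply]
    rfl
  -- the values are real
  have hdr : ∀ χ, conj (d χ) = d χ := by
    intro χ
    have h1 := DD_cj h k θ χ.2 x
    rw [hcj k, hk] at h1
    have h2 : conj (d χ) = DD (θ : LL P K → ℂ) (χ : G → ℂ) x⁻¹ := by
      show conj (DD (θ : LL P K → ℂ) (χ : G → ℂ) x) = _
      rw [DD_def, DD_def, map_mul, map_sum, map_inv₀, map_natCast]
      congr 1
      refine Fintype.sum_equiv (Equiv.inv (LL P K)) _ _ fun l => ?_
      have h3 : (θ : LL P K → ℂ) l = 1 := rfl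
      have h4 : (θ : LL P K → ℂ) (Equiv.inv (LL P K) l) = 1 := rfl
      rw [h3, h4, map_one, map_mul, map_one, mul_one, mul_one, ← isCharacter_apply_inv
        (isIrr_isCharacter χ.2)]
      have h5 : x * ((l : K) : G) = ((l : K) : G) * x := h.comm hx (mem_LL.1 l.2)
      rw [h5, mul_inv_rev]
      rfl
    rw [h2, ← h1]
  -- orthogonality with the column of `1`
  have h1 : ∑ χ : IrrCharacter G, (χ : G → ℂ) 1 * d χ = 0 := by
    have h2 := sum_DD (P := P) (K := K) (θ : LL P K → ℂ) x 1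
    have h3 : ∀ l : LL P K,
        (Finset.univ.filter fun u : G => u * (x * ((l : K) : G)) * u⁻¹ = 1).card = 0 := by
      intro l
      rw [Finset.card_eq_zero, Finset.filter_eq_empty_iff]
      intro u _ hu
      have h4 : x * ((l : K) : G) = 1 := by
        have : x * ((l : K) : G) = u⁻¹ * (u * (x * ((l : K) : G)) * u⁻¹) * u := by group
        rw [this, hu]; group
      have h5 := h.dvd_orderOf hx hx1 l
      rw [h4, orderOf_one, Nat.dvd_one] at h5
      exact hp.out.one_lt.ne' h5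
    simp only [h3, Nat.cast_zero, mul_zero, Finset.sum_const_zero] at h2
    have h6 : ∀ χ : IrrCharacter G, (χ : G → ℂ) 1 * conj (DD (θ : LL P K → ℂ) (χ : G → ℂ) x) =
        (χ : G → ℂ) 1 * d χ := fun χ => by rw [hdr χ]
    simp only [h6] at h2
    exact h2
  -- the norm
  have h2 : ∑ χ : IrrCharacter G, d χ * d χ = p := by
    have h3 := gram_eq h θ hx hx1 hx ⟨1, hcj 1, by simp⟩
    rw [← h3]
    exact Finset.sum_congr rfl fun χ _ => by rw [hdr χ]
  -- reduction modulo two
  have hdeg : ∀ χ : IrrCharacter G, ∃ n : ℕ, (χ : G → ℂ) 1 = 2 * (n : ℂ) + 1 := by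
    intro χ
    obtain ⟨n, hn0, hn⟩ := Cfsg.Agent.Characters.Core.isIrr_apply_one χ.2
    have h3 := hcon χ
    have h4 : charDegree (χ : G → ℂ) = n := by
      unfold charDegree
      rw [hn]
      simp
    rw [h4] at h3
    obtain ⟨m, hm⟩ : Odd n := Nat.not_even_iff_odd.1 (fun hh => h3 hh.two_dvd)
    exact ⟨m, by rw [hn, hm]; push_cast; ring⟩
  choose a ha using hdeg
  have hnat : ∀ n : ℕ, IsIntegral ℤ (n : ℂ) := fun n => by
    exact_mod_cast (isIntegral_algebraMap (R := ℤ) (A := ℂ) (x := (n : ℤ)))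
  -- `∑ d = - 2 ∑ a d`
  obtain ⟨s, hs, hs1⟩ : ∃ s : ℂ, IsIntegral ℤ s ∧ ∑ χ : IrrCharacter G, d χ = 2 * s := by
    refine ⟨-∑ χ : IrrCharacter G, (a χ : ℂ) * d χ, ?_, ?_⟩
    · exact (IsIntegral.sum _ fun χ _ => (hnat _).mul (hd χ)).neg
    · have h3 : ∀ χ : IrrCharacter G, (χ : G → ℂ) 1 * d χ = 2 * ((a χ : ℂ) * d χ) + d χ := by
        intro χ
        rw [ha χ]; ring
      simp only [h3, Finset.sum_add_distrib, ← Finset.mul_sum] at h1
      linear_combination h1
  -- `(∑ d)² = ∑ d² + 2 t`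
  obtain ⟨t, ht, ht1⟩ : ∃ t : ℂ, IsIntegral ℤ t ∧
      (∑ χ : IrrCharacter G, d χ) ^ 2 = (∑ χ : IrrCharacter G, d χ * d χ) + 2 * t := by
    have key : ∀ S : Finset (IrrCharacter G), ∃ t : ℂ, IsIntegral ℤ t ∧
        (∑ χ ∈ S, d χ) ^ 2 = (∑ χ ∈ S, d χ * d χ) + 2 * t := by
      intro S
      induction S using Finset.induction_on with
      | empty => exact ⟨0, isIntegral_zero, by simp⟩
      | insert χ S hχ ih =>
        obtain ⟨t, ht, ht1⟩ := ih
        refine ⟨t + d χ * ∑ ψ ∈ S, d ψ, ht.add ((hd χ).mul (IsIntegral.sum _ fun ψ _ => hd ψ)), ?_⟩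
        rw [Finset.sum_insert hχ, Finset.sum_insert hχ]
        linear_combination ht1
    exact key _
  rw [h2, hs1] at ht1
  have h3 : (p : ℂ) = 2 * (2 * s ^ 2 - t) := by linear_combination -ht1
  obtain ⟨m, hm⟩ : Odd p := hp.out.odd_of_ne_two hp2
  have h4 : IsIntegral ℤ ((1 : ℂ) / 2) := by
    have h5 : (1 : ℂ) / 2 = (2 * s ^ 2 - t) - m := by
      have h6 : (p : ℂ) = 2 * (m : ℂ) + 1 := by rw [hm]; push_cast; ring
      rw [h6] at h3
      linear_combination (1 / 2 : ℂ) * h3
    rw [h5]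
    have h7 : IsIntegral ℤ (2 : ℂ) := by exact_mod_cast hnat 2
    exact ((h7.mul (hs.pow 2)).sub ht).sub (hnat m)
  obtain ⟨z, hz⟩ := Cfsg.Agent.Characters.GaloisBasic.exists_int_of_isIntegral h4 ⟨1 / 2, by norm_num⟩
  have h8 : (1 : ℤ) = 2 * z := by
    have : (1 : ℂ) = 2 * (z : ℂ) := by rw [← hz]; norm_num
    exact_mod_cast this
  omega

omit h
/-- **Even degree.** The odd prime `p` divides `|G|` exactly once and an element of order `p` is
conjugate to its inverse. -/
theorem IM_two_of_real {G : Type u} [Group G] [Finite G] {p : ℕ} [hp : Fact p.Prime] (hp2 : p ≠ 2)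
    (hG : ¬ p ^ 2 ∣ Nat.card G) {x : G} (hx : orderOf x = p) (hreal : IsConj x x⁻¹) : IM 2 G := by
  classical
  have := Fintype.ofFinite G
  -- a Sylow subgroup containing `x`
  have hz : IsPGroup p (Subgroup.zpowers x) := by
    rw [IsPGroup.iff_card]
    exact ⟨1, by rw [Nat.card_zpowers, hx, pow_one]⟩
  obtain ⟨P, hP⟩ := hz.exists_le_sylow
  obtain ⟨n, hn⟩ := IsPGroup.iff_card.1 P.isPGroup'
  have hn1 : n = 1 := by
    have h1 : n < 2 := by
      by_contra h
      push Not at h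
      exact hG ((Nat.pow_dvd_pow p h).trans (hn ▸ Subgroup.card_subgroup_dvd_card _))
    have h2 : n ≠ 0 := by
      rintro rfl
      rw [pow_zero] at hn
      have h3 : Nat.card (Subgroup.zpowers x) ∣ Nat.card (P : Subgroup G) :=
        Subgroup.card_dvd_of_le hP
      rw [hn, Nat.card_zpowers, hx, Nat.dvd_one] at h3
      exact hp.out.one_lt.ne' h3
    omega
  have hPc : Nat.card P = p := by rw [hn, hn1, pow_one]
  obtain ⟨K, hK⟩ := exists_loc P hPc
  have hxP : x ∈ (P : Subgroup G) := hP (Subgroup.mem_zpowers x)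
  have hx1 : x ≠ 1 := by
    rintro rfl
    rw [orderOf_one] at hx
    exact hp.out.one_lt.ne hx
  have hPz : (P : Subgroup G) = Subgroup.zpowers x := by
    symm
    apply Subgroup.eq_of_le_of_card_ge hP
    rw [Nat.card_zpowers, hx, hPc]
  obtain ⟨g, hg⟩ := isConj_iff.1 hreal
  have hgN : g ∈ Subgroup.normalizer ((P : Subgroup G) : Set G) := by
    rw [hPz, Subgroup.mem_normalizer_iff]
    have key : ∀ (w : G), w ∈ Subgroup.zpowers x → g * w * g⁻¹ ∈ Subgroup.zpowers x := by
      intro w hw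
      obtain ⟨i, rfl⟩ := Subgroup.mem_zpowers_iff.1 hw
      rw [← conj_zpow, hg]
      exact Subgroup.zpow_mem _ (Subgroup.inv_mem _ (Subgroup.mem_zpowers x)) i
    have key2 : ∀ (w : G), w ∈ Subgroup.zpowers x → g⁻¹ * w * g ∈ Subgroup.zpowers x := by
      intro w hw
      have h1 : g⁻¹ * x * g = x⁻¹ := by
        have h2 : x = g * x⁻¹ * g⁻¹ := by
          have h3 : (g * x * g⁻¹)⁻¹ = (x⁻¹)⁻¹ := by rw [hg]
          rw [inv_inv] at h3
          calc x = (g * x * g⁻¹)⁻¹ := h3.symm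
            _ = g * x⁻¹ * g⁻¹ := by group
        calc g⁻¹ * x * g = g⁻¹ * (g * x⁻¹ * g⁻¹) * g := by rw [← h2]
          _ = x⁻¹ := by group
      obtain ⟨i, rfl⟩ := Subgroup.mem_zpowers_iff.1 hw
      have h2 : g⁻¹ * x ^ i * g = (g⁻¹ * x * g) ^ i := by
        have := conj_zpow (a := g⁻¹) (b := x) (i := i)
        rw [inv_inv] at this
        exact this.symm
      rw [h2, h1]
      exact Subgroup.zpow_mem _ (Subgroup.inv_mem _ (Subgroup.mem_zpowers x)) i
    intro w
    refine ⟨key w, fun hw => ?_⟩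
    have := key2 _ hw
    have h3 : g⁻¹ * (g * w * g⁻¹) * g = w := by group
    rwa [h3] at this
  obtain ⟨k, hkK, y, hy, hgk⟩ := hK.mul g hgN
  have hkx : k * x * k⁻¹ = x⁻¹ := by
    rw [← hg, hgk]
    have h1 : y * x * y⁻¹ = x := by
      rw [hPz] at hy
      obtain ⟨i, rfl⟩ := Subgroup.mem_zpowers_iff.1 hy
      group
    calc k * x * k⁻¹ = k * (y * x * y⁻¹) * k⁻¹ := by rw [h1]
      _ = k * y * x * (k * y)⁻¹ := by group
  obtain ⟨χ, hχ⟩ := exists_even hK hxP hx1 hp2 ⟨⟨k, hkK⟩, hkx⟩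
  exact ⟨χ, hχ⟩

end Cfsg.Agent.H593.IMEven
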