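import Cfsg.Agent.H661.SporAll
import Cfsg.Agent.H713.Spor.McL
import Cfsg.Agent.H593.IMEven

/-!
# Itô-Michler for `p = 2`: sporadic groups and the Tits group
-/

set_option autoImplicit false

namespace Cfsg.Agent.H593.IMSpor

open Cfsg Cfsg.Agent.H33 Cfsg.Agent.Characters.Core

universe u v

theorem im_two_of_p1 {S : Type u} [Group S] [Finite S] (h : Cfsg.Agent.H661.Spor.P1 S) :
    IM 2 S := by
  obtain ⟨r, hr, h2, hc, x, hx, hreal⟩ := h
  have : Fact r.Prime := ⟨hr⟩
  exact IMEven.IM_two_of_real h2 hc hx hreal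

/-- A degree of a quotient is a degree. -/
theorem exists_degree_of_surjective {G : Type u} [Group G] {H : Type v} [Group H]
    (f : G →* H) (hf : Function.Surjective f) {d : ℕ}
    (h : ∃ χ : IrrCharacter H, charDegree (χ : H → ℂ) = d) :
    ∃ χ : IrrCharacter G, charDegree (χ : G → ℂ) = d := by
  obtain ⟨χ, hχ⟩ := h
  refine ⟨⟨(χ : H → ℂ) ∘ f, isIrr_comp f hf χ.2⟩, ?_⟩
  have h2 : charDegree ((χ : H → ℂ) ∘ f) = charDegree (χ : H → ℂ) := by
    unfold charDegree
    rw [Function.comp_apply, map_one]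
  show charDegree ((χ : H → ℂ) ∘ f) = d
  rwa [h2]

theorem exists_degree_of_equiv {G : Type u} [Group G] {H : Type v} [Group H]
    (e : G ≃* H) {d : ℕ} (h : ∃ χ : IrrCharacter H, charDegree (χ : H → ℂ) = d) :
    ∃ χ : IrrCharacter G, charDegree (χ : G → ℂ) = d :=
  exists_degree_of_surjective e.toMonoidHom e.surjective h

/-- `McL` has an irreducible character of degree `252`. -/
theorem mcl_252 {S : Type u} [Group S] (h : Spor.IsoMcL S) :
    ∃ χ : IrrCharacter S, charDegree (χ : S → ℂ) = 252 := by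
  obtain ⟨e⟩ := h
  exact exists_degree_of_equiv (e.trans Cfsg.Agent.H713.Spor.McL.mclEquiv)
    Cfsg.Agent.H713.Spor.McL.exists_252

theorem im_two_mcl {S : Type u} [Group S] (h : Spor.IsoMcL S) : IM 2 S := by
  obtain ⟨χ, hχ⟩ := mcl_252 h
  exact ⟨χ, by rw [hχ]; norm_num⟩

/-- **Itô-Michler for `p = 2`, sporadic groups.** -/
theorem im_two_sporadic {S : Type u} [Group S] [Finite S] [IsSimpleGroup S]
    (h : IsSporadicGroup S) : IM 2 S := by
  rcases Cfsg.Agent.H661.Spor.sporadic_p1 h with h | h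
  · exact im_two_of_p1 h
  · exact im_two_mcl h

/-- **Itô-Michler for `p = 2`, Tits group.** -/
theorem im_two_tits {S : Type u} [Group S] [Finite S] (h : Cfsg.Lie.IsoTits S) : IM 2 S :=
  im_two_of_p1 (Cfsg.Agent.H661.Spor.tits h)

end Cfsg.Agent.H593.IMSpor
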