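import Mathlib
import Cfsg.Prelude.Def_Blocks
import Cfsg.Prelude.Def_BlockRank
import Cfsg.Agent.H33.IM
import Cfsg.Agent.H593.IMRank
import Cfsg.Agent.H646.DefectBasic
import Cfsg.Agent.H653.CycFinal
import Cfsg.Agent.S0953
import Cfsg.Agent.S0973
import Cfsg.Agent.S4695

/-!
# Groups with a cyclic Sylow `p`-subgroup: a criterion for irreducible characters of degree divisible
by `p`

Let `P ≠ 1` be a cyclic Sylow `p`-subgroup of `G`, `C = C_G(P)`, `N = N_G(P)` and `m` the number of
`N`-classes of `p'`-elements in `C`.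

* `blockRank_univ_le` : if no irreducible character has degree divisible by `p` then
  `l(G) ≤ |N : C| * m` (`l(G)` the number of `p`-regular classes).
* `IM_of_classes`, `IM_of_orders` : hence `IM p G` as soon as there are more than `|N : C| * m`
  pairwise nonconjugate `p'`-elements.
* `IM_of_orders_self` : the case `C = P` (`m = 1`).
-/

set_option autoImplicit false

namespace Cfsg.Agent.H593.IMCyc

open Cfsg Cfsg.Agent.Blocks.Local Cfsg.Agent.Blocks.Basic Cfsg.Agent.H593.IMRank Cfsg.Agent.H33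

universe u

variable {G : Type u} [Group G] [Finite G] {p : ℕ} [hp : Fact p.Prime]

omit [Finite G] in
theorem centralizer_le_normalizer (P : Subgroup G) :
    Subgroup.centralizer (P : Set G) ≤ Subgroup.normalizer (P : Set G) :=
  Subgroup.centralizer_le_normalizer _

/-- The bound for one block. -/
theorem blockRank_le {M : Ideal AlgInt} (hM : IsPModular p M) (P : Subgroup G) (hcyc : IsCyclic P)
    {a : ℕ} (ha : 1 ≤ a) (hPa : Nat.card P = p ^ a) {B : Set (IrrCharacter G)}
    (hB : IsPBlock M B) (hBP : IsDefectGroup p M B P) :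
    blockRank p B ≤ (Subgroup.centralizer (P : Set G)).relIndex (Subgroup.normalizer (P : Set G)) := by
  have := isPrime_of_isPModular hM
  have hPC : P ≤ Subgroup.centralizer (P : Set G) := by
    intro x hx
    rw [Subgroup.mem_centralizer_iff]
    intro y hy
    have h1 : (⟨y, hy⟩ : P) * ⟨x, hx⟩ = ⟨x, hx⟩ * ⟨y, hy⟩ := by
      obtain ⟨g, hg⟩ := hcyc.exists_generator
      obtain ⟨i, hi⟩ := Subgroup.mem_zpowers_iff.1 (hg ⟨y, hy⟩)
      obtain ⟨j, hj⟩ := Subgroup.mem_zpowers_iff.1 (hg ⟨x, hx⟩)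
      rw [← hi, ← hj, ← zpow_add, ← zpow_add, add_comm]
    exact congrArg Subtype.val h1
  have hsup : P ⊔ Subgroup.centralizer (P : Set G) = Subgroup.centralizer (P : Set G) :=
    sup_eq_right.2 hPC
  obtain ⟨b, -, hb⟩ := (S0973.result p M hM B hB P hBP).1
  have key : ∀ H : Subgroup G, H = P ⊔ Subgroup.centralizer (P : Set G) →
      ∃ b : Set (IrrCharacter H), IsInducedBlock M H b B := by
    rintro H rfl
    exact ⟨b, hb⟩
  obtain ⟨b, hind⟩ := key _ hsup.symm
  have hb' : IsPBlock M b := hind.1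
  let T : Subgroup G := H651.idxStab ⟨P, b⟩
  have hT : ∀ g : G, g ∈ T ↔ (g ∈ Subgroup.normalizer (P : Set G) ∧
      ∀ θ ∈ b, ∀ θ' : Cfsg.IrrCharacter (Subgroup.centralizer (P : Set G)),
        (∀ h h' : Subgroup.centralizer (P : Set G), (h' : G) = g * h * g⁻¹ →
          (θ' : Subgroup.centralizer (P : Set G) → ℂ) h' =
            (θ : Subgroup.centralizer (P : Set G) → ℂ) h) → θ' ∈ b) := by
    intro g
    show g ∈ H651.idxStab ⟨P, b⟩ ↔ _
    rw [H651.mem_idxStab, H649.conjIdx_eq_iff hb']
    refine and_congr_right fun hg => ?_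
    have hg' := H649.mem_normalizer_centralizer hg
    constructor
    · rintro ⟨-, h⟩ θ hθ θ' hθ'
      obtain ⟨χ', hχ', h1⟩ := h θ hθ
      rw [H649.isConjCharOf_iff _ hg'] at h1
      have h2 : H649.irrMap (H649.conjAut _ g hg') θ = θ' :=
        (H649.isConjCharOf_iff _ hg' θ θ').1 hθ'
      rw [← h2, h1]
      exact hχ'
    · intro h
      refine ⟨hg', fun χ hχ => ⟨H649.irrMap (H649.conjAut _ g hg') χ, ?_, ?_⟩⟩
      · exact h χ hχ _ ((H649.isConjCharOf_iff _ hg' χ _).2 rfl)
      · exact (H649.isConjCharOf_iff _ hg' χ _).2 rfl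
  have h1 := S4695.result p M hM P hcyc a ha hPa B hB hBP b hind T hT _ rfl
  rw [h1]
  refine Subgroup.relIndex_le_of_le_right (fun g hg => ((hT g).1 hg).1) ?_
  exact Subgroup.FiniteIndex.index_ne_zero

/-- The number of `N_G(P)`-classes of `p'`-elements of `C_G(P)`. -/
noncomputable def numCls (p : ℕ) {G : Type u} [Group G] (P : Subgroup G) : ℕ :=
  Nat.card {C : ConjClasses (Subgroup.normalizer (P : Set G)) //
    ∀ n : Subgroup.normalizer (P : Set G), ConjClasses.mk n = C →
      ¬ p ∣ orderOf n ∧ (n : G) ∈ Subgroup.centralizer (P : Set G)}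

/-- **No character degree divisible by `p`, cyclic Sylow `p`-subgroup:** `l(G) ≤ |N : C| * m`. -/
theorem blockRank_univ_le (P : Sylow p G) (hcyc : IsCyclic P) (hpG : p ∣ Nat.card G)
    (h : ¬ IM p G) :
    blockRank p (Set.univ : Set (IrrCharacter G)) ≤
      (Subgroup.centralizer ((P : Subgroup G) : Set G)).relIndex
        (Subgroup.normalizer ((P : Subgroup G) : Set G)) * numCls p (P : Subgroup G) := by
  classical
  obtain ⟨M, hM⟩ := Cfsg.Agent.Blocks.Knorr.exists_isPModular p
  have hfin := Cfsg.Agent.Characters.Core.finite_irr (G := G)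
  rw [not_IM_iff] at h
  have hne : ∀ B : Set (IrrCharacter G), IsPBlock M B → B.Nonempty := by
    intro B hB
    have := isPrime_of_isPModular hM
    exact isPBlock_nonempty hB
  have hsyl : ∀ B : Set (IrrCharacter G), IsPBlock M B → IsDefectGroup p M B (P : Subgroup G) := by
    intro B hB
    obtain ⟨χ, hχ⟩ := hne B hB
    exact (H646.DefectBasic.isDefectGroup_iff_sylow hM hB hχ (h χ) _).2 ⟨P, rfl⟩
  obtain ⟨a, ha⟩ := IsPGroup.iff_card.1 P.isPGroup'
  have ha1 : 1 ≤ a := by
    by_contra hcon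
    have h0 : a = 0 := by omega
    rw [h0, pow_zero] at ha
    have h1 : p ∣ Nat.card P := P.dvd_card_of_dvd_card hpG
    rw [ha, Nat.dvd_one] at h1
    exact hp.out.one_lt.ne' h1
  rw [H608.BlockRank.blockRank_eq_finsum hM (A := Set.univ) (fun _ _ _ _ => Set.mem_univ _)]
  have hS : {b : Set (IrrCharacter G) | IsPBlock M b ∧ b ⊆ Set.univ}.Finite := Set.toFinite _
  rw [finsum_mem_eq_finite_toFinset_sum _ hS]
  refine (Finset.sum_le_card_nsmul _ _ ((Subgroup.centralizer ((P : Subgroup G) : Set G)).relIndex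
    (Subgroup.normalizer ((P : Subgroup G) : Set G))) fun B hB => ?_).trans ?_
  · rw [Set.Finite.mem_toFinset] at hB
    exact blockRank_le hM (P : Subgroup G) hcyc ha1 ha hB.1 (hsyl B hB.1)
  · rw [smul_eq_mul, mul_comm]
    refine Nat.mul_le_mul_left _ ?_
    have h1 := S0953.result p M hM P
    unfold numCls
    rw [← h1]
    have : Finite {B : Set (IrrCharacter G) // IsPBlock M B ∧
      IsDefectGroup p M B (P : Subgroup G)} := inferInstance
    have := Fintype.ofFinite {B : Set (IrrCharacter G) // IsPBlock M B ∧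
      IsDefectGroup p M B (P : Subgroup G)}
    rw [Nat.card_eq_fintype_card, ← Fintype.card_coe]
    refine Fintype.card_le_of_injective (fun B => ⟨B.1, ?_, ?_⟩) ?_
    · exact (hS.mem_toFinset.1 B.2).1
    · exact hsyl _ (hS.mem_toFinset.1 B.2).1
    · intro B B' hBB
      apply Subtype.ext
      have h2 := congrArg Subtype.val hBB
      exact h2

/-- Criterion: more than `|N : C| * m` classes of `p'`-elements. -/
theorem IM_of_classes (P : Sylow p G) (hcyc : IsCyclic P) (hpG : p ∣ Nat.card G) {ι : Type*}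
    [Fintype ι] (t : ι → G) (ht : ∀ i, ¬ p ∣ orderOf (t i))
    (hne : ∀ i j, IsConj (t i) (t j) → i = j)
    (hlt : (Subgroup.centralizer ((P : Subgroup G) : Set G)).relIndex
        (Subgroup.normalizer ((P : Subgroup G) : Set G)) * numCls p (P : Subgroup G) <
        Fintype.card ι) : IM p G := by
  by_contra h
  have h1 := blockRank_univ_le P hcyc hpG h
  have h2 := card_le_blockRank p t ht hne
  omega

/-- Criterion: more than `|N : C| * m` orders of `p'`-elements. -/
theorem IM_of_orders (P : Sylow p G) (hcyc : IsCyclic P) (hpG : p ∣ Nat.card G) (S : Finset ℕ)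
    (hS : ∀ n ∈ S, ¬ p ∣ n ∧ ∃ g : G, orderOf g = n)
    (hlt : (Subgroup.centralizer ((P : Subgroup G) : Set G)).relIndex
        (Subgroup.normalizer ((P : Subgroup G) : Set G)) * numCls p (P : Subgroup G) < S.card) :
    IM p G := by
  by_contra h
  have h1 := blockRank_univ_le P hcyc hpG h
  have h2 := card_le_of_orders p S hS
  omega

omit [Finite G] in
/-- If the centralizer of `P` is a `p`-group, then `m = 1`. -/
theorem numCls_eq_one (P : Sylow p G)
    (hC : IsPGroup p (Subgroup.centralizer ((P : Subgroup G) : Set G))) :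
    numCls p (P : Subgroup G) = 1 := by
  unfold numCls
  rw [Nat.card_eq_one_iff_unique]
  have key : ∀ n : Subgroup.normalizer ((P : Subgroup G) : Set G), ¬ p ∣ orderOf n →
      (n : G) ∈ Subgroup.centralizer ((P : Subgroup G) : Set G) → n = 1 := by
    intro n h1 h2
    obtain ⟨k, hk⟩ := (IsPGroup.iff_orderOf.1 hC) ⟨(n : G), h2⟩
    have h3 : orderOf n = p ^ k := by
      rw [← hk, ← Subgroup.orderOf_coe, ← Subgroup.orderOf_coe]
    rcases Nat.eq_zero_or_pos k with rfl | hk0
    · rw [pow_zero, orderOf_eq_one_iff] at h3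
      exact h3
    · exact absurd (h3 ▸ dvd_pow_self p hk0.ne') h1
  refine ⟨⟨fun A B => ?_⟩, ⟨⟨ConjClasses.mk 1, ?_⟩⟩⟩
  · obtain ⟨A, hA⟩ := A
    obtain ⟨B, hB⟩ := B
    obtain ⟨x, rfl⟩ := ConjClasses.exists_rep A
    obtain ⟨y, rfl⟩ := ConjClasses.exists_rep B
    apply Subtype.ext
    show ConjClasses.mk x = ConjClasses.mk y
    rw [key x (hA x rfl).1 (hA x rfl).2, key y (hB y rfl).1 (hB y rfl).2]
  · intro n hn
    rw [ConjClasses.mk_eq_mk_iff_isConj] at hn
    have h1 : n = 1 := by
      obtain ⟨c, hc⟩ := isConj_iff.1 hn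
      have : n = c⁻¹ * 1 * c := by rw [← hc]; group
      rw [this]; group
    rw [h1]
    refine ⟨?_, ?_⟩
    · rw [orderOf_one, Nat.dvd_one]
      exact hp.out.one_lt.ne'
    · exact one_mem _

/-- Criterion when `C_G(P)` is a `p`-group: more than `|N : C|` orders of `p'`-elements. -/
theorem IM_of_orders_self (P : Sylow p G) (hcyc : IsCyclic P) (hpG : p ∣ Nat.card G)
    (hC : IsPGroup p (Subgroup.centralizer ((P : Subgroup G) : Set G))) (S : Finset ℕ)
    (hS : ∀ n ∈ S, ¬ p ∣ n ∧ ∃ g : G, orderOf g = n)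
    (hlt : (Subgroup.centralizer ((P : Subgroup G) : Set G)).relIndex
        (Subgroup.normalizer ((P : Subgroup G) : Set G)) < S.card) :
    IM p G := by
  refine IM_of_orders P hcyc hpG S hS ?_
  rw [numCls_eq_one P hC, mul_one]
  exact hlt

omit hp in
/-- The number `m` is at most the number of classes of `p'`-elements of `C_G(P)`; in particular
`m ≤ k(K)` if `C_G(P) = P × K`. -/
theorem numCls_le (P : Subgroup G) {ι : Type*} [Fintype ι]
    (t : ι → Subgroup.centralizer (P : Set G))
    (ht : ∀ c : Subgroup.centralizer (P : Set G), ¬ p ∣ orderOf c → ∃ i, IsConj (t i) c) :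
    numCls p P ≤ Fintype.card ι := by
  classical
  unfold numCls
  let D := {C : ConjClasses (Subgroup.normalizer (P : Set G)) //
    ∀ n : Subgroup.normalizer (P : Set G), ConjClasses.mk n = C →
      ¬ p ∣ orderOf n ∧ (n : G) ∈ Subgroup.centralizer (P : Set G)}
  have hinc := centralizer_le_normalizer P
  have hex : ∀ A : D, ∃ i, ConjClasses.mk (⟨(t i : G), hinc (t i).2⟩ :
      Subgroup.normalizer (P : Set G)) = A.1 := by
    rintro ⟨A, hA⟩
    obtain ⟨x, rfl⟩ := ConjClasses.exists_rep A
    obtain ⟨h1, h2⟩ := hA x rfl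
    have h3 : ¬ p ∣ orderOf (⟨(x : G), h2⟩ : Subgroup.centralizer (P : Set G)) := by
      rwa [Subgroup.orderOf_mk, Subgroup.orderOf_coe]
    obtain ⟨i, hi⟩ := ht _ h3
    refine ⟨i, ?_⟩
    show ConjClasses.mk _ = ConjClasses.mk x
    rw [ConjClasses.mk_eq_mk_iff_isConj, isConj_iff]
    obtain ⟨c, hc⟩ := isConj_iff.1 hi
    refine ⟨⟨(c : G), hinc c.2⟩, ?_⟩
    apply Subtype.ext
    have h4 := congrArg Subtype.val hc
    exact h4
  choose f hf using hex
  have hfin : Finite D := inferInstance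
  have := Fintype.ofFinite D
  show Nat.card D ≤ _
  rw [Nat.card_eq_fintype_card]
  refine Fintype.card_le_of_injective f fun A B hAB => ?_
  apply Subtype.ext
  rw [← hf A, ← hf B, hAB]

end Cfsg.Agent.H593.IMCyc
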