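import Mathlib
import Cfsg.Prelude.Def_Blocks
import Cfsg.Agent.S0157
import Cfsg.Agent.CharactersDeep.FeitOddAux
import Cfsg.Agent.Characters.GaloisBasic
import Cfsg.Agent.Blocks.ConvCentral
import Cfsg.Agent.H33.IM

/-!
# Frame's theorem for permutation groups with distinct subdegrees

`Data G a b k`: `G` is transitive on `X`, the orbits of the stabilizer of `a` are those of the points
`b i`, of pairwise distinct sizes `k i`.

`frame`: the permutation character is a sum of `r` distinct irreducible characters, with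
`(∏ f i) * D = n ^ r * ∏ k i`, and `D` is a square if the degrees `f i` are pairwise distinct.
-/

set_option autoImplicit false
set_option linter.unusedSectionVars false

namespace Cfsg.Agent.H593.IMFrame

open Cfsg Cfsg.Agent.Blocks.ConvCentral
open scoped ComplexConjugate
open Cfsg.Agent.Characters.Core (isIrr_isCharacter finite_irr exists_nat_comb
  isCharacter_apply_inv classInner_isNat classInner_def isIrr_isClassFunction
  classInner_irr_self classInner_irr_ne classInner_conj_symm isIrr_iff_classInner_self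
  isIrr_apply_one isIrr_apply_one_ne_zero classInner_irr)

universe u

/-! ### Convolution with an irreducible character -/

section conv

variable {G : Type u} [Group G] [Fintype G]

theorem sum_mul_class {χ : G → ℂ} (hχ : IsIrrCharacter G χ) {f : G → ℂ}
    (hf : IsClassFunction G f) (u : G) :
    (∑ g : G, f g * χ (g * u)) * χ 1 = (∑ g : G, f g * χ g) * χ u := by
  classical
  have h1 := lin_conv hχ (f' := fun x : G => if x = u then (1 : ℂ) else 0) hf
  have h2 : lin χ (fun x : G => if x = u then (1 : ℂ) else 0) = χ u := by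
    rw [lin_def]
    simp
  have h3 : lin χ (conv f (fun x : G => if x = u then (1 : ℂ) else 0)) =
      ∑ a : G, f a * χ (a * u) := by
    rw [lin_def]
    have h4 : ∀ g : G, conv f
        (fun x : G => if x = u then (1 : ℂ) else 0) g = f (g * u⁻¹) := by
      intro g
      rw [conv_apply, Finset.sum_eq_single (g * u⁻¹)]
      · have : (g * u⁻¹)⁻¹ * g = u := by group
        rw [if_pos this, mul_one]
      · intro x _ hx
        have : x⁻¹ * g ≠ u := by
          intro h
          apply hx
          rw [← h]; group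
        rw [if_neg this, mul_zero]
      · intro h
        exact absurd (Finset.mem_univ _) h
    simp only [h4]
    refine Fintype.sum_equiv (Equiv.mulRight u⁻¹) _ _ fun g => ?_
    rw [Equiv.coe_mulRight, inv_mul_cancel_right]
  rw [h2, h3] at h1
  rw [h1, lin_def]

/-- `∑ conj χ(g) ψ(g u) = |G| δ ψ(u) / ψ(1)`. -/
theorem sum_conj_mul (χ ψ : IrrCharacter G) (u : G) [Decidable (χ = ψ)] :
    ∑ g : G, conj ((χ : G → ℂ) g) * (ψ : G → ℂ) (g * u) =
      if χ = ψ then (Nat.card G : ℂ) * (ψ : G → ℂ) u / (ψ : G → ℂ) 1 else 0 := by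
  have h1 : IsClassFunction G (fun g => conj ((χ : G → ℂ) g)) := fun g h => by
    show conj ((χ : G → ℂ) (h * g * h⁻¹)) = conj ((χ : G → ℂ) g)
    rw [isIrr_isClassFunction χ.2 g h]
  have h2 := sum_mul_class ψ.2 h1 u
  have h3 : ∑ g : G, conj ((χ : G → ℂ) g) * (ψ : G → ℂ) g =
      (Nat.card G : ℂ) * classInner (ψ : G → ℂ) (χ : G → ℂ) := by
    rw [classInner_def, ← mul_assoc, mul_inv_cancel₀
      (Cfsg.Agent.Characters.Core.card_ne_zero_complex), one_mul]
    exact Finset.sum_congr rfl fun g _ => mul_comm _ _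
  have h4 := isIrr_apply_one_ne_zero ψ.2
  split_ifs with h
  · subst h
    rw [h3, classInner_irr_self χ.2, mul_one] at h2
    rw [eq_div_iff h4, h2]
  · rw [h3, classInner_irr_ne ψ.2 χ.2 (fun hh => h (Subtype.ext hh.symm)), mul_zero, zero_mul] at h2
    exact (mul_eq_zero.1 h2).resolve_right h4

end conv

/-! ### Kernels -/

section kernel

variable {G : Type u} [Group G] [Fintype G] {X : Type u} [Fintype X] [DecidableEq X]
  [MulAction G X]

/-- The permutation character. -/
noncomputable def perm (G X : Type u) [Group G] [MulAction G X] : G → ℂ :=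
  fun g => (Nat.card (MulAction.fixedBy X g) : ℂ)

theorem perm_eq (g : G) : perm G X g = ∑ x : X, if g • x = x then (1 : ℂ) else 0 := by
  rw [Finset.sum_boole]
  unfold perm
  rw [Nat.card_eq_fintype_card, Fintype.card_subtype]
  rfl

theorem conj_perm (g : G) : conj (perm G X g) = perm G X g := Complex.conj_natCast _

/-- The kernel of the central idempotent of `χ`. -/
noncomputable def E (χ : G → ℂ) (x y : X) : ℂ :=
  χ 1 / Nat.card G * ∑ g : G, if g • y = x then conj (χ g) else 0

theorem E_smul {χ : G → ℂ} (hχ : IsClassFunction G χ) (h : G) (x y : X) :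
    E χ (h • x) (h • y) = E χ x y := by
  unfold E
  congr 1
  refine Fintype.sum_equiv (MulAut.conj h⁻¹).toEquiv _ _ fun g => ?_
  have h1 : (MulAut.conj h⁻¹).toEquiv g = h⁻¹ * g * h := by simp
  rw [h1]
  have h2 : (g • h • y = h • x) ↔ ((h⁻¹ * g * h) • y = x) := by
    rw [mul_smul, mul_smul, inv_smul_eq_iff]
  have h3 : χ (h⁻¹ * g * h) = χ g := by
    have := hχ g h⁻¹
    rwa [inv_inv] at this
  by_cases hc : g • h • y = h • x
  · rw [if_pos hc, if_pos (h2.1 hc), h3]
  · rw [if_neg hc, if_neg (fun hh => hc (h2.2 hh))]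

theorem conj_E {χ : G → ℂ} (hχ : IsCharacter G χ) (x y : X) : conj (E χ x y) = E χ y x := by
  unfold E
  rw [map_mul, map_sum]
  congr 1
  · rw [map_div₀, Complex.conj_natCast, ← isCharacter_apply_inv hχ, inv_one]
  · refine Fintype.sum_equiv (Equiv.inv G) _ _ fun g => ?_
    rw [Equiv.inv_apply]
    by_cases hc : g • y = x
    · rw [if_pos hc, if_pos (by rw [← hc, inv_smul_smul]), isCharacter_apply_inv hχ]
    · rw [if_neg hc, if_neg (fun hh => hc (by rw [← hh, smul_inv_smul])), map_zero]

/-- Product of the kernels. -/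
theorem E_mul (χ ψ : IrrCharacter G) [Decidable (χ = ψ)] (x z : X) :
    ∑ y : X, E (χ : G → ℂ) x y * E (ψ : G → ℂ) y z = if χ = ψ then E (χ : G → ℂ) x z else 0 := by
  have h1 : ∀ y : X, E (χ : G → ℂ) x y * E (ψ : G → ℂ) y z =
      (χ : G → ℂ) 1 / Nat.card G * ((ψ : G → ℂ) 1 / Nat.card G) *
        ∑ g : G, ∑ h : G, if h • z = y then (if (g * h) • z = x then
          conj ((χ : G → ℂ) g) * conj ((ψ : G → ℂ) h) else 0) else 0 := by
    intro y
    unfold E
    rw [mul_mul_mul_comm, Finset.sum_mul_sum]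
    congr 1
    refine Finset.sum_congr rfl fun g _ => Finset.sum_congr rfl fun h _ => ?_
    by_cases hh : h • z = y
    · rw [if_pos hh, if_pos hh, mul_smul, hh, ite_mul, zero_mul]
    · rw [if_neg hh, if_neg hh, mul_zero]
  simp only [h1]
  rw [← Finset.mul_sum, Finset.sum_comm]
  have h2 : ∀ g : G, ∑ y : X, ∑ h : G, (if h • z = y then (if (g * h) • z = x then
          conj ((χ : G → ℂ) g) * conj ((ψ : G → ℂ) h) else 0) else 0) =
      ∑ u : G, if u • z = x then conj ((χ : G → ℂ) g) * conj ((ψ : G → ℂ) (g⁻¹ * u)) else 0 := by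
    intro g
    rw [Finset.sum_comm]
    refine Fintype.sum_equiv (Equiv.mulLeft g) _ _ fun h => ?_
    rw [Finset.sum_ite_eq, if_pos (Finset.mem_univ _), Equiv.coe_mulLeft, inv_mul_cancel_left]
  simp only [h2]
  rw [Finset.sum_comm]
  have h3 : ∀ u : G, ∑ g : G, (if u • z = x then conj ((χ : G → ℂ) g) *
      conj ((ψ : G → ℂ) (g⁻¹ * u)) else 0) = if u • z = x then
        conj (if χ = ψ then (Nat.card G : ℂ) * (ψ : G → ℂ) u / (ψ : G → ℂ) 1 else 0) else 0 := by
    intro u
    by_cases hu : u • z = x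
    · simp only [if_pos hu]
      rw [← sum_conj_mul χ ψ u, map_sum]
      refine Fintype.sum_equiv (Equiv.inv G) _ _ fun g => ?_
      rw [Equiv.inv_apply, map_mul, Complex.conj_conj, isCharacter_apply_inv
        (isIrr_isCharacter χ.2)]
    · simp only [if_neg hu, Finset.sum_const_zero]
  simp only [h3]
  have hc : (Nat.card G : ℂ) ≠ 0 := Cfsg.Agent.Characters.Core.card_ne_zero_complex
  have h4 := isIrr_apply_one_ne_zero ψ.2
  split_ifs with h
  · subst h
    unfold E
    rw [Finset.mul_sum, Finset.mul_sum]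
    refine Finset.sum_congr rfl fun u _ => ?_
    by_cases hu : u • z = x
    · rw [if_pos hu, if_pos hu]
      have h5 : conj ((χ : G → ℂ) 1) = (χ : G → ℂ) 1 := by
        rw [← isCharacter_apply_inv (isIrr_isCharacter χ.2), inv_one]
      rw [map_div₀, map_mul, Complex.conj_natCast, h5]
      field_simp
    · rw [if_neg hu, if_neg hu, mul_zero, mul_zero]
  · simp

/-- Trace of a kernel. -/
theorem E_trace (χ : IrrCharacter G) : ∑ x : X, E (χ : G → ℂ) x x =
    (χ : G → ℂ) 1 * classInner (perm G X) (χ : G → ℂ) := by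
  unfold E
  rw [← Finset.mul_sum, Finset.sum_comm, classInner_def, div_mul_eq_mul_div, mul_div_assoc,
    div_eq_inv_mul]
  congr 2
  refine Finset.sum_congr rfl fun g _ => ?_
  rw [perm_eq, Finset.sum_mul]
  refine Finset.sum_congr rfl fun x _ => ?_
  rw [ite_mul, one_mul, zero_mul]

/-- The Gram matrix of the kernels. -/
theorem E_gram (χ ψ : IrrCharacter G) [Decidable (χ = ψ)] :
    ∑ x : X, ∑ y : X, E (χ : G → ℂ) x y * conj (E (ψ : G → ℂ) x y) =
      if χ = ψ then (χ : G → ℂ) 1 * classInner (perm G X) (χ : G → ℂ) else 0 := by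
  have h1 : ∀ x : X, ∑ y : X, E (χ : G → ℂ) x y * conj (E (ψ : G → ℂ) x y) =
      if χ = ψ then E (χ : G → ℂ) x x else 0 := by
    intro x
    simp only [conj_E (isIrr_isCharacter ψ.2)]
    exact E_mul χ ψ x x
  simp only [h1]
  split_ifs with h
  · exact E_trace χ
  · exact Finset.sum_const_zero

end kernel


/-! ### Orbits on pairs -/

/-- The stabilizer of `a` has the orbits of the points `b i`, of distinct sizes `k i`, on `X`. -/
structure Sub (G X : Type u) [Group G] [MulAction G X] {r : ℕ} (a : X) (b : Fin r → X)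
    (k : Fin r → ℕ) : Prop where
  trans : MulAction.IsPretransitive G X
  card : ∀ i, (MulAction.orbit (MulAction.stabilizer G a) (b i)).ncard = k i
  inj : Function.Injective k
  sum : ∑ i, k i = Nat.card X

section pairs

variable {G : Type u} [Group G] {X : Type u} [MulAction G X]

/-- The orbit of the pair `(a, b)`. -/
def Rel (G : Type u) [Group G] [MulAction G X] (a b x y : X) : Prop := ∃ g : G, g • a = x ∧ g • b = y

theorem Rel.smul {a b x y : X} (h : Rel G a b x y) (g : G) : Rel G a b (g • x) (g • y) := by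
  obtain ⟨h', h1, h2⟩ := h
  exact ⟨g * h', by rw [mul_smul, h1], by rw [mul_smul, h2]⟩

theorem Rel.exists_smul {a b x y x' y' : X} (h : Rel G a b x y) (h' : Rel G a b x' y') :
    ∃ g : G, g • x = x' ∧ g • y = y' := by
  obtain ⟨u, h1, h2⟩ := h
  obtain ⟨v, h3, h4⟩ := h'
  exact ⟨v * u⁻¹, by rw [mul_smul, ← h1, inv_smul_smul, h3],
    by rw [mul_smul, ← h2, inv_smul_smul, h4]⟩

variable {r : ℕ} {a : X} {b : Fin r → X} {k : Fin r → ℕ}

namespace Sub

variable (h : Sub G X a b k)

include h

theorem rel_unique {x y : X} {i j : Fin r} (hi : Rel G a (b i) x y) (hj : Rel G a (b j) x y) :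
    i = j := by
  obtain ⟨u, h1, h2⟩ := hi
  obtain ⟨v, h3, h4⟩ := hj
  have hst : v⁻¹ * u ∈ MulAction.stabilizer G a := by
    rw [MulAction.mem_stabilizer_iff, mul_smul, h1, ← h3, inv_smul_smul]
  have h5 : (⟨v⁻¹ * u, hst⟩ : MulAction.stabilizer G a) • b i = b j := by
    show (v⁻¹ * u) • b i = b j
    rw [mul_smul, h2, ← h4, inv_smul_smul]
  apply h.inj
  rw [← h.card i, ← h.card j, ← h5, MulAction.orbit_smul]

theorem exists_rel [Finite X] (x y : X) : ∃ i, Rel G a (b i) x y := by
  classical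
  have := h.trans
  obtain ⟨g, rfl⟩ := MulAction.exists_smul_eq G a x
  -- the orbits of the stabilizer cover
  have hcov : (⋃ i, MulAction.orbit (MulAction.stabilizer G a) (b i)) = Set.univ := by
    have := Fintype.ofFinite X
    rw [← Set.toFinset_inj, Set.toFinset_univ, ← Finset.card_eq_iff_eq_univ]
    have h1 : (⋃ i, MulAction.orbit (MulAction.stabilizer G a) (b i)).toFinset =
        Finset.univ.biUnion fun i => (MulAction.orbit (MulAction.stabilizer G a) (b i)).toFinset := by
      ext z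
      simp
    rw [h1, Finset.card_biUnion]
    · have h2 : ∀ i, (MulAction.orbit (MulAction.stabilizer G a) (b i)).toFinset.card = k i := by
        intro i
        rw [← h.card i, Set.ncard_eq_toFinset_card']
      rw [Finset.sum_congr rfl fun i _ => h2 i, h.sum, Nat.card_eq_fintype_card]
    · intro i _ j _ hij
      show Disjoint _ _
      rw [Finset.disjoint_left]
      intro z hz hz'
      rw [Set.mem_toFinset] at hz hz'
      apply hij
      apply h.inj
      rw [← h.card i, ← h.card j, ← MulAction.orbit_eq_iff.2 hz, ← MulAction.orbit_eq_iff.2 hz']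
  have h2 : g⁻¹ • y ∈ (⋃ i, MulAction.orbit (MulAction.stabilizer G a) (b i)) := by
    rw [hcov]; exact Set.mem_univ _
  obtain ⟨i, hi⟩ := Set.mem_iUnion.1 h2
  obtain ⟨s, hs⟩ := hi
  refine ⟨i, g * (s : G), ?_, ?_⟩
  · rw [mul_smul, MulAction.mem_stabilizer_iff.1 s.2]
  · have hs' : (s : G) • b i = g⁻¹ • y := hs
    rw [mul_smul, hs', smul_inv_smul]

theorem ncard_rel [Finite X] (i : Fin r) (x : X) : {y | Rel G a (b i) x y}.ncard = k i := by
  have := h.trans
  obtain ⟨g, rfl⟩ := MulAction.exists_smul_eq G a x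
  have h1 : {y | Rel G a (b i) (g • a) y} =
      (fun z => g • z) '' (MulAction.orbit (MulAction.stabilizer G a) (b i)) := by
    ext y
    constructor
    · rintro ⟨v, h1, h2⟩
      have hst : g⁻¹ * v ∈ MulAction.stabilizer G a := by
        rw [MulAction.mem_stabilizer_iff, mul_smul, h1, inv_smul_smul]
      refine ⟨g⁻¹ • y, ⟨⟨g⁻¹ * v, hst⟩, ?_⟩, ?_⟩
      · show (g⁻¹ * v) • b i = g⁻¹ • y
        rw [mul_smul, h2]
      · show g • g⁻¹ • y = y
        rw [smul_inv_smul]
    · rintro ⟨z, ⟨s, hs⟩, rfl⟩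
      have hs' : (s : G) • b i = z := hs
      refine ⟨g * s, ?_, ?_⟩
      · rw [mul_smul, MulAction.mem_stabilizer_iff.1 s.2]
      · show (g * (s : G)) • b i = g • z
        rw [mul_smul, hs']
  rw [h1, Set.ncard_image_of_injective _ (MulAction.injective g), h.card]

theorem ncard_pairs [Finite X] (i : Fin r) :
    {z : X × X | Rel G a (b i) z.1 z.2}.ncard = Nat.card X * k i := by
  classical
  have := Fintype.ofFinite X
  have h1 : {z : X × X | Rel G a (b i) z.1 z.2}.ncard =
      Nat.card (Σ x : X, {y // Rel G a (b i) x y}) :=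
    Nat.card_congr (Equiv.subtypeProdEquivSigmaSubtype (fun x y => Rel G a (b i) x y))
  rw [h1, Nat.card_sigma]
  have h2 : ∀ x : X, Nat.card {y // Rel G a (b i) x y} = k i := fun x => h.ncard_rel i x
  rw [Finset.sum_congr rfl fun x _ => h2 x, Finset.sum_const, Finset.card_univ, smul_eq_mul,
    Nat.card_eq_fintype_card]

theorem card_pos [Finite X] : 0 < Nat.card X := by
  have : Nonempty X := ⟨a⟩
  exact Nat.card_pos

/-- All orbitals are self-paired. -/
theorem symm [Finite X] {i : Fin r} {x y : X} (hi : Rel G a (b i) x y) : Rel G a (b i) y x := by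
  obtain ⟨j, hj⟩ := h.exists_rel y x
  have h1 : (fun z : X × X => (z.2, z.1)) '' {z : X × X | Rel G a (b i) z.1 z.2} =
      {z : X × X | Rel G a (b j) z.1 z.2} := by
    ext ⟨u, v⟩
    constructor
    · rintro ⟨⟨u', v'⟩, h1, h2⟩
      simp only [Prod.mk.injEq] at h2
      obtain ⟨rfl, rfl⟩ := h2
      obtain ⟨g, h3, h4⟩ := hi.exists_smul h1
      show Rel G a (b j) v' u'
      have h3' : g • x = u' := h3
      have h4' : g • y = v' := h4
      rw [← h3', ← h4']
      exact hj.smul g
    · intro h1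
      refine ⟨(v, u), ?_, rfl⟩
      obtain ⟨g, h3, h4⟩ := hj.exists_smul h1
      show Rel G a (b i) v u
      have h3' : g • y = u := h3
      have h4' : g • x = v := h4
      rw [← h3', ← h4']
      exact hi.smul g
  have hinj : Function.Injective (fun z : X × X => (z.2, z.1)) := by
    rintro ⟨u, v⟩ ⟨u', v'⟩ hz
    simp only [Prod.mk.injEq] at hz
    obtain ⟨rfl, rfl⟩ := hz
    rfl
  have h2 := congrArg Set.ncard h1
  rw [Set.ncard_image_of_injective _ hinj, h.ncard_pairs, h.ncard_pairs] at h2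
  have h3 : i = j := h.inj (Nat.eq_of_mul_eq_mul_left h.card_pos h2)
  rwa [h3]

theorem card_orbits [Finite X] : Nat.card (Quotient (MulAction.orbitRel G (X × X))) = r := by
  classical
  have hb : Function.Bijective (fun i : Fin r =>
      (Quotient.mk (MulAction.orbitRel G (X × X)) (a, b i))) := by
    constructor
    · intro i j hij
      have h1 : (a, b i) ∈ MulAction.orbit G (a, b j) := Quotient.exact hij
      obtain ⟨g, hg⟩ := h1
      have hg1 : g • a = a := congrArg Prod.fst hg
      have hg2 : g • b j = b i := congrArg Prod.snd hg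
      exact (h.rel_unique (⟨g, hg1, hg2⟩ : Rel G a (b j) a (b i))
        ⟨1, one_smul _ _, one_smul _ _⟩).symm
    · intro q
      obtain ⟨⟨x, y⟩, rfl⟩ := Quotient.exists_rep q
      obtain ⟨i, g, h1, h2⟩ := h.exists_rel x y
      refine ⟨i, Quotient.sound ?_⟩
      show (a, b i) ∈ MulAction.orbit G (x, y)
      refine ⟨g⁻¹, ?_⟩
      show (g⁻¹ • x, g⁻¹ • y) = (a, b i)
      rw [← h1, ← h2, inv_smul_smul, inv_smul_smul]
  rw [← Nat.card_congr (Equiv.ofBijective _ hb), Nat.card_fin]

/-- Invariant functions are constant on the orbitals. -/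
theorem sum_invariant [Fintype X] (F : X → X → ℂ) (hF : ∀ (g : G) x y, F (g • x) (g • y) = F x y) :
    ∑ x : X, ∑ y : X, F x y = ∑ i, ((Nat.card X * k i : ℕ) : ℂ) * F a (b i) := by
  classical
  choose o ho using fun z : X × X => h.exists_rel z.1 z.2
  rw [← Fintype.sum_prod_type' F, ← Finset.sum_fiberwise Finset.univ o]
  refine Finset.sum_congr rfl fun i _ => ?_
  have h1 : ∀ z ∈ Finset.univ.filter (fun z => o z = i), F z.1 z.2 = F a (b i) := by
    intro z hz
    have h2 := ho z
    rw [(Finset.mem_filter.1 hz).2] at h2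
    obtain ⟨g, h3, h4⟩ := h2
    rw [← h3, ← h4, hF]
  rw [Finset.sum_congr rfl h1, Finset.sum_const, nsmul_eq_mul]
  congr 2
  rw [← h.ncard_pairs i, Set.ncard_eq_toFinset_card']
  congr 1
  ext z
  simp only [Finset.mem_filter, Finset.mem_univ, true_and, Set.mem_toFinset]
  show o z = i ↔ Rel G a (b i) z.1 z.2
  constructor
  · rintro rfl
    exact ho z
  · intro hz
    exact h.rel_unique (ho z) hz

end Sub

end pairs


/-! ### Frame's theorem -/

section main

variable {G : Type u} [Group G] [Fintype G] {X : Type u} [MulAction G X] [Fintype X] {r : ℕ}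
  {a : X} {b : Fin r → X} {k : Fin r → ℕ}

theorem sum_perm_sq [DecidableEq X] (h : Sub G X a b k) :
    ∑ g : G, perm G X (g * g) = ∑ g : G, perm G X g * perm G X g := by
  classical
  have h1 : ∀ g : G, perm G X (g * g) = ∑ x : X, ∑ y : X,
      if g • x = y ∧ g • y = x then (1 : ℂ) else 0 := by
    intro g
    rw [perm_eq]
    refine Finset.sum_congr rfl fun x _ => ?_
    rw [Finset.sum_eq_single (g • x)]
    · rw [mul_smul]
      by_cases hc : g • g • x = x
      · rw [if_pos hc, if_pos ⟨rfl, hc⟩]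
      · rw [if_neg hc, if_neg (fun hh => hc hh.2)]
    · intro y _ hy
      rw [if_neg (fun hh => hy hh.1.symm)]
    · intro hh
      exact absurd (Finset.mem_univ _) hh
  have h2 : ∀ g : G, perm G X g * perm G X g = ∑ x : X, ∑ y : X,
      if g • x = x ∧ g • y = y then (1 : ℂ) else 0 := by
    intro g
    rw [perm_eq, Finset.sum_mul_sum]
    refine Finset.sum_congr rfl fun x _ => Finset.sum_congr rfl fun y _ => ?_
    by_cases hx : g • x = x
    · by_cases hy : g • y = y
      · rw [if_pos hx, if_pos hy, if_pos ⟨hx, hy⟩, one_mul]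
      · rw [if_neg hy, mul_zero, if_neg (fun hh : g • x = x ∧ g • y = y => hy hh.2)]
    · rw [if_neg hx, zero_mul, if_neg (fun hh : g • x = x ∧ g • y = y => hx hh.1)]
  simp only [h1, h2]
  rw [Finset.sum_comm]
  conv_rhs => rw [Finset.sum_comm]
  refine Finset.sum_congr rfl fun x _ => ?_
  rw [Finset.sum_comm]
  conv_rhs => rw [Finset.sum_comm]
  refine Finset.sum_congr rfl fun y _ => ?_
  obtain ⟨i, hi⟩ := h.exists_rel x y
  obtain ⟨g₀, h3, h4⟩ := hi.exists_smul (h.symm hi)
  refine Fintype.sum_equiv (Equiv.mulLeft g₀⁻¹) _ _ fun g => ?_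
  have h5 : (g • x = y ∧ g • y = x) ↔ ((Equiv.mulLeft g₀⁻¹ g) • x = x ∧
      (Equiv.mulLeft g₀⁻¹ g) • y = y) := by
    rw [Equiv.coe_mulLeft, mul_smul, mul_smul, inv_smul_eq_iff, inv_smul_eq_iff, h3, h4]
  by_cases hc : g • x = y ∧ g • y = x
  · rw [if_pos hc, if_pos (h5.1 hc)]
  · rw [if_neg hc, if_neg (fun hh => hc (h5.2 hh))]

theorem exists_mult [Fintype (IrrCharacter G)] (h : Sub G X a b k) :
    ∃ m : IrrCharacter G → ℕ, perm G X = ∑ ψ : IrrCharacter G, m ψ • (ψ : G → ℂ) ∧
      (∀ χ, m χ ≤ 1) ∧ ∑ χ, m χ = r := by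
  classical
  obtain ⟨m, hm⟩ := exists_nat_comb (Cfsg.Agent.S0157.isCharacter_fixedBy (G := G) X)
  have hm' : perm G X = ∑ ψ : IrrCharacter G, m ψ • (ψ : G → ℂ) := hm
  have hG : (Nat.card G : ℂ) ≠ 0 := Cfsg.Agent.Characters.Core.card_ne_zero_complex
  have hperm : ∀ g : G, perm G X g = ∑ ψ : IrrCharacter G, (m ψ : ℂ) * (ψ : G → ℂ) g := by
    intro g
    rw [hm', Finset.sum_apply]
    exact Finset.sum_congr rfl fun ψ _ => by rw [Pi.smul_apply, nsmul_eq_mul]
  -- the rank
  have h1 : (Nat.card G : ℂ)⁻¹ * ∑ g : G, perm G X g * perm G X g = r := by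
    have h2 := Cfsg.Agent.S0157.avg_fixedBy (G := G) (X × X)
    rw [h.card_orbits] at h2
    rw [← h2]
    congr 1
    refine Finset.sum_congr rfl fun g _ => ?_
    rw [Cfsg.Agent.S0157.card_fixedBy_prod, Nat.cast_mul]
    rfl
  have h2 : (Nat.card G : ℂ)⁻¹ * ∑ g : G, perm G X g * perm G X g =
      ∑ χ : IrrCharacter G, (m χ : ℂ) * (m χ : ℂ) := by
    have h3 : classInner (perm G X) (perm G X) = ∑ χ : IrrCharacter G, (m χ : ℂ) * (m χ : ℂ) := by
      have h4 := Cfsg.Agent.Characters.Core.classInner_sum_smul_sum_smul (G := G)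
        (fun χ => (m χ : ℂ)) (fun χ => (m χ : ℂ))
      have h5 : perm G X = ∑ ψ : IrrCharacter G, (m ψ : ℂ) • (ψ : G → ℂ) := by
        rw [hm']
        exact Finset.sum_congr rfl fun ψ _ => by rw [Nat.cast_smul_eq_nsmul]
      rw [← h5] at h4
      rw [h4]
      exact Finset.sum_congr rfl fun χ _ => by rw [Complex.conj_natCast]
    rw [← h3, classInner_def]
    congr 1
    refine Finset.sum_congr rfl fun g _ => ?_
    rw [conj_perm]
  -- the indicator
  choose ν hν1 hν2 _ using fun χ : IrrCharacter G =>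
    Cfsg.Agent.CharactersDeep.FeitOddAux.exists_indicator χ.2
  have h3 : (Nat.card G : ℂ)⁻¹ * ∑ g : G, perm G X (g * g) =
      ∑ χ : IrrCharacter G, (m χ : ℂ) * (ν χ : ℂ) := by
    simp only [hperm]
    rw [Finset.sum_comm, Finset.mul_sum]
    refine Finset.sum_congr rfl fun χ _ => ?_
    rw [← hν2 χ, ← Finset.mul_sum]
    ring
  rw [sum_perm_sq h] at h3
  have h4 : ∑ χ : IrrCharacter G, ((m χ : ℤ) * m χ - m χ * ν χ) = 0 := by
    have h5 : ((∑ χ : IrrCharacter G, ((m χ : ℤ) * m χ - m χ * ν χ) : ℤ) : ℂ) = 0 := by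
      push_cast
      rw [Finset.sum_sub_distrib, ← h2, ← h3, sub_self]
    exact_mod_cast h5
  have hle : ∀ χ, (0 : ℤ) ≤ (m χ : ℤ) * m χ - m χ * ν χ := by
    intro χ
    have h5 : ν χ ≤ 1 := by rcases hν1 χ with hh | hh | hh <;> rw [hh] <;> norm_num
    rcases Nat.eq_zero_or_pos (m χ) with h0 | h0
    · rw [h0]; simp
    · have h6 : (1 : ℤ) ≤ m χ := by exact_mod_cast h0
      nlinarith
  have h5 := (Finset.sum_eq_zero_iff_of_nonneg fun χ _ => hle χ).1 h4
  have h6 : ∀ χ, m χ ≤ 1 := by
    intro χ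
    have h7 := h5 χ (Finset.mem_univ _)
    by_contra hcon
    push Not at hcon
    have h8 : ν χ ≤ 1 := by rcases hν1 χ with hh | hh | hh <;> rw [hh] <;> norm_num
    have h9 : (2 : ℤ) ≤ m χ := by exact_mod_cast hcon
    nlinarith
  refine ⟨m, hm', h6, ?_⟩
  have h7 : ((∑ χ, m χ : ℕ) : ℂ) = r := by
    rw [← h1, h2, Nat.cast_sum]
    refine Finset.sum_congr rfl fun χ _ => ?_
    have := h6 χ
    interval_cases (m χ) <;> simp
  exact_mod_cast h7

/-- The character `g ↦ χ (g ^ m)`. -/
theorem isIrr_pow {m : ℕ} (hm : m.Coprime (Nat.card G)) {χ : G → ℂ} (hχ : IsIrrCharacter G χ) :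
    IsIrrCharacter G (fun g => χ (g ^ m)) := by
  have h1 := Cfsg.Agent.Characters.GaloisBasic.isCharacter_pow hm (isIrr_isCharacter hχ)
  rw [isIrr_iff_classInner_self h1]
  rw [← classInner_irr_self hχ, classInner_def, classInner_def]
  congr 1
  exact Fintype.sum_equiv (powCoprime hm.symm) _ _ fun g => rfl

theorem perm_pow {m : ℕ} (hm : m.Coprime (Nat.card G)) (g : G) :
    perm G X (g ^ m) = perm G X g := by
  have key : ∀ (u : G) (n : ℕ), MulAction.fixedBy X u ⊆ MulAction.fixedBy X (u ^ n) := by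
    intro u n x hx
    rw [MulAction.mem_fixedBy] at hx ⊢
    induction n with
    | zero => rw [pow_zero, one_smul]
    | succ n ih => rw [pow_succ, mul_smul, hx, ih]
  have h2 : MulAction.fixedBy X (g ^ m) = MulAction.fixedBy X g := by
    apply Set.Subset.antisymm
    · have hcop : m.Coprime (orderOf g) := (hm.symm.coprime_dvd_left (orderOf_dvd_natCard g)).symm
      obtain ⟨n, hn⟩ := exists_pow_eq_self_of_coprime hcop
      have h1 := key (g ^ m) n
      rwa [hn] at h1
    · exact key g m
  unfold perm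
  rw [h2]

theorem charDegree_eq {χ : G → ℂ} (hχ : IsIrrCharacter G χ) : (charDegree χ : ℂ) = χ 1 := by
  obtain ⟨n, -, hn⟩ := isIrr_apply_one hχ
  unfold charDegree
  rw [hn]
  simp

/-- **Frame's theorem.** -/
theorem frame (h : Sub G X a b k) : ∃ (χ : Fin r → IrrCharacter G) (D : ℕ),
    Function.Injective χ ∧ (∀ g, perm G X g = ∑ i, (χ i : G → ℂ) g) ∧
    (∑ i, charDegree (χ i : G → ℂ) = Nat.card X) ∧
    (∏ i, charDegree (χ i : G → ℂ)) * D = ∏ i, (Nat.card X * k i) ∧
    (Function.Injective (fun i => charDegree (χ i : G → ℂ)) → IsSquare D) := by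
  classical
  have hfin := finite_irr (G := G)
  have := Fintype.ofFinite (IrrCharacter G)
  obtain ⟨m, hm, hm1, hmr⟩ := exists_mult h
  have hinner : ∀ χ : IrrCharacter G, classInner (perm G X) (χ : G → ℂ) = m χ := by
    intro χ
    rw [hm]
    exact Cfsg.Agent.Characters.Core.classInner_sum_nsmul_irr m χ
  set S : Finset (IrrCharacter G) := Finset.univ.filter (fun χ => m χ = 1) with hS
  have hcard : S.card = r := by
    rw [← hmr, Finset.card_filter]
    refine Finset.sum_congr rfl fun χ _ => ?_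
    have := hm1 χ
    interval_cases (m χ) <;> simp
  let e : Fin r ≃ S := (S.equivFinOfCardEq hcard).symm
  let χ : Fin r → IrrCharacter G := fun i => (e i : IrrCharacter G)
  have hχinj : Function.Injective χ := fun i j hij => e.injective (Subtype.ext hij)
  have hχm : ∀ i, m (χ i) = 1 := fun i => (Finset.mem_filter.1 (e i).2).2
  have hχsurj : ∀ ψ, m ψ = 1 → ∃ i, χ i = ψ := by
    intro ψ hψ
    exact ⟨e.symm ⟨ψ, Finset.mem_filter.2 ⟨Finset.mem_univ _, hψ⟩⟩, by simp [χ]⟩
  have hperm : ∀ g, perm G X g = ∑ i, (χ i : G → ℂ) g := by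
    intro g
    have h1 : perm G X g = ∑ ψ : IrrCharacter G, (m ψ : ℂ) * (ψ : G → ℂ) g := by
      rw [hm, Finset.sum_apply]
      exact Finset.sum_congr rfl fun ψ _ => by rw [Pi.smul_apply, nsmul_eq_mul]
    have h2 : ∑ i, (χ i : G → ℂ) g = ∑ ψ ∈ S, (ψ : G → ℂ) g := by
      rw [← Finset.sum_coe_sort S]
      exact Fintype.sum_equiv e _ _ fun i => rfl
    rw [h1, h2, hS, Finset.sum_filter]
    refine Finset.sum_congr rfl fun ψ _ => ?_
    have := hm1 ψ
    rcases Nat.le_one_iff_eq_zero_or_eq_one.1 this with h0 | h0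
    · rw [h0]; simp
    · rw [h0]; simp
  -- the matrix
  let Q : Matrix (Fin r) (Fin r) ℂ := fun s i => E (χ s : G → ℂ) a (b i)
  let N : Fin r → ℕ := fun i => Nat.card X * k i
  have hgram : Q * Matrix.diagonal (fun i => (N i : ℂ)) * Q.conjTranspose =
      Matrix.diagonal (fun s => (charDegree (χ s : G → ℂ) : ℂ)) := by
    ext s t
    rw [Matrix.mul_apply]
    have h1 : ∀ i, (Q * Matrix.diagonal (fun i => (N i : ℂ))) s i * Q.conjTranspose i t =
        (N i : ℂ) * (E (χ s : G → ℂ) a (b i) * conj (E (χ t : G → ℂ) a (b i))) := by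
      intro i
      rw [Matrix.mul_diagonal, Matrix.conjTranspose_apply]
      show E (χ s : G → ℂ) a (b i) * (N i : ℂ) * conj (E (χ t : G → ℂ) a (b i)) = _
      ring
    rw [Finset.sum_congr rfl fun i _ => h1 i]
    have h2 := h.sum_invariant (fun x y => E (χ s : G → ℂ) x y * conj (E (χ t : G → ℂ) x y))
      (fun g x y => by
        rw [E_smul (isIrr_isClassFunction (χ s).2), E_smul (isIrr_isClassFunction (χ t).2)])
    rw [← h2, E_gram]
    by_cases hst : s = t
    · subst hst
      rw [if_pos rfl, Matrix.diagonal_apply_eq, hinner, hχm, Nat.cast_one, mul_one,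
        charDegree_eq (χ s).2]
    · rw [if_neg (fun hh => hst (hχinj hh)), Matrix.diagonal_apply_ne _ hst]
  have hdeg0 : ∀ s, (charDegree (χ s : G → ℂ) : ℂ) ≠ 0 := fun s => by
    rw [charDegree_eq (χ s).2]
    exact isIrr_apply_one_ne_zero (χ s).2
  have hdet : Q.det * (∏ i, (N i : ℂ)) * conj Q.det = ∏ s, (charDegree (χ s : G → ℂ) : ℂ) := by
    have h1 := congrArg Matrix.det hgram
    rw [Matrix.det_mul, Matrix.det_mul, Matrix.det_diagonal, Matrix.det_diagonal,
      Matrix.det_conjTranspose] at h1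
    exact h1
  have hprod0 : (∏ s, (charDegree (χ s : G → ℂ) : ℂ)) ≠ 0 :=
    Finset.prod_ne_zero_iff.2 fun s _ => hdeg0 s
  have hQ0 : Q.det ≠ 0 := by
    intro h0
    rw [h0, zero_mul, zero_mul] at hdet
    exact hprod0 hdet.symm
  have hQu : IsUnit Q.det := isUnit_iff_ne_zero.2 hQ0
  let P : Matrix (Fin r) (Fin r) ℂ := Q⁻¹
  have hPQ : P * Q = 1 := Matrix.nonsing_inv_mul Q hQu
  -- the kernel of the orbital
  have hA : ∀ i x y, (if Rel G a (b i) x y then (1 : ℂ) else 0) =
      ∑ s, P i s * E (χ s : G → ℂ) x y := by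
    intro i x y
    obtain ⟨j, hj⟩ := h.exists_rel x y
    have h1 : ∀ s, E (χ s : G → ℂ) x y = Q s j := by
      intro s
      obtain ⟨g, h1, h2⟩ := hj
      rw [← h1, ← h2, E_smul (isIrr_isClassFunction (χ s).2)]
    simp only [h1]
    have h2 : ∑ s, P i s * Q s j = (1 : Matrix (Fin r) (Fin r) ℂ) i j := by
      rw [← hPQ, Matrix.mul_apply]
    rw [h2, Matrix.one_apply]
    by_cases hij : i = j
    · subst hij
      rw [if_pos hj, if_pos rfl]
    · rw [if_neg hij, if_neg (fun hh => hij (h.rel_unique hh hj))]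
  have hAE : ∀ i s x z, ∑ y : X, (if Rel G a (b i) x y then (1 : ℂ) else 0) *
      E (χ s : G → ℂ) y z = P i s * E (χ s : G → ℂ) x z := by
    intro i s x z
    simp only [hA, Finset.sum_mul]
    rw [Finset.sum_comm, Finset.sum_eq_single s]
    · have h1 := E_mul (χ s) (χ s) x z
      rw [if_pos rfl] at h1
      rw [← h1, Finset.mul_sum]
      exact Finset.sum_congr rfl fun y _ => by ring
    · intro t _ ht
      have h1 := E_mul (χ t) (χ s) x z
      rw [if_neg (fun hh => ht (hχinj hh))] at h1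
      have h2 : ∑ y : X, P i t * E (χ t : G → ℂ) x y * E (χ s : G → ℂ) y z =
          P i t * ∑ y : X, E (χ t : G → ℂ) x y * E (χ s : G → ℂ) y z := by
        rw [Finset.mul_sum]
        exact Finset.sum_congr rfl fun y _ => by ring
      rw [h2, h1, mul_zero]
    · intro hh
      exact absurd (Finset.mem_univ _) hh
  -- the kernels do not vanish
  have hE0 : ∀ s, E (χ s : G → ℂ) a a ≠ 0 := by
    intro s h0
    have h1 := E_trace (X := X) (χ s)
    have h2 : ∀ x : X, E (χ s : G → ℂ) x x = 0 := by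
      intro x
      have := h.trans
      obtain ⟨g, rfl⟩ := MulAction.exists_smul_eq G a x
      rw [E_smul (isIrr_isClassFunction (χ s).2), h0]
    rw [Finset.sum_congr rfl fun x _ => h2 x, Finset.sum_const_zero, hinner, hχm, Nat.cast_one,
      mul_one] at h1
    exact isIrr_apply_one_ne_zero (χ s).2 h1.symm
  have hPint : ∀ i s, IsIntegral ℤ (P i s) := by
    intro i s
    let L : Submodule ℤ ℂ := Submodule.span ℤ (Set.range fun x : X => E (χ s : G → ℂ) x a)
    refine isIntegral_of_smul_mem_submodule L ?_ ?_ _ ?_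
    · intro hL
      have h1 : E (χ s : G → ℂ) a a ∈ L := Submodule.subset_span ⟨a, rfl⟩
      rw [hL, Submodule.mem_bot] at h1
      exact hE0 s h1
    · exact Submodule.fg_span (Set.finite_range _)
    · intro n hn
      induction hn using Submodule.span_induction with
      | mem n hn =>
        obtain ⟨x, rfl⟩ := hn
        show P i s • E (χ s : G → ℂ) x a ∈ L
        rw [smul_eq_mul, ← hAE i s x a]
        refine Submodule.sum_mem _ fun y _ => ?_
        by_cases hc : Rel G a (b i) x y
        · rw [if_pos hc, one_mul]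
          exact Submodule.subset_span ⟨y, rfl⟩
        · rw [if_neg hc, zero_mul]
          exact Submodule.zero_mem _
      | zero => rw [smul_zero]; exact Submodule.zero_mem _
      | add u v _ _ hu hv => rw [smul_add]; exact Submodule.add_mem _ hu hv
      | smul c u _ hu =>
        rw [smul_comm]
        exact Submodule.smul_mem _ c hu
  have hPdet : IsIntegral ℤ P.det := IsIntegral.det hPint
  have hPQdet : P.det * Q.det = 1 := by rw [← Matrix.det_mul, hPQ, Matrix.det_one]
  -- the integer `D`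
  have hz : (∏ s, (charDegree (χ s : G → ℂ) : ℂ)) * (P.det * conj P.det) = ∏ i, (N i : ℂ) := by
    rw [← hdet]
    have h1 : conj P.det * conj Q.det = 1 := by rw [← map_mul, hPQdet, map_one]
    calc Q.det * (∏ i, (N i : ℂ)) * conj Q.det * (P.det * conj P.det) =
        (P.det * Q.det) * (conj P.det * conj Q.det) * ∏ i, (N i : ℂ) := by ring
      _ = ∏ i, (N i : ℂ) := by rw [hPQdet, h1, one_mul, one_mul]
  have hzrat : P.det * conj P.det =
      (((∏ i, (N i : ℚ)) / (∏ s, (charDegree (χ s : G → ℂ) : ℚ)) : ℚ) : ℂ) := by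
    push_cast
    rw [eq_div_iff hprod0, mul_comm, hz]
  obtain ⟨D', hD'⟩ := Cfsg.Agent.Characters.GaloisBasic.exists_int_of_isIntegral
    (hPdet.mul (hPdet.map (Complex.conjAe.toAlgHom.restrictScalars ℤ))) ⟨_, hzrat⟩
  have hDz : P.det * conj P.det = (D' : ℂ) := hD'
  have hD0 : 0 ≤ D' := by
    have h1 : P.det * conj P.det = ((Complex.normSq P.det : ℝ) : ℂ) := Complex.mul_conj _
    rw [hDz] at h1
    have h2 : (D' : ℝ) = Complex.normSq P.det := by exact_mod_cast h1
    have h3 : (0 : ℝ) ≤ D' := by rw [h2]; exact Complex.normSq_nonneg _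
    exact_mod_cast h3
  lift D' to ℕ using hD0 with D hDD
  refine ⟨χ, D, hχinj, hperm, ?_, ?_, ?_⟩
  · have h1 := hperm 1
    have h2 : perm G X 1 = Nat.card X := by
      unfold perm
      rw [MulAction.fixedBy_one_eq_univ, Nat.card_coe_set_eq, Set.ncard_univ]
    rw [h2] at h1
    have h3 : ((∑ i, charDegree (χ i : G → ℂ) : ℕ) : ℂ) = Nat.card X := by
      rw [h1, Nat.cast_sum]
      exact Finset.sum_congr rfl fun i _ => charDegree_eq (χ i).2
    exact_mod_cast h3
  · have h1 : (((∏ i, charDegree (χ i : G → ℂ)) * D : ℕ) : ℂ) = ((∏ i, N i : ℕ) : ℂ) := by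
      push_cast
      rw [← hz, hDz]
      push_cast
      rfl
    exact_mod_cast h1
  · intro hinj
    -- the characters are rational
    have hrat : ∀ s (g : G), ∃ q : ℚ, (χ s : G → ℂ) g = q := by
      intro s g
      rw [Cfsg.Agent.Characters.GaloisBasic.exists_rat_iff (isIrr_isCharacter (χ s).2)]
      intro n hn
      let ψ : IrrCharacter G := ⟨fun g => (χ s : G → ℂ) (g ^ n), isIrr_pow hn (χ s).2⟩
      have h1 : classInner (perm G X) (ψ : G → ℂ) = classInner (perm G X) (χ s : G → ℂ) := by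
        rw [classInner_def, classInner_def]
        congr 1
        refine Fintype.sum_equiv (powCoprime hn.symm) _ _ fun u => ?_
        show perm G X u * conj ((χ s : G → ℂ) (u ^ n)) =
          perm G X (u ^ n) * conj ((χ s : G → ℂ) (u ^ n))
        rw [perm_pow hn]
      rw [hinner, hinner, hχm] at h1
      have h2 : m ψ = 1 := by exact_mod_cast h1
      obtain ⟨t, ht⟩ := hχsurj ψ h2
      have h3 : s = t := by
        apply hinj
        show charDegree (χ s : G → ℂ) = charDegree (χ t : G → ℂ)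
        rw [ht]
        unfold charDegree
        show _ = ⌊(((χ s : G → ℂ) (1 ^ n))).re⌋₊
        rw [one_pow]
      rw [← h3] at ht
      exact (congrFun (congrArg Subtype.val ht) g).symm
    have hErat : ∀ s i, ∃ q : ℚ, Q s i = q := by
      intro s i
      choose q hq using hrat s
      refine ⟨q 1 / Nat.card G * ∑ g : G, if g • b i = a then q g else 0, ?_⟩
      show E (χ s : G → ℂ) a (b i) = _
      unfold E
      push_cast
      rw [hq 1]
      congr 1
      refine Finset.sum_congr rfl fun g _ => ?_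
      by_cases hc : g • b i = a
      · rw [if_pos hc, if_pos hc, hq g, map_ratCast]
      · rw [if_neg hc, if_neg hc]
        simp
    choose q hq using hErat
    have h1 : Q.det = ((Matrix.of q).det : ℚ) := by
      have h2 : Q = (Matrix.of q).map (Rat.castHom ℂ) := by
        ext s i
        rw [hq s i]
        rfl
      rw [h2, ← RingHom.mapMatrix_apply, ← RingHom.map_det]
      rfl
    have h2 : ((D : ℚ)) = ((Matrix.of q).det)⁻¹ * ((Matrix.of q).det)⁻¹ := by
      have h3 : P.det = (((Matrix.of q).det)⁻¹ : ℚ) := by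
        rw [Rat.cast_inv, ← h1]
        exact eq_inv_of_mul_eq_one_left hPQdet
      have h4 : ((D : ℚ) : ℂ) = ((((Matrix.of q).det)⁻¹ * ((Matrix.of q).det)⁻¹ : ℚ) : ℂ) := by
        rw [Rat.cast_mul, ← h3, Rat.cast_natCast]
        have h5 : conj P.det = P.det := by rw [h3, map_ratCast]
        rw [h5] at hDz
        rw [hDz]
        push_cast
        rfl
      exact_mod_cast h4
    rw [← Rat.isSquare_natCast_iff]
    exact ⟨_, h2⟩

end main

/-! ### Criteria -/

section criteria

open Cfsg.Agent.H33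

variable {G : Type u} [Group G] [Finite G] {X : Type u} [MulAction G X] [Finite X] {r : ℕ}
  {a : X} {b : Fin r → X} {k : Fin r → ℕ}

/-- The degrees of the constituents. -/
theorem exists_degrees (h : Sub G X a b k) : ∃ (χ : Fin r → IrrCharacter G) (f : Fin r → ℕ) (D : ℕ),
    Function.Injective χ ∧ (∀ i, (χ i : G → ℂ) 1 = f i) ∧ (∀ i, f i ∣ Nat.card G) ∧
    (∃ i, (χ i : G → ℂ) = 1 ∧ f i = 1) ∧ ∑ i, f i = Nat.card X ∧
    (∏ i, f i) * D = ∏ i, (Nat.card X * k i) ∧ (Function.Injective f → IsSquare D) := by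
  classical
  have := Fintype.ofFinite G
  have := Fintype.ofFinite X
  obtain ⟨χ, D, h1, h2, h3, h4, h5⟩ := frame h
  refine ⟨χ, fun i => charDegree (χ i : G → ℂ), D, h1, fun i => (charDegree_eq (χ i).2).symm,
    fun i => Cfsg.Agent.Blocks.Knorr.charDegree_dvd (χ i).2, ?_, h3, h4, h5⟩
  -- the trivial character
  have h6 : classInner (perm G X) (1 : G → ℂ) = 1 := by
    have h7 := Cfsg.Agent.S0157.avg_fixedBy (G := G) X
    have := h.trans
    have : Nonempty X := ⟨a⟩
    rw [Cfsg.Agent.S0157.card_orbits_of_pretransitive G X] at h7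
    rw [classInner_def]
    simpa [perm] using h7
  have h7 : classInner (perm G X) (1 : G → ℂ) =
      ∑ i, classInner (χ i : G → ℂ) (1 : G → ℂ) := by
    have h8 : perm G X = ∑ i, (χ i : G → ℂ) := by
      funext g
      rw [h2 g, Finset.sum_apply]
    rw [h8, Cfsg.Agent.Characters.Core.classInner_sum_left]
  have h8 : ∃ i, (χ i : G → ℂ) = 1 := by
    by_contra hcon
    push Not at hcon
    rw [h6, Finset.sum_eq_zero] at h7
    · exact one_ne_zero h7
    · intro i _
      exact classInner_irr_ne (χ i).2 Cfsg.Agent.Characters.Core.isIrr_one (hcon i)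
  obtain ⟨i, hi⟩ := h8
  refine ⟨i, hi, ?_⟩
  show charDegree (χ i : G → ℂ) = 1
  rw [hi]
  unfold charDegree
  simp

/-- **Criterion.** `v_p` of the product of the orbital sizes is odd, and degrees prime to `p` are
pairwise distinct (arithmetic hypothesis `hne`). -/
theorem IM_of_frame {p : ℕ} [hp : Fact p.Prime] (h : Sub G X a b k)
    (hv : Odd ((∏ i, (Nat.card X * k i)).factorization p))
    (hne : ∀ f : Fin r → ℕ, (∀ i, f i ∣ Nat.card G) → (∀ i, ¬ p ∣ f i) → (∃ i, f i = 1) →
      ∑ i, f i = Nat.card X → (∏ i, f i) ∣ ∏ i, (Nat.card X * k i) → Function.Injective f) :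
    IM p G := by
  classical
  obtain ⟨χ, f, D, h1, h2, h3, h4, h5, h6, h7⟩ := exists_degrees h
  by_contra hcon
  have hf : ∀ i, ¬ p ∣ f i := by
    intro i hi
    exact hcon (IM.of_apply_one (χ i).2 (h2 i) hi)
  have h8 := hne f h3 hf (by obtain ⟨i, -, hi⟩ := h4; exact ⟨i, hi⟩) h5 (Dvd.intro _ h6)
  obtain ⟨c, hc⟩ := h7 h8
  have hf0 : ∏ i, f i ≠ 0 := by
    rw [Finset.prod_ne_zero_iff]
    intro i _ h0
    exact hf i (h0 ▸ dvd_zero p)
  have hN0 : ∏ i, (Nat.card X * k i) ≠ 0 := by
    intro h0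
    rw [h0] at hv
    simp at hv
  have hD0 : D ≠ 0 := by
    rintro rfl
    rw [mul_zero] at h6
    exact hN0 h6.symm
  have hc0 : c ≠ 0 := by
    rintro rfl
    rw [mul_zero] at hc
    exact hD0 hc
  rw [← h6, Nat.factorization_mul hf0 hD0, hc, Nat.factorization_mul hc0 hc0] at hv
  have h9 : (∏ i, f i).factorization p = 0 := by
    apply Nat.factorization_eq_zero_of_not_dvd
    intro hd
    obtain ⟨i, -, hi⟩ := (hp.out.prime.dvd_finsetProd_iff _).1 hd
    exact hf i hi
  rw [Finsupp.add_apply, Finsupp.add_apply, h9, zero_add] at hv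
  exact (Nat.not_even_iff_odd.2 hv) ⟨_, rfl⟩

/-- The action on the cosets of `H`, with the orbits of `H`. -/
theorem Sub.of_quotient (H : Subgroup G) (q : Fin r → G ⧸ H)
    (hk : ∀ i, (MulAction.orbit H (q i)).ncard = k i) (hinj : Function.Injective k)
    (hsum : ∑ i, k i = H.index) :
    Sub G (G ⧸ H) (QuotientGroup.mk 1 : G ⧸ H) q k := by
  refine ⟨inferInstance, fun i => ?_, hinj, hsum⟩
  rw [← hk i]
  congr 1
  ext z
  constructor
  · rintro ⟨⟨s, hs⟩, hsz⟩
    have hs' : s ∈ H := by
      rw [MulAction.mem_stabilizer_iff] at hs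
      have h1 : (QuotientGroup.mk (s * 1) : G ⧸ H) = QuotientGroup.mk 1 := hs
      rw [QuotientGroup.eq] at h1
      simpa using h1
    exact ⟨⟨s, hs'⟩, hsz⟩
  · rintro ⟨⟨s, hs⟩, hsz⟩
    have hs' : s ∈ MulAction.stabilizer G (QuotientGroup.mk 1 : G ⧸ H) := by
      rw [MulAction.mem_stabilizer_iff]
      show (QuotientGroup.mk (s * 1) : G ⧸ H) = QuotientGroup.mk 1
      rw [QuotientGroup.eq]
      simpa using hs
    exact ⟨⟨s, hs'⟩, hsz⟩

end criteria

end Cfsg.Agent.H593.IMFrame
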