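import Mathlib

/-!
# Rank of a matrix: field extensions and a factorization criterion
-/

set_option autoImplicit false

namespace Cfsg.Agent.H593.RobinsonRank

open Matrix

theorem rank_blocks {F : Type*} [Field F] (r s : ℕ) :
    (fromBlocks (1 : Matrix (Fin r) (Fin r) F) 0 0 (0 : Matrix (Fin s) (Fin s) F)).rank = r := by
  classical
  have h : fromBlocks (1 : Matrix (Fin r) (Fin r) F) 0 0 (0 : Matrix (Fin s) (Fin s) F) =
      diagonal (Sum.elim (fun _ => (1 : F)) (fun _ => (0 : F))) := by
    ext i j
    rcases i with i | i <;> rcases j with j | j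
    · rw [fromBlocks_apply₁₁, Matrix.one_apply, Matrix.diagonal_apply]
      simp
    · simp [Matrix.diagonal_apply]
    · simp [Matrix.diagonal_apply]
    · rw [fromBlocks_apply₂₂, Matrix.diagonal_apply]
      simp
  rw [h, rank_diagonal]
  have e : {i : Fin r ⊕ Fin s // (Sum.elim (fun _ => (1 : F)) (fun _ => (0 : F)) i) ≠ 0} ≃ Fin r :=
    { toFun := fun i => match i with
        | ⟨Sum.inl j, _⟩ => j
        | ⟨Sum.inr j, h⟩ => absurd rfl h
      invFun := fun j => ⟨Sum.inl j, by simp⟩
      left_inv := by
        rintro ⟨i | i, hi⟩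
        · rfl
        · exact absurd rfl hi
      right_inv := fun j => rfl }
  rw [Fintype.card_congr e, Fintype.card_fin]

/-- The rank of a matrix does not change under a field extension. -/
theorem rank_map {ι : Type*} [Fintype ι] {K F : Type*} [Field K] [Field F]
    (f : K →+* F) (A : Matrix ι ι K) : (A.map f).rank = A.rank := by
  classical
  obtain ⟨V, U, e, hV, hU, h⟩ := exists_rank_normal_form A
  have h1 : (V.map f) * (A.map f) * (U.map f) =
      (fromBlocks (1 : Matrix (Fin A.rank) (Fin A.rank) F) 0 0
        (0 : Matrix (Fin (Fintype.card ι - A.rank)) (Fin (Fintype.card ι - A.rank)) F)).submatrix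
        e e := by
    rw [← Matrix.map_mul, ← Matrix.map_mul, h]
    ext i j
    rw [Matrix.map_apply, Matrix.submatrix_apply, Matrix.submatrix_apply]
    rcases e i with a | a <;> rcases e j with b | b
    · rw [fromBlocks_apply₁₁, fromBlocks_apply₁₁, Matrix.one_apply, Matrix.one_apply]
      split_ifs <;> simp
    · simp
    · simp
    · simp
  have hV' : IsUnit (V.map f) := hV.map f.mapMatrix
  have hU' : IsUnit (U.map f) := hU.map f.mapMatrix
  have h2 : ((V.map f) * (A.map f) * (U.map f)).rank = (A.map f).rank := by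
    rw [rank_mul_eq_left_of_isUnit_det _ _ ((Matrix.isUnit_iff_isUnit_det _).1 hU'),
      rank_mul_eq_right_of_isUnit_det _ _ ((Matrix.isUnit_iff_isUnit_det _).1 hV')]
  rw [← h2, h1, rank_submatrix, rank_blocks]

/-- A factorization `W = V'ᵀ · diag κ · V` with `V`, `V'` right invertible and `κ` nowhere zero. -/
theorem rank_of_factor {ι β : Type*} [Fintype ι] [Fintype β] [DecidableEq β] {F : Type*} [Field F]
    (V V' : Matrix β ι F) (E E' : Matrix ι β F) (κ : β → F) (hκ : ∀ b, κ b ≠ 0)
    (hE : V * E = 1) (hE' : V' * E' = 1) (W : Matrix ι ι F)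
    (hW : W = V'ᵀ * diagonal κ * V) : W.rank = Fintype.card β := by
  classical
  apply le_antisymm
  · rw [hW]
    exact (rank_mul_le_right _ _).trans (rank_le_card_height _)
  · have h1 : E'ᵀ * W * E = diagonal κ := by
      rw [hW]
      calc E'ᵀ * (V'ᵀ * diagonal κ * V) * E = (E'ᵀ * V'ᵀ) * diagonal κ * (V * E) := by
            simp only [Matrix.mul_assoc]
        _ = diagonal κ := by
            rw [hE, ← Matrix.transpose_mul, hE', Matrix.transpose_one, Matrix.one_mul,
              Matrix.mul_one]
    have h2 : (diagonal κ).rank = Fintype.card β := by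
      refine rank_of_isUnit _ ?_
      rw [Matrix.isUnit_iff_isUnit_det, Matrix.det_diagonal, isUnit_iff_ne_zero]
      exact Finset.prod_ne_zero_iff.2 fun b _ => hκ b
    rw [← h2, ← h1]
    exact (rank_mul_le_left _ _).trans (rank_mul_le_right _ _)

end Cfsg.Agent.H593.RobinsonRank
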