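import Cfsg.Agent.H843.N17
import Cfsg.Agent.H713.Spor.FiTF

/-!
# An element of order 17 of `Fi24'` (helper593)

It is self-centralizing and conjugate to all its nontrivial powers.
-/

set_option autoImplicit false

namespace Cfsg.Agent.H593.IMMonF

open Subgroup Cfsg
open Cfsg.Agent.R08.FiTwentyFour (L finite_Fi24 index_commutator)
open Cfsg.Spor (Fi24)

theorem pow_conj_pow {G : Type*} [Group G] {x g : G} {k : ℕ} (h : g * x * g⁻¹ = x ^ k) (n : ℕ) :
    g ^ n * x * (g ^ n)⁻¹ = x ^ (k ^ n) := by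
  induction n with
  | zero => simp
  | succ n ih =>
    calc g ^ (n + 1) * x * (g ^ (n + 1))⁻¹ = g * (g ^ n * x * (g ^ n)⁻¹) * g⁻¹ := by
          rw [pow_succ']; group
      _ = (g * x * g⁻¹) ^ (k ^ n) := by rw [ih, conj_pow]
      _ = x ^ (k ^ (n + 1)) := by rw [h, ← pow_mul, pow_succ']

theorem dlog : ∀ r < 17, r ≠ 0 → ∃ n < 16, 3 ^ n % 17 = r := by decide

theorem seventeen : ∃ X : Spor.Fi24', orderOf X = 17 ∧ Nat.card (centralizer ({X} : Set Spor.Fi24')) ∣ 17 ∧
    ∀ k : ℕ, ¬ 17 ∣ k → ∃ b : Spor.Fi24', b * X * b⁻¹ = X ^ k := by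
  have hfin : Finite Fi24 := finite_Fi24
  set X : Fi24 := Cfsg.Agent.H843.D17.D.x with hX
  set l : Fi24 := Cfsg.Agent.Fischer.Fi24Rep.gen .l with hl
  set w : Fi24 := Cfsg.Agent.Fischer.Fi24Rep.word Cfsg.Agent.H843.D17.w3 with hw
  have ho : orderOf X = 17 := Cfsg.Agent.H843.D17.order
  have hXw : w * X * w⁻¹ = X ^ 3 := Cfsg.Agent.H843.Fi24N.conj_of Cfsg.Agent.H843.D17.h3
  have hC : Nat.card (centralizer (zpowers X : Set Fi24)) = 34 := Cfsg.Agent.H843.D17.main.2
  have hXK : X ∈ commutator Fi24 := Cfsg.Agent.H843.Fi24N.mem_commutator (by rw [ho]; decide)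
  have hlL : l ∈ L ∩ (centralizer (zpowers X : Set Fi24) : Set Fi24) := by
    rw [Cfsg.Agent.H843.D17.inter]; rfl
  have hlK : l ∉ commutator Fi24 := Cfsg.Agent.R08.FiTwentyFour.odd hlL.1
  have hlX : l * X = X * l := (mem_centralizer_iff.1 hlL.2 X (mem_zpowers X)).symm
  refine ⟨⟨X, hXK⟩, by rw [Subgroup.orderOf_mk, ho], ?_, ?_⟩
  · -- the centralizer in the commutator subgroup
    let f : ↥(centralizer ({(⟨X, hXK⟩ : Spor.Fi24')} : Set Spor.Fi24')) →*
        ↥(centralizer (zpowers X : Set Fi24)) :=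
      ((commutator Fi24).subtype.comp (centralizer ({(⟨X, hXK⟩ : Spor.Fi24')} : Set Spor.Fi24')).subtype).codRestrict _ (by
        intro y
        rw [mem_centralizer_iff]
        rintro _ ⟨k, rfl⟩
        have h1 := mem_centralizer_singleton_iff.1 y.2
        have h2 : ((y : Spor.Fi24') : Fi24) * X = X * ((y : Spor.Fi24') : Fi24) := congrArg Subtype.val h1
        exact ((show Commute X ((y : Spor.Fi24') : Fi24) from h2.symm).zpow_left k).eq)
    have hf : Function.Injective f := by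
      intro y z h
      have h1 := (Subtype.mk.injEq _ _ _ _).mp h
      exact Subtype.ext (Subtype.ext h1)
    have h1 := Subgroup.card_dvd_of_injective f hf
    rw [hC] at h1
    have h17 : 17 ∣ Nat.card ↥(centralizer ({(⟨X, hXK⟩ : Spor.Fi24')} : Set Spor.Fi24')) := by
      have h3 : (⟨X, hXK⟩ : Spor.Fi24') ∈ centralizer ({(⟨X, hXK⟩ : Spor.Fi24')} : Set Spor.Fi24') := by
        rw [mem_centralizer_singleton_iff]
      have h4 : orderOf (⟨_, h3⟩ : ↥(centralizer ({(⟨X, hXK⟩ : Spor.Fi24')} : Set Spor.Fi24'))) ∣ _ :=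
        orderOf_dvd_natCard _
      rwa [Subgroup.orderOf_mk, Subgroup.orderOf_mk, ho] at h4
    have hne : Nat.card ↥(centralizer ({(⟨X, hXK⟩ : Spor.Fi24')} : Set Spor.Fi24')) ≠ 34 := by
      intro h34
      have hfin2 : Finite ↥(centralizer (zpowers X : Set Fi24)) := inferInstance
      have hfin3 : Finite ↥(centralizer ({(⟨X, hXK⟩ : Spor.Fi24')} : Set Spor.Fi24')) :=
        Nat.finite_of_card_ne_zero (by rw [h34]; norm_num)
      have hb := (Nat.bijective_iff_injective_and_card f).2 ⟨hf, by rw [h34, hC]⟩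
      obtain ⟨y, hy⟩ := hb.2 ⟨l, hlL.2⟩
      apply hlK
      have h5 : ((y : Spor.Fi24') : Fi24) = l := congrArg Subtype.val hy
      rw [← h5]
      exact (y : Spor.Fi24').2
    obtain ⟨m, hm⟩ := h17
    rw [hm] at h1 hne ⊢
    have h2 : m ∣ 2 := by
      have : 17 * m ∣ 17 * 2 := h1
      exact Nat.dvd_of_mul_dvd_mul_left (by norm_num) this
    rcases (Nat.dvd_prime Nat.prime_two).1 h2 with rfl | rfl
    · norm_num
    · exact absurd rfl hne
  · intro k hk
    obtain ⟨n, -, hn⟩ := dlog (k % 17) (Nat.mod_lt _ (by norm_num)) (fun h => hk (Nat.dvd_of_mod_eq_zero h))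
    have h1 : X ^ k = X ^ (3 ^ n) := by
      rw [pow_eq_pow_iff_modEq, ho]
      exact hn.symm
    have h2 := pow_conj_pow hXw n
    by_cases hc : w ^ n ∈ commutator Fi24
    · refine ⟨⟨w ^ n, hc⟩, Subtype.ext ?_⟩
      show w ^ n * X * (w ^ n)⁻¹ = X ^ k
      rw [h2, h1]
    · refine ⟨⟨w ^ n * l, (Subgroup.mul_mem_iff_of_index_two index_commutator).2 ?_⟩, Subtype.ext ?_⟩
      · exact ⟨fun h => absurd h hc, fun h => absurd h hlK⟩
      · show (w ^ n * l) * X * (w ^ n * l)⁻¹ = X ^ k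
        rw [h1, ← h2]
        calc (w ^ n * l) * X * (w ^ n * l)⁻¹ = w ^ n * (l * X) * l⁻¹ * (w ^ n)⁻¹ := by group
          _ = w ^ n * X * (w ^ n)⁻¹ := by rw [hlX]; group

end Cfsg.Agent.H593.IMMonF
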