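import Cfsg.Agent.H593.IMMonA
import Cfsg.Agent.H593.IMMonF
import Cfsg.Agent.MSevenT.Closed
import Cfsg.Agent.H964.NoHall.RowTh
import Cfsg.Agent.BpSpor.MBigEleven
import Cfsg.Agent.LThreeMB.CoOneFin
import Cfsg.Agent.H573.Spor.MThree

/-!
# Itô-Michler for the Monster, all primes but 2, 11 and 23 (helper593)

* `g51` : `x h`, `x` of order 3 with `C(x) / ⟨x⟩ ≅ Fi24'`, `h` of order 17 : `|C(x h)| = 51`, real;
* `g57` : `x h`, `x` of order 3 with `C(x) / ⟨x⟩ ≅ Th`, `h` of order 19 : `C(x h)` of odd order prime to 17, real.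
-/

set_option autoImplicit false
set_option maxRecDepth 100000

namespace Cfsg.Agent.H593.IMMonB

open Cfsg Cfsg.Agent.H33 Cfsg.Agent.H593.IMMonA
open Cfsg.Agent.MonsterX Cfsg.Agent.MonsterX.InstData Cfsg.Agent.MonsterX.MainPack Cfsg.Agent.MonsterU
open Cfsg.Agent.MonsterP Cfsg.Agent.MonsterN
open Cfsg.Agent.LThreeMB (XX Zx mk exists_mk mk_eq_mk mk_mul fr fr_conj ClassOf CoOne iso_th iso_fi24 isoTh_congr
  isoFi24_congr exists_conj_of_conj)
open Cfsg.Agent.MonsterX.MainBasic Cfsg.Agent.MonsterX.MainSimple Cfsg.Agent.MonsterX.Model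
open Cfsg.Agent.MonsterU.Ch
open Cfsg.Agent.BpSpor.MBigModel
open Cfsg.Spor (Co1)
open Subgroup (centralizer zpowers mem_centralizer_singleton_iff)

/-- the involution `t` -/
noncomputable abbrev tt : MG := tG LitFin.all.hG LitFin.all.hR

theorem six (k : MG) : orderOf (tt * (k * tt * k⁻¹)) ≤ 6 :=
  MonsterX.MainPack.six LitFin.all.hG LitFin.all.hR LitFin.all.hL LitFin.all.hO LitFin.all.hT
    MonsterX.InstanceFinal.mExtra.order_le k

theorem cl (u : MG) (hu : u * u = 1) (hu1 : u ≠ 1) : (∃ h, h * zz * h⁻¹ = u) ∨ ∃ h, h * tt * h⁻¹ = u := by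
  have : Fact (Nat.Prime 2) := ⟨Nat.prime_two⟩
  rcases cls (orderOf_eq_prime (by rw [pow_two, hu]) hu1) with h | h
  · exact Or.inl h
  · obtain ⟨c, hc⟩ := isConj_iff.1 (show IsConj tt u from h)
    exact Or.inr ⟨c, hc⟩

section chart

universe u

variable {G : Type u} [Group G] {Q : Subgroup G} {z : G} {eta : G → Lam2.L2}
  {pi : Subgroup.centralizer ({z} : Set G) →* Co1}

/-- an element of order 3 over an element of the class of fixed rank `n` of `Co1` is real -/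
theorem exists_real (h : Chart Q z eta pi) {s : Co1} (hs : orderOf s = 3) {n : ℕ} (hcl : ClassOf n) (hfs : fr s = n) :
    ∃ (x : Subgroup.centralizer ({z} : Set G)) (m : G), orderOf x = 3 ∧ pi x = s ∧ orderOf (x : G) = 3 ∧
      m * (x : G) * m⁻¹ = (x : G)⁻¹ := by
  obtain ⟨x, hx, rfl⟩ := Cfsg.Agent.LThreeMB.KPair.exists_order_three h hs
  have hx3 : x ^ 3 = 1 := by rw [← hx, pow_orderOf_eq_one]
  obtain ⟨k, hk⟩ := hcl (pi x) (pi x⁻¹) hs (by rw [map_inv, orderOf_inv, hs]) hfs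
    (by rw [map_inv, Cfsg.Agent.MSevenT.fr_inv, hfs])
  obtain ⟨m, hm⟩ := exists_conj_of_conj h hx3 (by rw [inv_pow, hx3, inv_one] : (x⁻¹) ^ 3 = 1) hk
  exact ⟨x, m, hx, rfl, by rw [Subgroup.orderOf_coe, hx], congrArg Subtype.val hm⟩

end chart

/-- `x` of order 3 with `C(x) / ⟨x⟩ ≅ Fi24'` -/
theorem exists_fi24 : ∃ x n : MG, orderOf x = 3 ∧ n * x * n⁻¹ = x⁻¹ ∧ Spor.IsoFi24' (XX x) := by
  have := finite
  have := simple
  have I := Cfsg.Agent.LThreeMB.CoOneFin.coOne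
  obtain ⟨s, hs, hfs, ht, h4⟩ := I.psu
  obtain ⟨x, n, hx, rfl, hxo, hn⟩ := exists_real chart hs I.twelve hfs
  exact ⟨x, n, hxo, hn, iso_fi24 chart hx hfs (by rw [hfs]; exact I.twelve) ht h4⟩

/-- `x` of order 3 with `C(x) / ⟨x⟩ ≅ Th` -/
theorem exists_th : ∃ x n : MG, orderOf x = 3 ∧ n * x * n⁻¹ = x⁻¹ ∧ Spor.IsoTh (XX x) := by
  have := finite
  have := simple
  have I := Cfsg.Agent.LThreeMB.CoOneFin.coOne
  obtain ⟨s, hs, hfs, ⟨e⟩, hg, hf⟩ := I.nine
  obtain ⟨x, n, hx, rfl, hxo, hn⟩ := exists_real chart hs I.eight hfs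
  exact ⟨x, n, hxo, hn, iso_th chart hx hfs (by rw [hfs]; exact I.eight) hf e hg⟩

theorem card_cent_equiv {A B : Type*} [Group A] [Group B] (e : A ≃* B) (y : A) :
    Nat.card (centralizer ({y} : Set A)) = Nat.card (centralizer ({e y} : Set B)) := by
  refine Nat.card_congr
    { toFun := fun c => ⟨e c, mem_centralizer_singleton_iff.2 ?_⟩
      invFun := fun c => ⟨e.symm c, mem_centralizer_singleton_iff.2 ?_⟩
      left_inv := fun c => Subtype.ext (e.symm_apply_apply _)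
      right_inv := fun c => Subtype.ext (e.apply_symm_apply _) }
  · rw [← map_mul, ← map_mul, mem_centralizer_singleton_iff.1 c.2]
  · apply e.injective
    rw [map_mul, map_mul, e.apply_symm_apply, mem_centralizer_singleton_iff.1 c.2]

/-- the order of `C(x)` -/
theorem card_cent_x {x : MG} {n : ℕ} (hn : Nat.card (XX x) = n) :
    Nat.card (centralizer ({x} : Set MG)) = n * orderOf x := by
  have h1 := Subgroup.card_eq_card_quotient_mul_card_subgroup (Zx x)
  have h2 : Nat.card (Zx x) = orderOf x := by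
    rw [Zx, Nat.card_zpowers, LThreeMB.self, Subgroup.orderOf_mk]
  rw [h2, hn] at h1
  exact h1

/-- the common construction -/
theorem exists_g {x n : MG} {r c N : ℕ} (hr : r.Prime) (hr3 : r ≠ 3) (hx : orderOf x = 3)
    (hn : n * x * n⁻¹ = x⁻¹) (hN : Nat.card (XX x) = N) (hrN : ¬ r ^ 2 ∣ N * 3) {y : XX x} (hy : orderOf y = r)
    (hc : Nat.card (centralizer ({y} : Set (XX x))) ∣ c)
    (hfull : ∀ k : ℕ, ¬ r ∣ k → ∃ b : XX x, b * y * b⁻¹ = y ^ k) :
    ∃ g w : MG, w * g * w⁻¹ = g⁻¹ ∧ orderOf g = 3 * r ∧ Nat.card (centralizer ({g} : Set MG)) ∣ 3 * c := by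
  have := finite
  have hco : Nat.Coprime r (orderOf x) := by
    rw [hx]
    exact (Nat.coprime_primes hr Nat.prime_three).2 hr3
  obtain ⟨h, hhx, rfl, hh⟩ := exists_lift hco hy hr
  obtain ⟨w, hw⟩ := exists_inverts hr hh hhx hn (by rw [card_cent_x hN, hx]; exact hrN)
    (fun k hk => full_lift hco hh hhx (hfull k hk))
  have hco' : Nat.Coprime (orderOf h) (orderOf x) := by rw [hh]; exact hco
  refine ⟨x * h, w, hw, ?_, ?_⟩
  · rw [(show Commute x h from hhx.symm).orderOf_mul_eq_mul_orderOf_of_coprime hco'.symm, hx, hh]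
  · have h1 := card_cent_dvd hhx hco'
    rw [hx] at h1
    exact h1.trans (Nat.mul_dvd_mul_left 3 hc)

theorem g51 : ∃ g w : MG, w * g * w⁻¹ = g⁻¹ ∧ orderOf g = 3 * 17 ∧ Nat.card (centralizer ({g} : Set MG)) ∣ 3 * 17 := by
  obtain ⟨x, n, hx, hn, ⟨e⟩⟩ := exists_fi24
  obtain ⟨X, hX, hC, hfull⟩ := Cfsg.Agent.H593.IMMonF.seventeen
  refine exists_g (r := 17) (c := 17) (y := e.symm X) (by norm_num) (by norm_num) hx hn
    (Cfsg.Agent.H573.Spor.Monster.card_Fi24 ⟨e⟩) (by norm_num) (by rw [MulEquiv.orderOf_eq, hX]) ?_ ?_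
  · rw [← card_cent_equiv]
    exact hC
  · intro k hk
    obtain ⟨b, hb⟩ := hfull k hk
    exact ⟨e.symm b, by rw [← map_mul, ← map_inv, ← map_mul, hb, map_pow]⟩

theorem im_51 {p : ℕ} [hp : Fact p.Prime] {k : ℕ} (hk : p ^ k ∣ 808017424794512875886459904961710757005754368000000000)
    (h : ¬ p ^ k ∣ 3 * 17 * (2 ^ 25 * 4157776806543360000) ^ 2) : IM p MG := by
  have := finite
  obtain ⟨g, w, hw, hg, hc⟩ := g51
  refine IM_of_pair six cl hw (by rw [hg]; norm_num) hc (by decide) (k := k) (by rw [card_M]; exact hk) ?_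
  rw [card_cent_z]
  exact h

end Cfsg.Agent.H593.IMMonB
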