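import Cfsg.Agent.H593.IMMonC

/-!
# The Itô-Michler row of the Monster, all primes but 11 and 23 (helper593)
-/

set_option autoImplicit false

namespace Cfsg.Agent.H593.IMMon

open Cfsg Cfsg.Agent.H33
open Cfsg.Agent.BpSpor.MBigModel

universe u

theorem equivMG : Nonempty (Spor.Monster ≃* MG) := Cfsg.Agent.MonsterP.Equiv.equiv

theorem im_m_of {S : Type u} [Group S] (h : Spor.IsoM S) {p : ℕ} [hp : Fact p.Prime] (hd : p ∣ Nat.card S)
    (h11 : p ≠ 11) (h23 : p ≠ 23) : IM p S := by
  obtain ⟨e⟩ := h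
  obtain ⟨e'⟩ := equivMG
  have h1 : Nat.card S = 808017424794512875886459904961710757005754368000000000 := by
    rw [Nat.card_congr (e.trans e').toEquiv]
    exact card_M
  rw [h1] at hd
  exact IM.of_equiv (e.trans e') (IMMonC.im_MG hd h11 h23)

end Cfsg.Agent.H593.IMMon
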