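import Mathlib
import Cfsg.Prelude.Def_Blocks
import Cfsg.Agent.H593.D1Block
import Cfsg.Agent.Characters.Linear

/-!
# Multiplicities, degrees and the fusion group
-/

set_option autoImplicit false
set_option linter.unusedSectionVars false
set_option linter.unusedVariables false

namespace Cfsg.Agent.H593.D1Block2

open Cfsg ZMod
open scoped ComplexConjugate
open Cfsg.Agent.Blocks.Local
open Cfsg.Agent.Blocks.Basic
open Cfsg.Agent.Blocks.CyclicGroup
open Cfsg.Agent.H593.D1Local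
open Cfsg.Agent.H593.D1Char
open Cfsg.Agent.H593.D1Sec
open Cfsg.Agent.H593.D1Gram
open Cfsg.Agent.H593.D1Block
open Cfsg.Agent.Characters.Core (isIrr_isCharacter isCharacter_apply_inv isIrr_comp
  isCharacter_comp classInner_irr_self classInner_irr_ne isIrr_iff_classInner_self
  isIrr_isClassFunction finite_irr classFunction_eq_sum isCharacter_mul classInner_isNat)

variable {G : Type*} [Group G] [Fintype G] {p : ℕ} [hp : Fact p.Prime] {P K : Subgroup G}
  (h : Loc p P K)

section gen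

variable {z : G} (hz : orderOf z = p) (hzP : z ∈ P)

theorem phi_apply (a : Multiplicative (ZMod p) × LL P K) :
    phi h hz hzP a = u z (Multiplicative.toAdd a.1) * ((a.2 : K) : G) := rfl

include h hz hzP

/-- Multiplicities. -/
theorem exists_mul [Fintype (LL P K)] (θ : IrrCharacter (LL P K)) (χ : IrrCharacter G)
    (i : ZMod p) : ∃ n : ℕ, (p : ℂ)⁻¹ * ∑ m : ZMod p, DD (θ : LL P K → ℂ) (χ : G → ℂ) (u z m) *
      (stdAddChar (-(i * m)) : ℂ) = n := by
  have h1 : IsCharacter (Multiplicative (ZMod p) × LL P K) ((χ : G → ℂ) ∘ phi h hz hzP) :=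
    isCharacter_comp (phi h hz hzP) (isIrr_isCharacter χ.2)
  have h2 : IsCharacter (Multiplicative (ZMod p)) (fun g =>
      (((AddChar.mulShift (stdAddChar (N := p)) i).toMonoidHom.toHomUnits g : ℂˣ) : ℂ)) :=
    Cfsg.Agent.Characters.Linear.isCharacter_hom _
  have h3 := isCharacter_comp (MonoidHom.fst (Multiplicative (ZMod p)) (LL P K)) h2
  have h4 := isCharacter_comp (MonoidHom.snd (Multiplicative (ZMod p)) (LL P K))
    (isIrr_isCharacter θ.2)
  obtain ⟨n, hn⟩ := classInner_isNat h1 (isCharacter_mul h3 h4)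
  refine ⟨n, ?_⟩
  rw [← hn, Cfsg.Agent.Characters.Core.classInner_def]
  have hc : (Nat.card (Multiplicative (ZMod p) × LL P K) : ℂ) = p * Nat.card (LL P K) := by
    rw [Nat.card_prod, Nat.card_congr (Multiplicative.toAdd (α := ZMod p)), Nat.card_zmod]
    push_cast
    rfl
  rw [hc, Fintype.sum_prod_type, mul_inv, mul_assoc]
  congr 1
  rw [← Equiv.sum_comp (Multiplicative.toAdd (α := ZMod p)), Finset.mul_sum]
  refine Finset.sum_congr rfl fun a _ => ?_
  rw [DD_def, mul_assoc, Finset.sum_mul]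
  congr 1
  refine Finset.sum_congr rfl fun l _ => ?_
  show _ = (χ : G → ℂ) (u z (Multiplicative.toAdd a) * ((l : K) : G)) *
    conj ((stdAddChar (i * Multiplicative.toAdd a) : ℂ) * (θ : LL P K → ℂ) l)
  rw [map_mul, Cfsg.Agent.Blocks.CyclicGram.conj_std]
  ring

/-- The action of `K` on `P` in terms of the generator. -/
theorem exists_hom : ∃ ψ : K →* (ZMod p)ˣ, ∀ (k : K) (m : ZMod p),
    (k : G) * u z m * (k : G)⁻¹ = u z ((ψ k : ZMod p) * m) := by
  choose c hc using exists_conj_u h hz hzP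
  have hone : ∀ {a b : (ZMod p)ˣ}, u z ((a : ZMod p) * 1) = u z ((b : ZMod p) * 1) → a = b := by
    intro a b hab
    have := u_injective hz hab
    rw [mul_one, mul_one] at this
    exact Units.ext this
  have h1 : c 1 = 1 := by
    apply hone
    rw [← hc]
    simp
  have h2 : ∀ a b : K, c (a * b) = c a * c b := by
    intro a b
    apply hone
    rw [← hc, Units.val_mul, mul_assoc ((c a : (ZMod p)ˣ) : ZMod p), ← hc a, ← hc b]
    push_cast
    group
  exact ⟨⟨⟨c, h1⟩, h2⟩, hc⟩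

theorem mem_ker {ψ : K →* (ZMod p)ˣ} (hψ : ∀ (k : K) (m : ZMod p),
    (k : G) * u z m * (k : G)⁻¹ = u z ((ψ k : ZMod p) * m)) (k : K) :
    ψ k = 1 ↔ k ∈ LL P K := by
  have hz1 : z ≠ 1 := by
    rintro rfl
    rw [orderOf_one] at hz
    exact hp.out.one_lt.ne hz
  rw [mem_LL, centralizer_eq h hzP hz1, Subgroup.mem_centralizer_iff]
  have h1 := hψ k 1
  rw [u_one hz, mul_one] at h1
  constructor
  · intro hk y hy
    rw [Set.mem_singleton_iff.1 hy]
    rw [hk, Units.val_one, u_one hz] at h1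
    rw [← mul_inv_eq_iff_eq_mul.1 h1]
  · intro hk
    have h2 := hk z rfl
    have h3 : (k : G) * z * (k : G)⁻¹ = z := by rw [← h2]; group
    rw [h3] at h1
    have h4 : u z (1 : ZMod p) = u z ((ψ k : (ZMod p)ˣ) : ZMod p) := by rw [u_one hz]; exact h1
    exact Units.ext (u_injective hz h4).symm

theorem rel_iff {ψ : K →* (ZMod p)ˣ} (hψ : ∀ (k : K) (m : ZMod p),
    (k : G) * u z m * (k : G)⁻¹ = u z ((ψ k : ZMod p) * m)) (S : Subgroup K) (m n : ZMod p) :
    (∃ k : K, k ∈ S ∧ (k : G) * u z m * (k : G)⁻¹ = u z n) ↔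
      ∃ c ∈ S.map ψ, n = (c : ZMod p) * m := by
  constructor
  · rintro ⟨k, hk, h1⟩
    rw [hψ] at h1
    exact ⟨ψ k, ⟨k, hk, rfl⟩, (u_injective hz h1).symm⟩
  · rintro ⟨_, ⟨k, hk, rfl⟩, rfl⟩
    exact ⟨k, hk, hψ k m⟩

theorem ker_eq {ψ : K →* (ZMod p)ˣ} (hψ : ∀ (k : K) (m : ZMod p),
    (k : G) * u z m * (k : G)⁻¹ = u z ((ψ k : ZMod p) * m)) (S : Subgroup K) :
    (ψ.comp S.subtype).ker = (LL P K).subgroupOf S := by
  ext s
  rw [MonoidHom.mem_ker, Subgroup.mem_subgroupOf]
  exact mem_ker h hz hzP hψ (s : K)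

theorem card_map {ψ : K →* (ZMod p)ˣ} (hψ : ∀ (k : K) (m : ZMod p),
    (k : G) * u z m * (k : G)⁻¹ = u z ((ψ k : ZMod p) * m)) (S : Subgroup K) :
    Nat.card (S.map ψ) = (LL P K).relIndex S := by
  have h1 : S.map ψ = (ψ.comp S.subtype).range := by
    rw [MonoidHom.range_comp, Subgroup.range_subtype]
  rw [h1, ← Subgroup.index_ker, ker_eq h hz hzP hψ]
  rfl

theorem isCyclic_quotient (S : Subgroup K) [((LL P K).subgroupOf S).Normal] :
    IsCyclic (S ⧸ (LL P K).subgroupOf S) := by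
  obtain ⟨ψ, hψ⟩ := exists_hom h hz hzP
  have h1 : IsCyclic (S ⧸ (ψ.comp S.subtype).ker) :=
    isCyclic_of_injective (QuotientGroup.kerLift (ψ.comp S.subtype))
      (QuotientGroup.kerLift_injective _)
  have e := QuotientGroup.quotientMulEquivOfEq (ker_eq h hz hzP hψ S)
  exact isCyclic_of_surjective e.toMonoidHom e.surjective

theorem commutator_mem (x y : K) : x * y * x⁻¹ * y⁻¹ ∈ LL P K := by
  obtain ⟨ψ, hψ⟩ := exists_hom h hz hzP
  rw [← mem_ker h hz hzP hψ]
  rw [map_mul, map_mul, map_mul, map_inv, map_inv, mul_comm (ψ x) (ψ y)]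
  group

end gen

end Cfsg.Agent.H593.D1Block2
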