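import Cfsg.Agent.H593.IMMonB
import Cfsg.Agent.H227.IMThA
import Cfsg.Agent.MonsterP.Equiv

/-!
# Itô-Michler for the Monster : all primes but 11 and 23 (helper593)

* `g57` : `x h`, `x` of order 3 with `C(x) / ⟨x⟩ ≅ Th`, `h` of order 19.
-/

set_option autoImplicit false
set_option maxRecDepth 100000

namespace Cfsg.Agent.H593.IMMonC

open Cfsg Cfsg.Agent.H33 Cfsg.Agent.H593.IMMonA Cfsg.Agent.H593.IMMonB
open Cfsg.Agent.LThreeMB (XX)
open Cfsg.Agent.BpSpor.MBigModel
open Cfsg.Agent.H964.NoHall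
open Subgroup (centralizer zpowers mem_centralizer_singleton_iff)

/-- the full automorphism group of `⟨y⟩` is induced on a group of order 19 of `Th` -/
theorem th_full (k : ℕ) (hk : ¬ 19 ∣ k) : ∃ b : Spor.Th, b * thE thW * b⁻¹ = thE thW ^ k := by
  have hH : thE thH * thE thW * (thE thH)⁻¹ = thE thW ^ 6 := by rw [thH_conj, mul_inv_cancel_right]
  have hA : thE (.g .a) * thE thW * (thE (.g .a))⁻¹ = thE thW ^ 18 := by rw [thA_conj, mul_inv_cancel_right]
  have hpow : ∀ n : ℕ, thE thH ^ n * thE thW * (thE thH ^ n)⁻¹ = thE thW ^ 6 ^ n := by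
    intro n
    induction n with
    | zero => simp
    | succ n ih =>
      have h2 : thE thH ^ (n + 1) * thE thW * (thE thH ^ (n + 1))⁻¹ =
          thE thH * (thE thH ^ n * thE thW * (thE thH ^ n)⁻¹) * (thE thH)⁻¹ := by
        rw [pow_succ']; group
      rw [h2, ih, ← conj_pow, hH, ← pow_mul, ← pow_succ']
  have hred : ∀ m n : ℕ, m % 19 = n % 19 → thE thW ^ m = thE thW ^ n := by
    intro m n h
    rw [← pow_mod_orderOf, ← pow_mod_orderOf (thE thW) n, thW_order, h]
  have hex : ∃ a n : ℕ, 18 ^ a * 6 ^ n % 19 = k % 19 := by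
    have h1 : k % 19 ≠ 0 := fun h => hk (Nat.dvd_of_mod_eq_zero h)
    have h2 : k % 19 < 19 := Nat.mod_lt _ (by norm_num)
    have h3 : ∀ j : Fin 19, j.1 ≠ 0 → ∃ a : Fin 2, ∃ n : Fin 9, 18 ^ a.1 * 6 ^ n.1 % 19 = j.1 := by
      decide +kernel
    obtain ⟨a, n, h⟩ := h3 ⟨k % 19, h2⟩ h1
    exact ⟨a, n, h⟩
  obtain ⟨a, n, han⟩ := hex
  have hA' : ∀ m : ℕ, thE (.g .a) ^ m * thE thW * (thE (.g .a) ^ m)⁻¹ = thE thW ^ 18 ^ m := by
    intro n
    induction n with
    | zero => simp
    | succ n ih =>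
      have h2 : thE (.g .a) ^ (n + 1) * thE thW * (thE (.g .a) ^ (n + 1))⁻¹ =
          thE (.g .a) * (thE (.g .a) ^ n * thE thW * (thE (.g .a) ^ n)⁻¹) * (thE (.g .a))⁻¹ := by
        rw [pow_succ']; group
      rw [h2, ih, ← conj_pow, hA, ← pow_mul, ← pow_succ']
  refine ⟨thE (.g .a) ^ a * thE thH ^ n, ?_⟩
  have h4 : thE (.g .a) ^ a * thE thH ^ n * thE thW * (thE (.g .a) ^ a * thE thH ^ n)⁻¹ =
      thE (.g .a) ^ a * (thE thH ^ n * thE thW * (thE thH ^ n)⁻¹) * (thE (.g .a) ^ a)⁻¹ := by group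
  rw [h4, hpow, ← conj_pow, hA', ← pow_mul]
  exact hred _ _ han

theorem th_cent : Nat.card (centralizer ({thE thW} : Set Spor.Th)) ∣ 3 ^ 10 * 5 ^ 3 * 7 ^ 2 * 13 * 19 * 31 := by
  have hfin : Finite Spor.Th := Nat.finite_of_card_ne_zero (by rw [Cfsg.Agent.Th.Final.card_Th]; norm_num)
  have h1 : Odd (Nat.card (centralizer ({thE thW} : Set Spor.Th))) := by
    refine Cfsg.Agent.H227.IMTh.odd_centralizer (p := 19) (fun u hu => ?_) thW_order
    rw [Cfsg.Agent.H227.IMTh.card_inv u hu]
    norm_num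
  have h2 : Nat.card (centralizer ({thE thW} : Set Spor.Th)) ∣ 2 ^ 15 * (3 ^ 10 * 5 ^ 3 * 7 ^ 2 * 13 * 19 * 31) := by
    have h3 := Subgroup.card_subgroup_dvd_card (centralizer ({thE thW} : Set Spor.Th))
    rw [Cfsg.Agent.Th.Final.card_Th] at h3
    norm_num at h3 ⊢
    exact h3
  exact (Nat.Coprime.pow_right 15 (Nat.coprime_two_right.2 h1)).dvd_of_dvd_mul_left h2

theorem g57 : ∃ g w : MG, w * g * w⁻¹ = g⁻¹ ∧ orderOf g = 3 * 19 ∧
    Nat.card (centralizer ({g} : Set MG)) ∣ 3 * (3 ^ 10 * 5 ^ 3 * 7 ^ 2 * 13 * 19 * 31) := by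
  obtain ⟨x, n, hx, hn, ⟨e⟩⟩ := exists_th
  refine exists_g (r := 19) (c := 3 ^ 10 * 5 ^ 3 * 7 ^ 2 * 13 * 19 * 31) (y := e.symm (thE thW)) (by norm_num)
    (by norm_num) hx hn (Cfsg.Agent.H573.Spor.Monster.card_Th ⟨e⟩) (by norm_num)
    (by rw [MulEquiv.orderOf_eq, thW_order]) ?_ ?_
  · rw [← card_cent_equiv]
    exact th_cent
  · intro k hk
    obtain ⟨b, hb⟩ := th_full k hk
    exact ⟨e.symm b, by rw [← map_mul, ← map_inv, ← map_mul, hb, map_pow]⟩

theorem im_57 {p : ℕ} [hp : Fact p.Prime] {k : ℕ} (hk : p ^ k ∣ 808017424794512875886459904961710757005754368000000000)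
    (h : ¬ p ^ k ∣ 3 * (3 ^ 10 * 5 ^ 3 * 7 ^ 2 * 13 * 19 * 31) * (2 ^ 25 * 4157776806543360000) ^ 2) : IM p MG := by
  have := finite
  obtain ⟨g, w, hw, hg, hc⟩ := g57
  refine IM_of_pair six cl hw (by rw [hg]; norm_num) hc (by decide) (k := k) (by rw [card_M]; exact hk) ?_
  rw [card_cent_z]
  exact h

theorem im_MG {p : ℕ} [hp : Fact p.Prime] (hd : p ∣ 808017424794512875886459904961710757005754368000000000)
    (h11 : p ≠ 11) (h23 : p ≠ 23) : IM p MG := by
  have := finite
  have hfac : (808017424794512875886459904961710757005754368000000000 : ℕ) = 2 ^ 46 * 3 ^ 20 * 5 ^ 9 * 7 ^ 6 *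
      11 ^ 2 * 13 ^ 3 * 17 * 19 * 23 * 29 * 31 * 41 * 47 * 59 * 71 := by norm_num
  have key : p = 2 ∨ p = 3 ∨ p = 5 ∨ p = 7 ∨ p = 13 ∨ p = 17 ∨ p = 19 ∨ p = 29 ∨ p = 31 ∨ p = 41 ∨ p = 47 ∨
      p = 59 ∨ p = 71 := by
    rw [hfac] at hd
    have two : ∀ {q k : ℕ}, q.Prime → p ∣ q ^ k → p = q := fun hq h =>
      (Nat.prime_dvd_prime_iff_eq hp.out hq).1 (hp.out.dvd_of_dvd_pow h)
    have one : ∀ {q : ℕ}, q.Prime → p ∣ q → p = q := fun hq h => (Nat.prime_dvd_prime_iff_eq hp.out hq).1 h
    rcases hp.out.dvd_mul.1 hd with hd | hd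
    · rcases hp.out.dvd_mul.1 hd with hd | hd
      · rcases hp.out.dvd_mul.1 hd with hd | hd
        · rcases hp.out.dvd_mul.1 hd with hd | hd
          · rcases hp.out.dvd_mul.1 hd with hd | hd
            · rcases hp.out.dvd_mul.1 hd with hd | hd
              · rcases hp.out.dvd_mul.1 hd with hd | hd
                · rcases hp.out.dvd_mul.1 hd with hd | hd
                  · rcases hp.out.dvd_mul.1 hd with hd | hd
                    · rcases hp.out.dvd_mul.1 hd with hd | hd
                      · rcases hp.out.dvd_mul.1 hd with hd | hd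
                        · rcases hp.out.dvd_mul.1 hd with hd | hd
                          · rcases hp.out.dvd_mul.1 hd with hd | hd
                            · rcases hp.out.dvd_mul.1 hd with hd | hd
                              · have := two (by norm_num) hd; tauto
                              · have := two (by norm_num) hd; tauto
                            · have := two (by norm_num) hd; tauto
                          · have := two (by norm_num) hd; tauto
                        · exact absurd (two (by norm_num) hd) h11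
                      · have := two (by norm_num) hd; tauto
                    · have := one (by norm_num) hd; tauto
                  · have := one (by norm_num) hd; tauto
                · exact absurd (one (by norm_num) hd) h23
              · have := one (by norm_num) hd; tauto
            · have := one (by norm_num) hd; tauto
          · have := one (by norm_num) hd; tauto
        · have := one (by norm_num) hd; tauto
      · have := one (by norm_num) hd; tauto
    · have := one (by norm_num) hd; tauto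
  rcases key with rfl | rfl | rfl | rfl | rfl | rfl | rfl | rfl | rfl | rfl | rfl | rfl | rfl
  · obtain ⟨g, w, hw, hg, hc⟩ := g51
    refine Cfsg.Agent.H227.IMTh.IM_two_of_real (x := g) ?_ (isConj_iff.2 ⟨w, hw⟩) ?_
    · rintro rfl
      rw [orderOf_one] at hg
      norm_num at hg
    · exact Odd.of_dvd_nat (by decide) hc
  · exact im_51 (k := 20) (by norm_num) (by norm_num)
  · exact im_51 (k := 9) (by norm_num) (by norm_num)
  · exact im_51 (k := 6) (by norm_num) (by norm_num)
  · exact im_51 (k := 3) (by norm_num) (by norm_num)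
  · exact im_57 (k := 1) (by norm_num) (by norm_num)
  · exact im_51 (k := 1) (by norm_num) (by norm_num)
  · exact im_51 (k := 1) (by norm_num) (by norm_num)
  · exact im_51 (k := 1) (by norm_num) (by norm_num)
  · exact im_51 (k := 1) (by norm_num) (by norm_num)
  · exact im_51 (k := 1) (by norm_num) (by norm_num)
  · exact im_51 (k := 1) (by norm_num) (by norm_num)
  · exact im_51 (k := 1) (by norm_num) (by norm_num)

end Cfsg.Agent.H593.IMMonC
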