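import Cfsg.Agent.H852.IMHS
import Cfsg.Agent.H852.IMJTwo
import Cfsg.Agent.H852.IMMathieu
import Cfsg.Agent.H852.IMMathieu2
import Cfsg.Agent.H852.IMMcL
import Cfsg.Agent.H852.IMSuz
import Cfsg.Agent.H724.IMJOne
import Cfsg.Agent.H724.IMJThree
import Cfsg.Agent.H870.IMFiTwentyThree
import Cfsg.Agent.H870.IMFiTwentyTwo
import Cfsg.Agent.H870.IMRu
import Cfsg.Agent.H30.IMFi24
import Cfsg.Agent.H492.IMHe
import Cfsg.Agent.H593.IMTits
import Cfsg.Agent.H492.IMHN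
import Cfsg.Agent.H227.IMTh
import Cfsg.Agent.H843.IMC.RowsA
import Cfsg.Agent.H877.IMJ4
import Cfsg.Agent.H314.IMLy

/-!
# Itô-Michler for the sporadic groups
-/

set_option autoImplicit false

namespace Cfsg.Agent.H593.IMAll

open Cfsg Cfsg.Agent.H33

universe u

/-- The row of `S`. -/
def RowIM (S : Type u) [Group S] : Prop := ∀ {p : ℕ} [Fact p.Prime], p ∣ Nat.card S → IM p S

theorem im_sporadic_of {S : Type u} [Group S]
    (hCo3 : Spor.IsoCo3 S → RowIM S) (hON : Spor.IsoON S → RowIM S)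
    (hB : Spor.IsoB S → RowIM S) (hM : Spor.IsoM S → RowIM S)
    (h : IsSporadicGroup S) {p : ℕ} [hp : Fact p.Prime] (hpS : p ∣ Nat.card S) : IM p S := by
  rcases h with h | h | h | h | h | h | h | h | h | h | h | h | h | h | h | h | h | h | h | h | h |
    h | h | h | h | h
  · exact Cfsg.Agent.H852.IMMathieu.im_m11 h hpS
  · exact Cfsg.Agent.H852.IMMathieu.im_m12 h hpS
  · exact Cfsg.Agent.H852.IMMathieu.im_m22 h hpS
  · exact Cfsg.Agent.H852.IMMathieu.im_m23 h hpS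
  · exact Cfsg.Agent.H852.IMMathieu.im_m24 h hpS
  · exact Cfsg.Agent.H724.IMJOne.im_j1 h hpS
  · exact Cfsg.Agent.H852.IMJTwo.im_j2 h hpS
  · exact Cfsg.Agent.H724.IMJThree.im_j3 h hpS
  · exact Cfsg.Agent.H877.IMJ4.im_j4 h hpS
  · exact Cfsg.Agent.H843.IMC.Rows.im_co1 h hpS
  · exact Cfsg.Agent.H843.IMC.Rows.im_co2 h hpS
  · exact hCo3 h hpS
  · exact Cfsg.Agent.H852.IMMcL.im_mcl h hpS
  · exact Cfsg.Agent.H852.IMHS.im_hs h hpS
  · exact Cfsg.Agent.H852.IMSuz.im_suz h hpS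
  · exact Cfsg.Agent.H492.IMHe.im_he h hpS
  · exact Cfsg.Agent.H870.IMRu.im_ru h hpS
  · exact hON h hpS
  · exact Cfsg.Agent.H314.IMLy.im_ly h hpS
  · exact Cfsg.Agent.H870.IMFi22.im_fi22 h hpS
  · exact Cfsg.Agent.H870.IMFi23.im_fi23 h hpS
  · exact Cfsg.Agent.H30.IMFi24.im_fi24 h hpS
  · exact Cfsg.Agent.H492.IMHN.im_hn h hpS
  · exact Cfsg.Agent.H227.IMTh.im_th h hpS
  · exact hB h hpS
  · exact hM h hpS

end Cfsg.Agent.H593.IMAll
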