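import Cfsg.Agent.H227.IMConst
import Cfsg.Agent.H724.IMTool
import Cfsg.Agent.LThreeMB.Quo

/-!
# Itô-Michler by an element of composite order inverted by an involution (helper593)

`x` inverted by an element `n`, `h ∈ C(x)` of prime order `r` not dividing the order of `x`, `N(⟨h⟩) ∩ C(x)` induces every
automorphism of `⟨h⟩`: then an involution inverts `x h`, and `|C(x h)|` divides `|x| |C_{C(x)/⟨x⟩}(h)|`. An element of odd
order greater than 6 is not inverted by a conjugate of `t` if products of two conjugates of `t` have order at most 6.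
-/

set_option autoImplicit false

namespace Cfsg.Agent.H593.IMMonA

open Subgroup Cfsg Cfsg.Agent.H33
open Cfsg.Agent.LThreeMB (XX Zx mk exists_mk mk_eq_mk mk_mul)

universe u

section gen

variable {G : Type u} [Group G]

/-- An element of odd order greater than 6 is not inverted by a conjugate of `t`. -/
theorem not_conj_six {t u g : G} (six : ∀ k : G, orderOf (t * (k * t * k⁻¹)) ≤ 6)
    (hodd : Odd (orderOf g)) (h6 : 6 < orderOf g) (hu : u * u = 1) (hinv : u * g * u⁻¹ = g⁻¹) :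
    ¬ ∃ h, h * t * h⁻¹ = u := by
  rintro ⟨h, rfl⟩
  set s := h * t * h⁻¹ with hs
  obtain ⟨m, hm⟩ := hodd
  have hk : g ^ (m + 1) * g ^ (m + 1) = g := by
    rw [← pow_add, show m + 1 + (m + 1) = (2 * m + 1) + 1 by ring, pow_succ, ← hm, pow_orderOf_eq_one, one_mul]
  have hsk : s * g ^ (m + 1) * s⁻¹ = (g ^ (m + 1))⁻¹ := by
    rw [← conj_pow, hinv, inv_pow]
  set k := g ^ (m + 1) with hkd
  have h1 : s * (k * s * k⁻¹) = g⁻¹ := by
    calc s * (k * s * k⁻¹) = (s * k * s⁻¹) * (s * s) * k⁻¹ := by group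
      _ = k⁻¹ * k⁻¹ := by rw [hsk, hu, mul_one]
      _ = g⁻¹ := by rw [← mul_inv_rev, hk]
  have h2 := six (h⁻¹ * k * h)
  have h3 : h * (t * (h⁻¹ * k * h * t * (h⁻¹ * k * h)⁻¹)) * h⁻¹ = g⁻¹ := by
    rw [← h1, hs]; group
  have h4 : orderOf g = orderOf (t * (h⁻¹ * k * h * t * (h⁻¹ * k * h)⁻¹)) := by
    rw [← orderOf_inv, ← h3]
    exact (MulAut.conj h).orderOf_eq _
  omega

/-- `x` is a power of `x h` for commuting `x`, `h` of coprime orders. -/
theorem exists_pow_eq {x h : G} (hc : h * x = x * h) (hco : Nat.Coprime (orderOf h) (orderOf x)) (hx : orderOf x ≠ 0) :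
    ∃ n : ℕ, (x * h) ^ n = x := by
  obtain ⟨j, hj⟩ := Nat.exists_mul_mod_eq_of_coprime 1 hco hx
  refine ⟨orderOf h * j, ?_⟩
  have hcm : Commute x h := hc.symm
  rw [hcm.mul_pow, pow_mul h, pow_orderOf_eq_one, one_pow, mul_one]
  conv_rhs => rw [← pow_one x]
  exact pow_eq_pow_iff_modEq.2 hj.2

/-- The centralizer of `x h`. -/
theorem card_cent_dvd [Finite G] {x h : G} (hc : h * x = x * h) (hco : Nat.Coprime (orderOf h) (orderOf x)) :
    Nat.card (centralizer ({x * h} : Set G)) ∣ orderOf x * Nat.card (centralizer ({mk x hc} : Set (XX x))) := by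
  have hx0 : orderOf x ≠ 0 := (orderOf_pos x).ne'
  have hh0 : orderOf h ≠ 0 := (orderOf_pos h).ne'
  obtain ⟨n, hn⟩ := exists_pow_eq hc hco hx0
  have hcx : ∀ c ∈ centralizer ({x * h} : Set G), c * x = x * c := by
    intro c hcc
    have h1 : Commute c (x * h) := mem_centralizer_singleton_iff.1 hcc
    have h2 := h1.pow_right n
    rw [hn] at h2
    exact h2.eq
  have hch : ∀ c ∈ centralizer ({x * h} : Set G), c * h = h * c := by
    intro c hcc
    have h1 : Commute c (x * h) := mem_centralizer_singleton_iff.1 hcc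
    have h2 : Commute c x⁻¹ := (show Commute c x from hcx c hcc).inv_right
    have h3 := h2.mul_right h1
    rw [inv_mul_cancel_left] at h3
    exact h3.eq
  let f : ↥(centralizer ({x * h} : Set G)) →* XX x :=
    (QuotientGroup.mk' (Zx x)).comp (Subgroup.inclusion (fun c hcc => mem_centralizer_singleton_iff.2 (hcx c hcc)))
  have hf : ∀ c, f c = mk x (hcx c c.2) := fun c => rfl
  have h1 : Nat.card f.range ∣ Nat.card (centralizer ({mk x hc} : Set (XX x))) := by
    refine card_dvd_of_le ?_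
    rintro _ ⟨c, rfl⟩
    rw [mem_centralizer_singleton_iff, hf]
    have e1 := hch c c.2
    have h3 : (c : G) * h * x = x * ((c : G) * h) := by
      rw [mul_assoc, hc, ← mul_assoc, hcx c c.2, mul_assoc]
    have h4 : h * (c : G) * x = x * (h * (c : G)) := by rw [← e1]; exact h3
    rw [mk_mul (hcx c c.2) hc h3, mk_mul hc (hcx c c.2) h4]
    exact LThreeMB.mk_congr _ _ e1
  have h2 : Nat.card f.ker ∣ orderOf x := by
    let k : ↥f.ker →* ↥(zpowers x) :=
      ((centralizer ({x * h} : Set G)).subtype.comp f.ker.subtype).codRestrict (zpowers x) (by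
        rintro ⟨c, hcc⟩
        have h3 : mk x (hcx c c.2) = 1 := hcc
        obtain ⟨i, hi⟩ := (LThreeMB.mk_eq_one _).1 h3
        exact ⟨i, hi⟩)
    have hk : Function.Injective k := by
      intro a b hab
      exact Subtype.ext (Subtype.ext (congrArg (fun y : ↥(zpowers x) => (y : G)) hab))
    have h3 := Subgroup.card_dvd_of_injective k hk
    rwa [Nat.card_zpowers] at h3
  have h3 : Nat.card f.ker * Nat.card f.range = Nat.card (centralizer ({x * h} : Set G)) := by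
    rw [← index_ker]
    exact f.ker.card_mul_index
  rw [← h3]
  exact Nat.mul_dvd_mul h2 h1

/-- lift of an element of prime order -/
theorem exists_lift [Finite G] {x : G} {r : ℕ} (hco : Nat.Coprime r (orderOf x)) {y : XX x} (hy : orderOf y = r)
    (hr : r.Prime) : ∃ (h : G) (hc : h * x = x * h), mk x hc = y ∧ orderOf h = r := by
  obtain ⟨w, hw, rfl⟩ := exists_mk y
  have hpow : ∀ n : ℕ, ∀ hc : w ^ n * x = x * w ^ n, mk x hc = (mk x hw) ^ n := by
    intro n hc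
    rfl
  have hwn : ∀ n : ℕ, w ^ n * x = x * w ^ n := fun n => ((show Commute w x from hw).pow_left n).eq
  obtain ⟨m, hm1, hm2⟩ := Nat.chineseRemainder hco 1 0
  have h1 : (mk x hw) ^ m = mk x hw := by
    conv_rhs => rw [← pow_one (mk x hw)]
    exact pow_eq_pow_iff_modEq.2 (by rw [hy]; exact hm1)
  have h2 : mk x (hwn m) = mk x hw := by rw [hpow, h1]
  have h3 : (w ^ m) ^ r = 1 := by
    have h4 : mk x (hwn r) = 1 := by rw [hpow, ← hy, pow_orderOf_eq_one]
    obtain ⟨i, hi⟩ := (LThreeMB.mk_eq_one _).1 h4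
    obtain ⟨l, hl⟩ := (Nat.modEq_zero_iff_dvd).1 hm2
    rw [← pow_mul, mul_comm, pow_mul, ← hi, hl, pow_mul, ← zpow_natCast (x ^ i), ← zpow_mul, mul_comm, zpow_mul,
      zpow_natCast, pow_orderOf_eq_one, one_zpow, one_pow]
  have : Fact r.Prime := ⟨hr⟩
  refine ⟨w ^ m, hwn m, h2, orderOf_eq_prime h3 ?_⟩
  intro h4
  have h5 : mk x (hwn m) = 1 := by
    rw [LThreeMB.mk_eq_one]
    exact ⟨0, by rw [zpow_zero, h4]⟩
  rw [h2] at h5
  rw [h5, orderOf_one] at hy
  exact hr.one_lt.ne hy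

/-- lift of the automorphisms -/
theorem full_lift [Finite G] {x h : G} {r : ℕ} (hco : Nat.Coprime r (orderOf x)) (hh : orderOf h = r)
    (hc : h * x = x * h) {k : ℕ} (hb : ∃ b : XX x, b * mk x hc * b⁻¹ = mk x hc ^ k) :
    ∃ b : G, b * x = x * b ∧ b * h * b⁻¹ = h ^ k := by
  obtain ⟨b', hb⟩ := hb
  obtain ⟨b, hbx, rfl⟩ := exists_mk b'
  refine ⟨b, hbx, ?_⟩
  have h1 : (b * h * b⁻¹) * x = x * (b * h * b⁻¹) := LThreeMB.conj_comm hbx hc
  have h2 : h ^ k * x = x * h ^ k := ((show Commute h x from hc).pow_left k).eq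
  have h3 : mk x h1 = mk x h2 := hb
  obtain ⟨i, hi⟩ := (mk_eq_mk h1 h2).1 h3
  have h4 : (x ^ i) ^ r = 1 := by
    have h5 : Commute (b * h * b⁻¹) (x ^ i) := (show Commute (b * h * b⁻¹) x from h1).zpow_right i
    have h6 : (b * h * b⁻¹ * x ^ i) ^ r = (h ^ k) ^ r := by rw [hi]
    have h7 : h ^ r = 1 := by rw [← hh, pow_orderOf_eq_one]
    rw [h5.mul_pow, conj_pow, h7, mul_one, mul_inv_cancel, one_mul, ← pow_mul, mul_comm k,
      pow_mul, h7, one_pow] at h6
    exact h6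
  have h7 : (orderOf x : ℤ) ∣ i * r := by
    rw [orderOf_dvd_iff_zpow_eq_one, zpow_mul, zpow_natCast]
    exact h4
  have h8 : (orderOf x : ℤ) ∣ i := by
    have h9 : IsCoprime (orderOf x : ℤ) (r : ℤ) := (Nat.isCoprime_iff_coprime.2 hco).symm
    exact h9.dvd_of_dvd_mul_right h7
  have h9 : x ^ i = 1 := orderOf_dvd_iff_zpow_eq_one.1 h8
  rw [h9, mul_one] at hi
  exact hi

/-- Sylow: `r` to the first power in `|C|`, `h ∈ C` of order `r`: elements of order `r` of `C` are conjugate into `⟨h⟩`. -/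
theorem conj_into [Finite G] {C : Subgroup G} {r : ℕ} (hr : r.Prime) (hC : ¬ r ^ 2 ∣ Nat.card ↥C) {h y : G}
    (hh : orderOf h = r) (hhC : h ∈ C) (hy : orderOf y = r) (hyC : y ∈ C) :
    ∃ c ∈ C, c * y * c⁻¹ ∈ zpowers h := by
  have : Fact r.Prime := ⟨hr⟩
  have hcard : ∀ w (hw : w ∈ C), orderOf w = r → Nat.card (zpowers (⟨w, hw⟩ : ↥C)) = r := by
    intro w hw ho
    rw [Nat.card_zpowers, Subgroup.orderOf_mk, ho]
  have hfac : (Nat.card ↥C).factorization r = 1 := by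
    have h0 : Nat.card ↥C ≠ 0 := Nat.card_pos.ne'
    have h1 : r ^ 1 ∣ Nat.card ↥C := by
      rw [pow_one, ← hcard h hhC hh]
      exact Subgroup.card_subgroup_dvd_card _
    have h2 : 1 ≤ (Nat.card ↥C).factorization r := (hr.pow_dvd_iff_le_factorization h0).1 h1
    have h3 : ¬ 2 ≤ (Nat.card ↥C).factorization r := fun h => hC ((hr.pow_dvd_iff_le_factorization h0).2 h)
    omega
  let S : Sylow r ↥C := Sylow.ofCard (zpowers (⟨h, hhC⟩ : ↥C)) (by rw [hcard h hhC hh, hfac, pow_one])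
  let R : Sylow r ↥C := Sylow.ofCard (zpowers (⟨y, hyC⟩ : ↥C)) (by rw [hcard y hyC hy, hfac, pow_one])
  obtain ⟨g, hg⟩ := MulAction.exists_smul_eq ↥C R S
  refine ⟨g, g.2, ?_⟩
  have h1 : g * ⟨y, hyC⟩ * g⁻¹ ∈ (S : Subgroup ↥C) := by
    rw [← hg, Sylow.coe_subgroup_smul]
    exact Subgroup.smul_mem_pointwise_smul _ (MulAut.conj g) _ (Subgroup.mem_zpowers _)
  obtain ⟨i, hi⟩ := mem_zpowers_iff.1 (show g * ⟨y, hyC⟩ * g⁻¹ ∈ zpowers (⟨h, hhC⟩ : ↥C) from h1)
  exact ⟨i, congrArg Subtype.val hi⟩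

/-- An element inverting `x h`. -/
theorem exists_inverts [Finite G] {x h n : G} {r : ℕ} (hr : r.Prime) (hh : orderOf h = r) (hhx : h * x = x * h)
    (hn : n * x * n⁻¹ = x⁻¹) (hsyl : ¬ r ^ 2 ∣ Nat.card (centralizer ({x} : Set G)))
    (hfull : ∀ k : ℕ, ¬ r ∣ k → ∃ b : G, b * x = x * b ∧ b * h * b⁻¹ = h ^ k) :
    ∃ w : G, w * (x * h) * w⁻¹ = (x * h)⁻¹ := by
  have : Fact r.Prime := ⟨hr⟩
  have hC : ∀ y : G, y * x = x * y → y ∈ centralizer ({x} : Set G) := fun y hy => mem_centralizer_singleton_iff.2 hy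
  -- `n h n⁻¹` commutes with `x`
  have h1 : (n * h * n⁻¹) * x = x * (n * h * n⁻¹) := by
    have e1 : x = n * x⁻¹ * n⁻¹ := by
      calc x = (x⁻¹)⁻¹ := (inv_inv x).symm
        _ = (n * x * n⁻¹)⁻¹ := by rw [hn]
        _ = n * x⁻¹ * n⁻¹ := by group
    have e2 : h * x⁻¹ = x⁻¹ * h := by
      rw [mul_inv_eq_iff_eq_mul, mul_assoc, hhx, inv_mul_cancel_left]
    calc (n * h * n⁻¹) * x = (n * h * n⁻¹) * (n * x⁻¹ * n⁻¹) := by rw [← e1]
      _ = n * (h * x⁻¹) * n⁻¹ := by group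
      _ = n * (x⁻¹ * h) * n⁻¹ := by rw [e2]
      _ = (n * x⁻¹ * n⁻¹) * (n * h * n⁻¹) := by group
      _ = x * (n * h * n⁻¹) := by rw [← e1]
  have h2 : orderOf (n * h * n⁻¹) = r := by
    rw [← hh]
    exact (MulAut.conj n).orderOf_eq h
  obtain ⟨c, hcC, hc⟩ := conj_into hr hsyl hh (hC h hhx) h2 (hC _ h1)
  have hcx : c * x = x * c := mem_centralizer_singleton_iff.1 hcC
  have hr0 : 0 < r := hr.pos
  -- `c n h n⁻¹ c⁻¹ = h ^ k`
  obtain ⟨k, hk⟩ : ∃ k : ℕ, h ^ k = c * (n * h * n⁻¹) * c⁻¹ := by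
    have := mem_powers_iff_mem_zpowers.2 hc
    exact this
  have hrk : ¬ r ∣ k := by
    rintro ⟨l, rfl⟩
    rw [pow_mul, ← hh, pow_orderOf_eq_one, one_pow] at hk
    have h3 : orderOf (c * (n * h * n⁻¹) * c⁻¹) = r := by
      rw [← h2]
      exact (MulAut.conj c).orderOf_eq _
    rw [← hk, orderOf_one] at h3
    exact hr.one_lt.ne h3
  obtain ⟨j, hj1, hj⟩ := Nat.exists_mul_mod_eq_of_coprime 1 (((Nat.Prime.coprime_iff_not_dvd hr).2 hrk).symm) hr.ne_zero
  have hrm : ¬ r ∣ j * (r - 1) := by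
    intro hd
    rcases hr.dvd_mul.1 hd with h3 | h3
    · obtain ⟨l, rfl⟩ := h3
      have h4 : k * (r * l) % r = 0 := by rw [mul_left_comm, Nat.mul_mod_right]
      rw [h4, Nat.mod_eq_of_lt hr.one_lt] at hj
      exact zero_ne_one hj
    · have h4 := Nat.le_of_dvd (by have := hr.one_lt; omega) h3
      omega
  obtain ⟨b, hbx, hb⟩ := hfull _ hrm
  have hkey : h ^ (j * (r - 1) * k) = h⁻¹ := by
    have h3 : h ^ (k * j) = h := by
      conv_rhs => rw [← pow_one h]
      exact pow_eq_pow_iff_modEq.2 (by rw [hh]; exact hj)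
    calc h ^ (j * (r - 1) * k) = (h ^ (k * j)) ^ (r - 1) := by rw [← pow_mul]; congr 1; ring
      _ = h ^ (r - 1) := by rw [h3]
      _ = h⁻¹ := by
        rw [eq_inv_iff_mul_eq_one, ← pow_succ, Nat.sub_add_cancel hr0, ← hh, pow_orderOf_eq_one]
  refine ⟨b * c * n, ?_⟩
  have hx' : (b * c * n) * x * (b * c * n)⁻¹ = x⁻¹ := by
    have e1 : c * x⁻¹ * c⁻¹ = x⁻¹ := by
      have : Commute c x⁻¹ := (show Commute c x from hcx).inv_right
      rw [this.eq]; group
    have e2 : b * x⁻¹ * b⁻¹ = x⁻¹ := by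
      have : Commute b x⁻¹ := (show Commute b x from hbx).inv_right
      rw [this.eq]; group
    calc (b * c * n) * x * (b * c * n)⁻¹ = b * (c * (n * x * n⁻¹) * c⁻¹) * b⁻¹ := by group
      _ = x⁻¹ := by rw [hn, e1, e2]
  have hh' : (b * c * n) * h * (b * c * n)⁻¹ = h⁻¹ := by
    calc (b * c * n) * h * (b * c * n)⁻¹ = b * (c * (n * h * n⁻¹) * c⁻¹) * b⁻¹ := by group
      _ = b * h ^ k * b⁻¹ := by rw [← hk]
      _ = h⁻¹ := by rw [← conj_pow, hb, ← pow_mul, hkey]
  calc (b * c * n) * (x * h) * (b * c * n)⁻¹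
      = ((b * c * n) * x * (b * c * n)⁻¹) * ((b * c * n) * h * (b * c * n)⁻¹) := by group
    _ = x⁻¹ * h⁻¹ := by rw [hx', hh']
    _ = (x * h)⁻¹ := by rw [← mul_inv_rev, hhx]

/-- centralizers of conjugate elements -/
theorem card_cent_conj (h x : G) :
    Nat.card (centralizer ({h * x * h⁻¹} : Set G)) = Nat.card (centralizer ({x} : Set G)) := by
  refine Nat.card_congr
    { toFun := fun c => ⟨h⁻¹ * c * h, mem_centralizer_singleton_iff.2 ?_⟩
      invFun := fun c => ⟨h * c * h⁻¹, mem_centralizer_singleton_iff.2 ?_⟩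
      left_inv := fun c => Subtype.ext (by show h * (h⁻¹ * (c : G) * h) * h⁻¹ = c; group)
      right_inv := fun c => Subtype.ext (by show h⁻¹ * (h * (c : G) * h⁻¹) * h = c; group) }
  · have h1 := mem_centralizer_singleton_iff.1 c.2
    calc (h⁻¹ * (c : G) * h) * x = h⁻¹ * ((c : G) * (h * x * h⁻¹)) * h := by group
      _ = h⁻¹ * ((h * x * h⁻¹) * c) * h := by rw [h1]
      _ = x * (h⁻¹ * (c : G) * h) := by group
  · have h1 := mem_centralizer_singleton_iff.1 c.2
    calc (h * (c : G) * h⁻¹) * (h * x * h⁻¹) = h * ((c : G) * x) * h⁻¹ := by group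
      _ = h * (x * (c : G)) * h⁻¹ := by rw [h1]
      _ = (h * x * h⁻¹) * (h * (c : G) * h⁻¹) := by group

/-- **The criterion.** -/
theorem IM_of_pair {p : ℕ} [hp : Fact p.Prime] [Finite G] {t z : G}
    (six : ∀ k : G, orderOf (t * (k * t * k⁻¹)) ≤ 6)
    (cl : ∀ u : G, u * u = 1 → u ≠ 1 → (∃ h, h * z * h⁻¹ = u) ∨ ∃ h, h * t * h⁻¹ = u)
    {g n : G} (hn : n * g * n⁻¹ = g⁻¹) (h6 : 6 < orderOf g) {c : ℕ}
    (hc : Nat.card (centralizer ({g} : Set G)) ∣ c) (hodd : Odd c)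
    {k : ℕ} (hk : p ^ k ∣ Nat.card G) (h : ¬ p ^ k ∣ c * Nat.card (centralizer ({z} : Set G)) ^ 2) : IM p G := by
  have hodd' : Odd (Nat.card (centralizer ({g} : Set G))) := hodd.of_dvd_nat hc
  have hg1 : g ≠ 1 := by
    rintro rfl
    rw [orderOf_one] at h6
    omega
  obtain ⟨u, hu, hug⟩ := Cfsg.Agent.H724.IMTool.exists_invol hg1 (isConj_iff.2 ⟨n, hn⟩) hodd'
  have huu : u * u = 1 := by rw [← pow_two, ← hu, pow_orderOf_eq_one]
  have hu1 : u ≠ 1 := by
    rintro rfl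
    rw [orderOf_one] at hu
    omega
  have hgo : Odd (orderOf g) := by
    refine hodd'.of_dvd_nat ?_
    have h2 : g ∈ centralizer ({g} : Set G) := mem_centralizer_singleton_iff.2 rfl
    rw [← Subgroup.orderOf_mk g h2]
    exact orderOf_dvd_natCard _
  have hcu : Nat.card (centralizer ({u} : Set G)) = Nat.card (centralizer ({z} : Set G)) := by
    rcases cl u huu hu1 with ⟨m, hm⟩ | hm
    · rw [← hm, card_cent_conj]
    · exact absurd hm (not_conj_six six hgo h6 huu hug)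
  refine Cfsg.Agent.H227.IMPairsP.IM_of_odd_centralizer hu hug hodd' fun h1 => h ?_
  rw [hcu] at h1
  have h2 := (hp.out.pow_dvd_iff_le_factorization Nat.card_pos.ne').1 hk
  exact (pow_dvd_pow p h2).trans (h1.trans (Nat.mul_dvd_mul_right hc _))

end gen

end Cfsg.Agent.H593.IMMonA
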