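import Mathlib
import Cfsg.Prelude.Def_Blocks
import Cfsg.Prelude.Def_Local
import Cfsg.Agent.H593.Robinson1
import Cfsg.Agent.H593.RobinsonRank
import Cfsg.Agent.Blocks.Osima
import Cfsg.Agent.S0907
import Cfsg.Agent.S0908
import Cfsg.Agent.S0911
import Cfsg.Agent.S0912
import Cfsg.Agent.S0957

/-!
# Robinson's count of blocks with a normal defect group: the reduction modulo `p`
-/

set_option autoImplicit false
set_option linter.unusedSectionVars false
set_option linter.unusedVariables false

namespace Cfsg.Agent.H593.Robinson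

open Cfsg
open scoped ComplexConjugate
open Cfsg.Agent.Blocks.Local
open Cfsg.Agent.Blocks.Basic
open Cfsg.Agent.Characters.Core

variable {G : Type*} [Group G]

/-- The characters with `D` in the kernel and degree divisible by `q`. -/
def InX (D : Subgroup G) (q : ℕ) (χ : G → ℂ) : Prop :=
  (∀ x ∈ D, ∀ g : G, χ (x * g) = χ g) ∧ q ∣ charDegree χ

/-- The weight `χ(1)² |D| / (|G| q)`. -/
noncomputable def kappa (D : Subgroup G) (q : ℕ) (χ : G → ℂ) : ℂ :=
  χ 1 ^ 2 * (Nat.card D : ℂ) / ((Nat.card G : ℂ) * (q : ℂ))

section

variable [Fintype G] {p : ℕ} [hp : Fact p.Prime] {M : Ideal AlgInt}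

theorem factorization_quot (D : Subgroup G) [D.Normal] :
    (Nat.card (G ⧸ D)).factorization p =
      (Nat.card G).factorization p - (Nat.card D).factorization p := by
  have h := Subgroup.card_eq_card_quotient_mul_card_subgroup D
  rw [h, Nat.factorization_mul Nat.card_pos.ne' Nat.card_pos.ne']
  simp

theorem factorization_pow_self' (n : ℕ) : (p ^ n).factorization p = n := by
  rw [hp.out.factorization_pow]
  simp

theorem card_sylow_factorization (S : Sylow p G) :
    (Nat.card S).factorization p = (Nat.card G).factorization p := by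
  rw [S.card_eq_multiplicity, factorization_pow_self']

theorem isIntegral_irr' {χ : G → ℂ} (hχ : IsIrrCharacter G χ) (g : G) : IsIntegral ℤ (χ g) :=
  Cfsg.Agent.Blocks.DefectCard.isIntegral_irr hχ g

theorem memLocalRing_irr (hM : IsPModular p M) {χ : G → ℂ} (hχ : IsIrrCharacter G χ) (g : G) :
    MemLocalRing M (χ g) := by
  have := isPrime_of_isPModular hM
  exact memLocalRing_algInt (M := M) ⟨χ g, isIntegral_irr' hχ g⟩

theorem memLocalRing_centralChar' (hM : IsPModular p M) {χ : G → ℂ} (hχ : IsIrrCharacter G χ)
    (g : G) : MemLocalRing M (centralChar χ g) := by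
  have := isPrime_of_isPModular hM
  exact memLocalRing_algInt (M := M)
    ⟨centralChar χ g, Cfsg.Agent.Blocks.ConvCentral.isIntegral_centralChar hχ g⟩

theorem memLocalRing_kappa (hM : IsPModular p M) (D : Subgroup G) [D.Normal] {χ : G → ℂ}
    (hχ : IsIrrCharacter G χ)
    (h : InX D (p ^ ((Nat.card G).factorization p - (Nat.card D).factorization p)) χ) :
    MemLocalRing M
      (kappa D (p ^ ((Nat.card G).factorization p - (Nat.card D).factorization p)) χ) := by
  have := isPrime_of_isPModular hM
  set q := p ^ ((Nat.card G).factorization p - (Nat.card D).factorization p) with hq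
  have hD : (Nat.card D).factorization p ≤ (Nat.card G).factorization p :=
    (Nat.factorization_le_iff_dvd Nat.card_pos.ne' Nat.card_pos.ne').2
      (Subgroup.card_subgroup_dvd_card D) p
  obtain ⟨k, hk⟩ := h.2
  have hq0 : q ≠ 0 := pow_ne_zero _ hp.out.ne_zero
  have h1 : kappa D q χ = ((k ^ 2 * (q * Nat.card D) : ℕ) : ℂ) / ((Nat.card G : ℕ) : ℂ) := by
    rw [kappa, irr_one_eq_charDegree hχ, hk]
    have hqC : (q : ℂ) ≠ 0 := Nat.cast_ne_zero.2 hq0
    have h2 : (Nat.card G : ℂ) ≠ 0 := Nat.cast_ne_zero.2 Nat.card_pos.ne'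
    push_cast
    field_simp
  rw [h1]
  by_cases hk0 : k = 0
  · subst hk0
    simpa using memLocalRing_zero (M := M)
  refine Cfsg.Agent.Blocks.DefectCard.memLocalRing_natDiv hM Nat.card_pos.ne' ?_
  rw [Nat.factorization_mul (pow_ne_zero _ hk0) (mul_ne_zero hq0 Nat.card_pos.ne'),
    Nat.factorization_mul hq0 Nat.card_pos.ne', Finsupp.add_apply, Finsupp.add_apply, hq,
    factorization_pow_self']
  omega

open Classical in
/-- The contribution of one character, modulo the local ideal. -/
theorem term_congr (hM : IsPModular p M) (D : Subgroup G) [D.Normal] (hD : IsPGroup p D)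
    (S : Sylow p G) [Fintype S] {χ : G → ℂ} (hχ : IsIrrCharacter G χ) (u v : G)
    (hu : (Subgroup.centralizer ({u} : Set G)).index.factorization p =
      (Nat.card G).factorization p - (Nat.card D).factorization p)
    (hv : (Subgroup.centralizer ({v} : Set G)).index.factorization p =
      (Nat.card G).factorization p - (Nat.card D).factorization p) :
    MemLocalIdeal M (χ 1 / (Nat.card G : ℂ) * centralChar χ v * centralChar χ u *
        (∑ s : S, conj (χ s)) /
        ((p ^ ((Nat.card G).factorization p - (Nat.card D).factorization p) : ℕ) : ℂ) -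
      if InX D (p ^ ((Nat.card G).factorization p - (Nat.card D).factorization p)) χ then
        kappa D (p ^ ((Nat.card G).factorization p - (Nat.card D).factorization p)) χ *
          centralChar χ v * centralChar χ u else 0) := by
  have hprime := isPrime_of_isPModular hM
  have := Fintype.ofFinite D
  set q := p ^ ((Nat.card G).factorization p - (Nat.card D).factorization p) with hq
  have hq0 : q ≠ 0 := pow_ne_zero _ hp.out.ne_zero
  have hqC : (q : ℂ) ≠ 0 := Nat.cast_ne_zero.2 hq0
  have hGC : (Nat.card G : ℂ) ≠ 0 := Nat.cast_ne_zero.2 Nat.card_pos.ne'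
  have hχ1 : χ 1 ≠ 0 := irr_one_ne_zero hχ
  have hDS : D ≤ S := hD.le_sylow_of_normal S
  by_cases hX : InX D q χ
  · rw [if_pos hX]
    have hR : ∑ s : S, conj (χ s) = (Nat.card D : ℂ) * χ 1 := by
      refine sum_sylow_of_defect_zero p D S S.2 hDS hχ hX.1 ?_
      rw [factorization_quot]
      exact hX.2
    rw [hR, kappa]
    have h0 : χ 1 / (Nat.card G : ℂ) * centralChar χ v * centralChar χ u *
        ((Nat.card D : ℂ) * χ 1) / (q : ℂ) -
        χ 1 ^ 2 * (Nat.card D : ℂ) / ((Nat.card G : ℂ) * (q : ℂ)) * centralChar χ v *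
          centralChar χ u = 0 := by
      field_simp
      ring
    rw [h0]
    exact memLocalIdeal_zero
  · rw [if_neg hX, sub_zero]
    rcases dichotomy D hχ with hker | hzero
    · have hnq : ¬ q ∣ charDegree χ := fun h => hX ⟨hker, h⟩
      have hlt : (charDegree χ).factorization p <
          (Nat.card G).factorization p - (Nat.card D).factorization p := by
        by_contra hcon
        push Not at hcon
        exact hnq ((pow_dvd_pow p hcon).trans (Nat.ordProj_dvd _ _))
      obtain ⟨r, hr⟩ := sum_subgroup_nat (S : Subgroup G) hχ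
      have hr' : ∑ s : S, conj (χ s) = (Nat.card S : ℂ) * r := hr
      have hdeg : χ 1 = (charDegree χ : ℂ) := irr_one_eq_charDegree hχ
      have heq : χ 1 / (Nat.card G : ℂ) * centralChar χ v * centralChar χ u *
          (∑ s : S, conj (χ s)) / (q : ℂ) =
          (((Nat.card S : ℕ) : ℂ) / ((Nat.card G : ℕ) : ℂ)) *
            ((((Subgroup.centralizer ({v} : Set G)).index : ℕ) : ℂ) / ((q : ℕ) : ℂ)) * χ v * χ u *
            (r : ℂ) * ((((Subgroup.centralizer ({u} : Set G)).index : ℕ) : ℂ) /
              ((charDegree χ : ℕ) : ℂ)) := by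
        rw [hr', centralChar_def, centralChar_def, ← hdeg]
        field_simp
      rw [heq]
      refine memLocalIdeal_mul_left ?_ ?_
      · refine memLocalRing_mul (memLocalRing_mul (memLocalRing_mul (memLocalRing_mul ?_ ?_)
          (memLocalRing_irr hM hχ v)) (memLocalRing_irr hM hχ u)) (memLocalRing_natCast r)
        · refine Cfsg.Agent.Blocks.DefectCard.memLocalRing_natDiv hM Nat.card_pos.ne' ?_
          rw [card_sylow_factorization]
        · refine Cfsg.Agent.Blocks.DefectCard.memLocalRing_natDiv hM hq0 ?_
          rw [hv, hq, factorization_pow_self']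
      · refine Cfsg.Agent.Blocks.DefectCard.memLocalIdeal_natDiv hM (charDegree_pos hχ).ne' ?_
        rw [hu]
        exact hlt
    · have hR : ∑ s : S, conj (χ s) = 0 :=
        sum_sylow_of_sum_zero D (S : Subgroup G) hDS hzero
      rw [hR, mul_zero, zero_div]
      exact memLocalIdeal_zero

open Classical in
/-- The number of pairs modulo the local ideal. -/
theorem pairs_congr [Fintype (IrrCharacter G)] (hM : IsPModular p M) (D : Subgroup G) [D.Normal]
    (hD : IsPGroup p D)
    (S : Sylow p G) (u v : G)
    (hu : (Subgroup.centralizer ({u⁻¹} : Set G)).index.factorization p =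
      (Nat.card G).factorization p - (Nat.card D).factorization p)
    (hv : (Subgroup.centralizer ({v} : Set G)).index.factorization p =
      (Nat.card G).factorization p - (Nat.card D).factorization p) :
    MemLocalIdeal M ((Nat.card {yz : G × G // IsConj u yz.1 ∧ IsConj v yz.2 ∧
        yz.2 * yz.1⁻¹ ∈ (S : Subgroup G)} : ℂ) /
        ((p ^ ((Nat.card G).factorization p - (Nat.card D).factorization p) : ℕ) : ℂ) -
      ∑ χ : IrrCharacter G,
        if InX D (p ^ ((Nat.card G).factorization p - (Nat.card D).factorization p))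
          (χ : G → ℂ) then
        kappa D (p ^ ((Nat.card G).factorization p - (Nat.card D).factorization p)) (χ : G → ℂ) *
          centralChar (χ : G → ℂ) v * centralChar (χ : G → ℂ) u⁻¹ else 0) := by
  have hprime := isPrime_of_isPModular hM
  have := Fintype.ofFinite S
  rw [card_pairs (S : Subgroup G) u v, Finset.sum_div]
  exact memLocalIdeal_sum_sub_sum fun χ _ => term_congr hM D hD S χ.2 u⁻¹ v hu hv

end

end Cfsg.Agent.H593.Robinson
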