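import Mathlib
import Cfsg.Prelude.Def_Blocks
import Cfsg.Prelude.Def_Local
import Cfsg.Agent.H593.Robinson2

/-!
# Robinson's count of blocks with a normal defect group: blocks
-/

set_option autoImplicit false
set_option linter.unusedSectionVars false
set_option linter.unusedVariables false

namespace Cfsg.Agent.H593.Robinson

open Cfsg
open scoped ComplexConjugate
open Cfsg.Agent.Blocks.Local
open Cfsg.Agent.Blocks.Basic
open Cfsg.Agent.Characters.Core

variable {G : Type*} [Group G]

section

variable [Fintype G] {p : ℕ} [hp : Fact p.Prime] {M : Ideal AlgInt}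

theorem map_conj_normal (D : Subgroup G) [D.Normal] (x : G) :
    D.map (MulAut.conj x).toMonoidHom = D := by
  have := Subgroup.Normal.map_conj_eq (H := D) x
  exact this

theorem card_map_subtype {g : G} (P : Sylow p (Subgroup.centralizer ({g} : Set G))) :
    Nat.card ((P : Subgroup (Subgroup.centralizer ({g} : Set G))).map
      (Subgroup.centralizer ({g} : Set G)).subtype) =
      p ^ (Nat.card (Subgroup.centralizer ({g} : Set G))).factorization p := by
  rw [← P.card_eq_multiplicity]
  exact (Nat.card_congr ((P : Subgroup (Subgroup.centralizer ({g} : Set G))).equivMapOfInjective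
    _ (Subgroup.subtype_injective _)).toEquiv).symm

/-- The exponent of `p` in the class size. -/
theorem index_factorization {g : G} {D : Subgroup G} (h : IsSylowCentralizer p g D) :
    (Subgroup.centralizer ({g} : Set G)).index.factorization p =
      (Nat.card G).factorization p - (Nat.card D).factorization p := by
  obtain ⟨P, rfl⟩ := h
  rw [card_map_subtype, factorization_pow_self',
    ← Subgroup.card_mul_index (Subgroup.centralizer ({g} : Set G)),
    Nat.factorization_mul Nat.card_pos.ne' Subgroup.index_ne_zero_of_finite]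
  simp

theorem sylowCentralizer_of_coeff (hM : IsPModular p M) {b : Set (IrrCharacter G)}
    (hb : IsPBlock M b) {D : Subgroup G} [D.Normal] (hD : IsDefectGroup p M b D) {g : G}
    {b' : Set (IrrCharacter G)} (hb' : IsPBlock M b') (hD' : IsDefectGroup p M b' D)
    (h1 : ¬ MemLocalIdeal M (blockCoeff b g)) {χ : IrrCharacter G} (hχ : χ ∈ b')
    (h2 : ¬ MemLocalIdeal M (centralChar (χ : G → ℂ) g)) : IsSylowCentralizer p g D := by
  obtain ⟨k, hk, P, hP⟩ := hD
  obtain ⟨k', hk', P', hP'⟩ := hD'
  obtain ⟨x, Q, hQ⟩ := (Cfsg.Agent.S0911.result p M hM b hb k hk P g).1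
    (Cfsg.Agent.Blocks.Osima.memLocalRing_blockCoeff hM hb g) h1
  obtain ⟨x', Q', hQ'⟩ := (Cfsg.Agent.S0911.result p M hM b' hb' k' hk' P' g).2 ⟨χ, hχ, h2⟩
  rw [← hP, map_conj_normal] at hQ
  rw [← hP', map_conj_normal] at hQ'
  refine ⟨Q', ?_⟩
  refine Subgroup.eq_of_le_of_card_ge hQ' ?_
  rw [card_map_subtype, ← card_map_subtype Q]
  exact Subgroup.card_le_of_le hQ

theorem regular_of_coeff (hM : IsPModular p M) {b : Set (IrrCharacter G)}
    (hb : IsPBlock M b) {g : G} (h : blockCoeff b g ≠ 0) : ¬ p ∣ orderOf g := by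
  intro hg
  apply h
  rw [blockCoeff_def, Cfsg.Agent.S0907.result p M hM b hb 1 g (by simpa using hp.out.one_lt.ne') hg,
    mul_zero]

theorem dvd_of_mem (hM : IsPModular p M) {b : Set (IrrCharacter G)}
    (hb : IsPBlock M b) {D : Subgroup G} (hD : IsDefectGroup p M b D) {χ : IrrCharacter G}
    (hχ : χ ∈ b) : p ^ ((Nat.card G).factorization p - (Nat.card D).factorization p) ∣
      charDegree (χ : G → ℂ) := by
  have h1 := Cfsg.Agent.S0908.result p M hM b hb D hD
  have h2 : (Nat.card D).factorization p = blockDefect p b := by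
    rw [h1, factorization_pow_self']
  rw [blockDefect_def] at h2
  have h3 : sInf ((fun χ : IrrCharacter G => (charDegree (χ : G → ℂ)).factorization p) '' b) ≤
      (charDegree (χ : G → ℂ)).factorization p := Nat.sInf_le ⟨χ, hχ, rfl⟩
  have h4 : (charDegree (χ : G → ℂ)).factorization p ≤ (Nat.card G).factorization p :=
    (Nat.factorization_le_iff_dvd (charDegree_pos χ.2).ne' Nat.card_pos.ne').2
      (Cfsg.Agent.H593.GlaubermanP.charDegree_dvd χ.2) p
  refine (pow_dvd_pow p ?_).trans (Nat.ordProj_dvd (charDegree (χ : G → ℂ)) p)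
  omega

/-- A character whose block does not have `D` as a defect group. -/
theorem ideal_of_not_defect (hM : IsPModular p M) (D : Subgroup G) [D.Normal] (hD : IsPGroup p D)
    {b : Set (IrrCharacter G)} (hb : IsPBlock M b) (hbD : ¬ IsDefectGroup p M b D)
    {χ : IrrCharacter G} (hχ : χ ∈ b) {g : G} (hg : IsSylowCentralizer p g D) :
    MemLocalIdeal M (centralChar (χ : G → ℂ) g) := by
  by_contra h
  obtain ⟨k, hk⟩ := Cfsg.Agent.Blocks.Osima.exists_isDefectClass hM hb
  obtain ⟨P⟩ : Nonempty (Sylow p (Subgroup.centralizer ({k} : Set G))) := inferInstance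
  set D' := (P : Subgroup (Subgroup.centralizer ({k} : Set G))).map
      (Subgroup.centralizer ({k} : Set G)).subtype with hD'
  have hdef : IsDefectGroup p M b D' := ⟨k, hk, P, rfl⟩
  have h1 : D ≤ D' := by
    refine le_trans ?_ (Cfsg.Agent.S0912.result p M hM b hb D' hdef)
    exact le_sSup (show D ∈ {N : Subgroup G | N.Normal ∧ IsPGroup p N} from ⟨inferInstance, hD⟩)
  obtain ⟨x, Q, hQ⟩ := (Cfsg.Agent.S0911.result p M hM b hb k hk P g).2 ⟨χ, hχ, h⟩
  obtain ⟨Q', hQ'⟩ := hg
  have h2 : Nat.card D' ≤ Nat.card D := by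
    have e1 : Nat.card D = Nat.card ((Q : Subgroup (Subgroup.centralizer ({g} : Set G))).map
        (Subgroup.centralizer ({g} : Set G)).subtype) := by
      rw [hQ', card_map_subtype, card_map_subtype]
    rw [e1]
    refine le_trans (le_of_eq ?_) (Subgroup.card_le_of_le hQ)
    exact Nat.card_congr (D'.equivMapOfInjective _ (MulAut.conj x).injective).toEquiv
  have h3 : D = D' := Subgroup.eq_of_le_of_card_ge h1 h2
  exact hbD (h3 ▸ hdef)

open Classical in
/-- The block weight. -/
noncomputable def kap [Fintype (IrrCharacter G)] [M.IsPrime] (D : Subgroup G) (q : ℕ)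
    (b : Set (IrrCharacter G)) : ResField M :=
  ∑ χ : IrrCharacter G, if χ ∈ b ∧ InX D q (χ : G → ℂ) then redC M (kappa D q (χ : G → ℂ)) else 0

open Classical in
theorem blockCoeff_eq [Fintype (IrrCharacter G)] (hM : IsPModular p M) {b : Set (IrrCharacter G)}
    (hb : IsPBlock M b) {D : Subgroup G} [D.Normal] (hD : IsPGroup p D)
    (hbD : IsDefectGroup p M b D) {g : G} (hg : ¬ p ∣ orderOf g) (hgD : IsSylowCentralizer p g D) :
    blockCoeff b g =
      (((p ^ ((Nat.card G).factorization p - (Nat.card D).factorization p) : ℕ) : ℂ) /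
        (((Subgroup.centralizer ({g} : Set G)).index : ℕ) : ℂ)) *
        ∑ χ : IrrCharacter G, if χ ∈ b ∧
          InX D (p ^ ((Nat.card G).factorization p - (Nat.card D).factorization p)) (χ : G → ℂ) then
          kappa D (p ^ ((Nat.card G).factorization p - (Nat.card D).factorization p)) (χ : G → ℂ) *
            centralChar (χ : G → ℂ) g⁻¹ else 0 := by
  have := Fintype.ofFinite D
  set q := p ^ ((Nat.card G).factorization p - (Nat.card D).factorization p) with hq
  have hq0 : q ≠ 0 := pow_ne_zero _ hp.out.ne_zero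
  have hqC : (q : ℂ) ≠ 0 := Nat.cast_ne_zero.2 hq0
  have hGC : (Nat.card G : ℂ) ≠ 0 := Nat.cast_ne_zero.2 Nat.card_pos.ne'
  have hKC : ((Subgroup.centralizer ({g} : Set G)).index : ℂ) ≠ 0 :=
    Nat.cast_ne_zero.2 Subgroup.index_ne_zero_of_finite
  -- the sum over the coset
  have h1 : blockCoeff b g = ∑ x : D, blockCoeff b (x * g) := by
    rw [Finset.sum_eq_single (1 : D)]
    · simp
    · intro x _ hx
      by_contra hne
      refine regular_of_coeff hM hb hne ?_
      have hcomm : Commute (x : G) g := by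
        have := le_centralizer_of_isSylowCentralizer hgD x.2
        rw [Subgroup.mem_centralizer_singleton_iff] at this
        exact this
      have hcop : (orderOf (x : G)).Coprime (orderOf g) := by
        obtain ⟨k, hk⟩ := (IsPGroup.iff_orderOf.1 hD) x
        rw [Subgroup.orderOf_coe, hk]
        exact Nat.Coprime.pow_left _ ((Nat.Prime.coprime_iff_not_dvd hp.out).2 hg)
      rw [hcomm.orderOf_mul_eq_mul_orderOf_of_coprime hcop]
      refine Dvd.dvd.mul_right ?_ _
      obtain ⟨k, hk⟩ := (IsPGroup.iff_orderOf.1 hD) x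
      rw [Subgroup.orderOf_coe, hk]
      refine dvd_pow_self p ?_
      rintro rfl
      rw [pow_zero, orderOf_eq_one_iff] at hk
      exact hx hk
    · intro h
      exact absurd (Finset.mem_univ _) h
  have h2 : ∀ y : G, blockCoeff b y = (Nat.card G : ℂ)⁻¹ * ∑ χ : IrrCharacter G,
      if χ ∈ b then (χ : G → ℂ) 1 * conj ((χ : G → ℂ) y) else 0 := fun y =>
    Cfsg.Agent.Blocks.Osima.blockCoeff_eq_sum b y
  rw [h1]
  simp only [h2]
  rw [← Finset.mul_sum, Finset.sum_comm, Finset.mul_sum, Finset.mul_sum]
  refine Finset.sum_congr rfl fun χ _ => ?_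
  by_cases hχb : χ ∈ b
  · have hdvd : q ∣ charDegree (χ : G → ℂ) := dvd_of_mem hM hb hbD hχb
    have h3 : ∑ x : D, (if χ ∈ b then (χ : G → ℂ) 1 * conj ((χ : G → ℂ) (x * g)) else 0) =
        (χ : G → ℂ) 1 * conj (∑ x : D, (χ : G → ℂ) (x * g)) := by
      rw [map_sum, Finset.mul_sum]
      exact Finset.sum_congr rfl fun x _ => if_pos hχb
    rw [h3]
    rcases dichotomy D χ.2 with hker | hzero
    · rw [if_pos ⟨hχb, hker, hdvd⟩]
      have h4 : ∑ x : D, (χ : G → ℂ) (x * g) = (Nat.card D : ℂ) * (χ : G → ℂ) g := by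
        rw [Finset.sum_congr rfl fun (x : D) _ => hker x x.2 g, Finset.sum_const, nsmul_eq_mul,
          Nat.card_eq_fintype_card, Finset.card_univ]
      have h5 : conj ((χ : G → ℂ) g) = (χ : G → ℂ) g⁻¹ :=
        (isCharacter_apply_inv (isIrr_isCharacter χ.2) g).symm
      have h6 : (Subgroup.centralizer ({g⁻¹} : Set G)).index =
          (Subgroup.centralizer ({g} : Set G)).index := by
        congr 1
        ext x
        rw [Subgroup.mem_centralizer_singleton_iff, Subgroup.mem_centralizer_singleton_iff]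
        constructor
        · intro h
          have := congrArg (fun y => g * y * g) h
          have h7 : g * (x * g⁻¹) * g = g * x := by group
          have h8 : g * (g⁻¹ * x) * g = x * g := by group
          rw [h7, h8] at this
          exact this.symm
        · intro h
          have := congrArg (fun y => g⁻¹ * y * g⁻¹) h
          have h7 : g⁻¹ * (x * g) * g⁻¹ = g⁻¹ * x := by group
          have h8 : g⁻¹ * (g * x) * g⁻¹ = x * g⁻¹ := by group
          rw [h7, h8] at this
          exact this.symm
      have hχ1 : (χ : G → ℂ) 1 ≠ 0 := irr_one_ne_zero χ.2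
      rw [h4, map_mul, Complex.conj_natCast, h5, kappa, centralChar_def, h6]
      field_simp
    · rw [if_neg (fun h => ?_), hzero, map_zero, mul_zero, mul_zero]
      rw [mul_zero]
      have h9 := hzero 1
      rw [Finset.sum_congr rfl fun (x : D) _ => h.2.1 x x.2 1, Finset.sum_const,
        nsmul_eq_mul] at h9
      rcases mul_eq_zero.1 h9 with h9 | h9
      · rw [Finset.card_univ] at h9
        exact absurd h9 (Nat.cast_ne_zero.2 Fintype.card_ne_zero)
      · exact irr_one_ne_zero χ.2 h9
  · rw [if_neg (fun h => hχb h.1), mul_zero]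
    simp [hχb]

open Classical in
/-- The block weight does not vanish. -/
theorem kap_ne_zero [Fintype (IrrCharacter G)] [hprime : M.IsPrime] (hM : IsPModular p M)
    {b : Set (IrrCharacter G)}
    (hb : IsPBlock M b) {D : Subgroup G} [D.Normal] (hD : IsPGroup p D)
    (hbD : IsDefectGroup p M b D) :
    kap (M := M) D (p ^ ((Nat.card G).factorization p - (Nat.card D).factorization p)) b ≠ 0 := by
  set q := p ^ ((Nat.card G).factorization p - (Nat.card D).factorization p) with hq
  have hq0 : q ≠ 0 := pow_ne_zero _ hp.out.ne_zero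
  obtain ⟨g, hg, hgD⟩ := isDefectGroup_iff.1 hbD
  have hg0 : blockCoeff b g ≠ 0 := fun h => hg.2.1 (by rw [h]; exact memLocalIdeal_zero)
  have hreg := regular_of_coeff hM hb hg0
  have h1 := blockCoeff_eq hM hb hD hbD hreg hgD
  rw [← hq] at h1
  obtain ⟨ξ, hξ⟩ := isPBlock_nonempty hb
  have hmem : ∀ χ : IrrCharacter G, MemLocalRing M (if χ ∈ b ∧ InX D q (χ : G → ℂ) then
      kappa D q (χ : G → ℂ) * centralChar (χ : G → ℂ) g⁻¹ else 0) := by
    intro χ
    split_ifs with h
    · exact memLocalRing_mul (memLocalRing_kappa hM D χ.2 h.2) (memLocalRing_centralChar' hM χ.2 _)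
    · exact memLocalRing_zero
  intro h0
  apply hg.2.1
  rw [h1]
  refine memLocalIdeal_mul_left ?_ ?_
  · refine Cfsg.Agent.Blocks.DefectCard.memLocalRing_natDiv hM
      Subgroup.index_ne_zero_of_finite ?_
    rw [index_factorization hgD, hq, factorization_pow_self']
  · rw [← redC_eq_zero_iff (memLocalRing_sum fun χ _ => hmem χ), redC_sum fun χ _ => hmem χ]
    have h2 : ∀ χ : IrrCharacter G, redC M (if χ ∈ b ∧ InX D q (χ : G → ℂ) then
        kappa D q (χ : G → ℂ) * centralChar (χ : G → ℂ) g⁻¹ else 0) =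
        (if χ ∈ b ∧ InX D q (χ : G → ℂ) then redC M (kappa D q (χ : G → ℂ)) else 0) *
          redC M (centralChar (ξ : G → ℂ) g⁻¹) := by
      intro χ
      split_ifs with h
      · rw [redC_mul (memLocalRing_kappa hM D χ.2 h.2) (memLocalRing_centralChar' hM χ.2 _)]
        congr 1
        rw [redC_eq_iff (memLocalRing_centralChar' hM χ.2 _) (memLocalRing_centralChar' hM ξ.2 _)]
        exact isPBlock_sameBlock hb h.1 hξ g⁻¹
      · rw [redC_zero, zero_mul]
    rw [Finset.sum_congr rfl fun χ _ => h2 χ, ← Finset.sum_mul]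
    have h3 : ∑ χ : IrrCharacter G, (if χ ∈ b ∧ InX D q (χ : G → ℂ) then
        redC M (kappa D q (χ : G → ℂ)) else 0) = 0 := h0
    rw [h3, zero_mul]

end

end Cfsg.Agent.H593.Robinson
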