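import Mathlib
import Cfsg.Prelude.Def_Blocks
import Cfsg.Prelude.Def_Local
import Cfsg.Agent.H593.Robinson3

/-!
# Robinson's count of blocks with a normal defect group: the matrix
-/

set_option autoImplicit false
set_option linter.unusedSectionVars false
set_option linter.unusedVariables false

namespace Cfsg.Agent.H593.Robinson

open Cfsg
open scoped ComplexConjugate
open Cfsg.Agent.Blocks.Local
open Cfsg.Agent.Blocks.Basic
open Cfsg.Agent.Characters.Core

variable {G : Type*} [Group G]

section

variable [Fintype G] {p : ℕ} [hp : Fact p.Prime] {M : Ideal AlgInt} [hprime : M.IsPrime]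

/-- The blocks with defect group `D`. -/
abbrev Bl (p : ℕ) (M : Ideal AlgInt) (D : Subgroup G) : Type _ :=
  {b : Set (IrrCharacter G) // IsPBlock M b ∧ IsDefectGroup p M b D}

/-- A member of the block. -/
noncomputable def rep {D : Subgroup G} (b : Bl p M D) : IrrCharacter G :=
  (isPBlock_nonempty b.2.1).choose

theorem rep_mem {D : Subgroup G} (b : Bl p M D) : rep b ∈ b.1 :=
  (isPBlock_nonempty b.2.1).choose_spec

/-- The reduced central character of the block. -/
noncomputable def cbar {D : Subgroup G} (b : Bl p M D) (g : G) : ResField M :=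
  redC M (centralChar (rep b : G → ℂ) g)

theorem redC_centralChar_eq (hM : IsPModular p M) {D : Subgroup G} (b : Bl p M D)
    {χ : IrrCharacter G} (hχ : χ ∈ b.1) (g : G) :
    redC M (centralChar (χ : G → ℂ) g) = cbar b g := by
  rw [cbar, redC_eq_iff (memLocalRing_centralChar' hM χ.2 _) (memLocalRing_centralChar' hM (rep b).2 _)]
  exact isPBlock_sameBlock b.2.1 hχ (rep_mem b) g

theorem mul_eq_one (hM : IsPModular p M) (D : Subgroup G) [D.Normal]
    {ι : Type*} [Fintype ι] [Fintype (Bl p M D)] [DecidableEq (Bl p M D)] (r : ι → G)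
    (hinj : ∀ i j, IsConj (r i) (r j) → i = j)
    (hcov : ∀ g : G, ¬ p ∣ orderOf g → IsSylowCentralizer p g D → ∃ i, IsConj (r i) g) :
    (Matrix.of fun (b : Bl p M D) (i : ι) => cbar b (r i)) *
      (Matrix.of fun (i : ι) (b : Bl p M D) => redC M (blockCoeff b.1 (r i))) = 1 := by
  classical
  have := Fintype.ofFinite (ConjClasses G)
  ext b b'
  rw [Matrix.mul_apply, Matrix.one_apply]
  have hbb : ∀ g : G, ¬ MemLocalIdeal M (blockCoeff b'.1 g) →
      ¬ MemLocalIdeal M (centralChar (rep b : G → ℂ) g) → ∃ i, IsConj (r i) g := by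
    intro g h1 h2
    refine hcov g (regular_of_coeff hM b'.2.1 (ne_zero_of_not_memLocalIdeal h1)) ?_
    exact sylowCentralizer_of_coeff hM b'.2.1 b'.2.2 b.2.1 b.2.2 h1 (rep_mem b) h2
  have hring1 : ∀ g : G, MemLocalRing M (blockCoeff b'.1 g) := fun g =>
    Cfsg.Agent.Blocks.Osima.memLocalRing_blockCoeff hM b'.2.1 g
  have hring2 : ∀ g : G, MemLocalRing M (centralChar (rep b : G → ℂ) g) := fun g =>
    memLocalRing_centralChar' hM (rep b).2 g
  have key : ∑ i : ι, (Matrix.of fun (b : Bl p M D) (i : ι) => cbar b (r i)) b i *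
      (Matrix.of fun (i : ι) (b : Bl p M D) => redC M (blockCoeff b.1 (r i))) i b' =
      ∑ c : ConjClasses G, redC M (blockCoeff b'.1 (Quotient.out c) *
        centralChar (rep b : G → ℂ) (Quotient.out c : G)) := by
    refine Fintype.sum_of_injective (fun i => ConjClasses.mk (r i)) ?_ _ _ ?_ ?_
    · intro i j hij
      exact hinj i j (ConjClasses.mk_eq_mk_iff_isConj.1 hij)
    · intro c hc
      have hr : ConjClasses.mk (Quotient.out c : G) = c := Quotient.out_eq c
      rw [redC_mul (hring1 _) (hring2 _)]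
      by_contra h0
      have h1 : ¬ MemLocalIdeal M (blockCoeff b'.1 (Quotient.out c)) := fun h =>
        h0 (by rw [(redC_eq_zero_iff (hring1 _)).2 h, zero_mul])
      have h2 : ¬ MemLocalIdeal M (centralChar (rep b : G → ℂ) (Quotient.out c : G)) := fun h =>
        h0 (by rw [(redC_eq_zero_iff (hring2 _)).2 h, mul_zero])
      obtain ⟨i, hi⟩ := hbb _ h1 h2
      refine hc ⟨i, ?_⟩
      simp only
      rw [← hr]
      exact ConjClasses.mk_eq_mk_iff_isConj.2 hi
    · intro i
      have hr : ConjClasses.mk (Quotient.out (ConjClasses.mk (r i)) : G) = ConjClasses.mk (r i) :=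
        Quotient.out_eq _
      have hconj := ConjClasses.mk_eq_mk_iff_isConj.1 hr
      rw [redC_mul (hring1 _) (hring2 _), blockCoeff_isConj b'.1 hconj,
        centralChar_isConj (rep b).2 hconj]
      simp only [Matrix.of_apply, cbar]
      ring
  have e := redC_sum (M := M) (s := (Finset.univ : Finset (ConjClasses G)))
    (f := fun c => blockCoeff b'.1 (Quotient.out c) *
      centralChar (rep b : G → ℂ) (Quotient.out c : G))
    (fun c _ => memLocalRing_mul (hring1 _) (hring2 _))
  refine key.trans (e.symm.trans ?_)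
  by_cases hb : b = b'
  · rw [if_pos hb]
    subst hb
    rw [Cfsg.Agent.Blocks.Osima.sum_blockCoeff_mul_centralChar (rep_mem b), redC_one]
  · rw [if_neg hb, Cfsg.Agent.Blocks.Osima.sum_blockCoeff_mul_centralChar_of_notMem, redC_zero]
    intro h
    exact hb (Subtype.ext (isPBlock_eq_of_mem b.2.1 b'.2.1 (rep_mem b) h))

open Classical in
theorem group_term (hM : IsPModular p M) (D : Subgroup G) [D.Normal] (hD : IsPGroup p D)
    [Fintype (Bl p M D)] (χ : IrrCharacter G) (q : ℕ) (u v : G) (hv : IsSylowCentralizer p v D) :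
    (if InX D q (χ : G → ℂ) then redC M (kappa D q (χ : G → ℂ)) *
      redC M (centralChar (χ : G → ℂ) v) * redC M (centralChar (χ : G → ℂ) u) else 0) =
      ∑ b : Bl p M D, (if χ ∈ b.1 ∧ InX D q (χ : G → ℂ) then redC M (kappa D q (χ : G → ℂ)) else 0)
        * cbar b v * cbar b u := by
  by_cases hX : InX D q (χ : G → ℂ)
  · rw [if_pos hX]
    by_cases hd : IsDefectGroup p M (blockOf M (χ : G → ℂ)) D
    · set b : Bl p M D := ⟨blockOf M (χ : G → ℂ), isPBlock_blockOf χ, hd⟩ with hb
      have hχb : χ ∈ b.1 := mem_blockOf_self χ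
      rw [Finset.sum_eq_single b]
      · rw [if_pos ⟨hχb, hX⟩, redC_centralChar_eq hM b hχb, redC_centralChar_eq hM b hχb]
      · intro b' _ hne
        rw [if_neg, zero_mul, zero_mul]
        rintro ⟨h, -⟩
        exact hne (Subtype.ext (isPBlock_eq_of_mem b'.2.1 b.2.1 h hχb))
      · intro h
        exact absurd (Finset.mem_univ _) h
    · have h0 : redC M (centralChar (χ : G → ℂ) v) = 0 := by
        rw [redC_eq_zero_iff (memLocalRing_centralChar' hM χ.2 _)]
        exact ideal_of_not_defect hM D hD (isPBlock_blockOf χ) hd (mem_blockOf_self χ) hv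
      rw [h0, mul_zero, zero_mul]
      symm
      refine Finset.sum_eq_zero fun b _ => ?_
      rw [if_neg, zero_mul, zero_mul]
      rintro ⟨h, -⟩
      apply hd
      rw [← isPBlock_eq_blockOf b.2.1 h]
      exact b.2.2
  · rw [if_neg hX]
    symm
    refine Finset.sum_eq_zero fun b _ => ?_
    rw [if_neg (fun h => hX h.2), zero_mul, zero_mul]

open Classical in
/-- The entry of the matrix in the residue field. -/
theorem entry (hM : IsPModular p M) (D : Subgroup G) [D.Normal] (hD : IsPGroup p D)
    [Fintype (IrrCharacter G)] [Fintype (Bl p M D)] (S : Sylow p G) (u v : G)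
    (hu : IsSylowCentralizer p u D) (hu' : IsSylowCentralizer p u⁻¹ D)
    (hv : IsSylowCentralizer p v D) :
    ((Nat.card {yz : G × G // IsConj u yz.1 ∧ IsConj v yz.2 ∧
        yz.2 * yz.1⁻¹ ∈ (S : Subgroup G)} /
        p ^ ((Nat.card G).factorization p - (Nat.card D).factorization p) : ℕ) : ResField M) =
      ∑ b : Bl p M D,
        kap (M := M) D (p ^ ((Nat.card G).factorization p - (Nat.card D).factorization p)) b.1 *
          cbar b v * cbar b u⁻¹ := by
  set q := p ^ ((Nat.card G).factorization p - (Nat.card D).factorization p) with hq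
  have hq0 : q ≠ 0 := pow_ne_zero _ hp.out.ne_zero
  have hqC : (q : ℂ) ≠ 0 := Nat.cast_ne_zero.2 hq0
  have hDG : (Nat.card D).factorization p ≤ (Nat.card G).factorization p :=
    (Nat.factorization_le_iff_dvd Nat.card_pos.ne' Nat.card_pos.ne').2
      (Subgroup.card_subgroup_dvd_card D) p
  have hdvd : q ∣ Nat.card {yz : G × G // IsConj u yz.1 ∧ IsConj v yz.2 ∧
        yz.2 * yz.1⁻¹ ∈ (S : Subgroup G)} := by
    obtain ⟨Q, hQ⟩ := id hu
    have h1 := Cfsg.Agent.S0957.result p S u v Q
    have h2 : Nat.card S / Nat.card Q = q := by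
      have h3 : Nat.card Q = p ^ (Nat.card D).factorization p := by
        rw [hQ, card_map_subtype, factorization_pow_self', Q.card_eq_multiplicity]
      rw [h3, S.card_eq_multiplicity, Nat.pow_div hDG hp.out.pos]
    rwa [h2] at h1
  have h1 := pairs_congr hM D hD S u v (index_factorization hu') (index_factorization hv)
  rw [← hq] at h1
  have hmem : ∀ χ : IrrCharacter G, MemLocalRing M (if InX D q (χ : G → ℂ) then
        kappa D q (χ : G → ℂ) * centralChar (χ : G → ℂ) v * centralChar (χ : G → ℂ) u⁻¹
          else 0) := by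
    intro χ
    split_ifs with h
    · exact memLocalRing_mul (memLocalRing_mul (memLocalRing_kappa hM D χ.2 h)
        (memLocalRing_centralChar' hM χ.2 _)) (memLocalRing_centralChar' hM χ.2 _)
    · exact memLocalRing_zero
  rw [← redC_natCast, Nat.cast_div hdvd hqC, (redC_eq_iff ((memLocalRing_iff_of_sub h1).2
    (memLocalRing_sum fun χ _ => hmem χ)) (memLocalRing_sum fun χ _ => hmem χ)).2 h1,
    redC_sum fun χ _ => hmem χ]
  have h2 : ∀ χ : IrrCharacter G, redC M (if InX D q (χ : G → ℂ) then
        kappa D q (χ : G → ℂ) * centralChar (χ : G → ℂ) v * centralChar (χ : G → ℂ) u⁻¹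
          else 0) =
      ∑ b : Bl p M D, (if χ ∈ b.1 ∧ InX D q (χ : G → ℂ) then redC M (kappa D q (χ : G → ℂ)) else 0)
        * cbar b v * cbar b u⁻¹ := by
    intro χ
    rw [← group_term hM D hD χ q u⁻¹ v hv]
    split_ifs with h
    · rw [redC_mul (memLocalRing_mul (memLocalRing_kappa hM D χ.2 h)
        (memLocalRing_centralChar' hM χ.2 _)) (memLocalRing_centralChar' hM χ.2 _),
        redC_mul (memLocalRing_kappa hM D χ.2 h) (memLocalRing_centralChar' hM χ.2 _)]
    · exact redC_zero
  rw [Finset.sum_congr rfl fun χ _ => h2 χ, Finset.sum_comm]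
  refine Finset.sum_congr rfl fun b _ => ?_
  rw [← Finset.sum_mul, ← Finset.sum_mul]
  rfl

theorem isSylowCentralizer_inv {g : G} {D : Subgroup G} (h : IsSylowCentralizer p g D) :
    IsSylowCentralizer p g⁻¹ D := by
  rw [isSylowCentralizer_iff] at h ⊢
  have : Subgroup.centralizer ({g⁻¹} : Set G) = Subgroup.centralizer ({g} : Set G) := by
    ext x
    rw [Subgroup.mem_centralizer_singleton_iff, Subgroup.mem_centralizer_singleton_iff]
    constructor
    · intro h
      have := congrArg (fun y => g * y * g) h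
      have h7 : g * (x * g⁻¹) * g = g * x := by group
      have h8 : g * (g⁻¹ * x) * g = x * g := by group
      rw [h7, h8] at this
      exact this.symm
    · intro h
      have := congrArg (fun y => g⁻¹ * y * g⁻¹) h
      have h7 : g⁻¹ * (x * g) * g⁻¹ = g⁻¹ * x := by group
      have h8 : g⁻¹ * (g * x) * g⁻¹ = x * g⁻¹ := by group
      rw [h7, h8] at this
      exact this.symm
  rw [this]
  exact h

theorem isConj_inv' {a b : G} (h : IsConj a b) : IsConj a⁻¹ b⁻¹ := by
  obtain ⟨c, hc⟩ := isConj_iff.1 h
  exact isConj_iff.2 ⟨c, by rw [← hc]; group⟩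

/-- **Robinson's theorem**, for a system of representatives of the classes. -/
theorem rank_eq (hM : IsPModular p M) (D : Subgroup G) [D.Normal] (hD : IsPGroup p D)
    (S : Sylow p G) {ι : Type*} [Fintype ι] (r : ι → G)
    (hinj : ∀ i j, IsConj (r i) (r j) → i = j) (hreg : ∀ i, IsSylowCentralizer p (r i) D)
    (hcov : ∀ g : G, ¬ p ∣ orderOf g → IsSylowCentralizer p g D → ∃ i, IsConj (r i) g) :
    (Matrix.of fun i j : ι => ((Nat.card {yz : G × G // IsConj (r i) yz.1 ∧ IsConj (r j) yz.2 ∧
      yz.2 * yz.1⁻¹ ∈ (S : Subgroup G)} /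
        p ^ ((Nat.card G).factorization p - (Nat.card D).factorization p) : ℕ) : ZMod p)).rank =
      Nat.card (Bl p M D) := by
  classical
  have : Finite (IrrCharacter G) := finite_irr
  have := Fintype.ofFinite (IrrCharacter G)
  have : Finite (Bl p M D) := Subtype.finite
  have := Fintype.ofFinite (Bl p M D)
  have := charP_resField hM
  have hVE := mul_eq_one hM D r hinj hcov
  have hVE' := mul_eq_one hM D (fun i => (r i)⁻¹)
    (fun i j h => hinj i j (by have := isConj_inv' h; rwa [inv_inv, inv_inv] at this))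
    (fun g hg hgD => by
      obtain ⟨i, hi⟩ := hcov g⁻¹ (by rwa [orderOf_inv]) (isSylowCentralizer_inv hgD)
      exact ⟨i, by have := isConj_inv' hi; rwa [inv_inv] at this⟩)
  rw [← RobinsonRank.rank_map (ZMod.castHom (dvd_refl p) (ResField M)),
    Nat.card_eq_fintype_card (α := Bl p M D)]
  refine RobinsonRank.rank_of_factor _ _ _ _
    (fun b : Bl p M D => kap (M := M) D
      (p ^ ((Nat.card G).factorization p - (Nat.card D).factorization p)) b.1)
    (fun b => kap_ne_zero hM b.2.1 hD b.2.2) hVE hVE' _ ?_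
  ext i j
  rw [Matrix.map_apply, Matrix.of_apply, map_natCast,
    entry hM D hD S (r i) (r j) (hreg i) (isSylowCentralizer_inv (hreg i)) (hreg j),
    Matrix.mul_apply]
  refine Finset.sum_congr rfl fun b _ => ?_
  rw [Matrix.mul_diagonal, Matrix.transpose_apply, Matrix.of_apply, Matrix.of_apply]
  ring

end

end Cfsg.Agent.H593.Robinson
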